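import Cfsg.Agent.Lib.E3L.TI
import Cfsg.Agent.Lib.U20.Id
import Cfsg.Agent.Lib.U20.Mod

set_option autoImplicit false
set_option linter.unusedSectionVars false

namespace H7.E3.KMx

open Subgroup Cfsg H94.U20

theorem k12 {X Y : Type*} [Group X] [Finite X] [Group Y] {A : Subgroup X}
    (hA : Nat.card A = 2 ^ 20) (sq : ∀ a ∈ A, a * a = 1) (φ : Y →* X) (π : Y →* P)
    (hπ : Function.Surjective π) (ker : ∀ c, π c = 1 ↔ φ c ∈ A) (nA : ∀ c, cn (φ c) A = A)
    (nrm : ∀ g, cn g A = A → ∀ c, ∃ c', g * φ c * g⁻¹ = φ c')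
    (cen : ∀ g, cn g A = A → (∀ c, g * φ c * g⁻¹ * (φ c)⁻¹ ∈ A) → g ∈ A) (AV : A ≤ φ.range)
    (idx : φ.range.relIndex (normalizer (A : Set X)) ∣ 6)
    (nt : ∃ c, ∃ a ∈ A, φ c * a ≠ a * φ c) :
    (∀ g, cn g A = A → ∀ U ≤ A, Nat.card A ≤ 8 * Nat.card U → (∀ u ∈ U, g * u = u * g) → g ∈ A) ∧
    ∀ B : Subgroup X, (∀ b ∈ B, b * b = 1 ∧ cn b A = A) → ∀ A₀ ≤ A,
      (∀ a ∈ A, ∀ a' ∈ A, a ∉ A₀ → a' ∉ A₀ → a * a' ∈ A₀) →
      (∀ a ∈ A₀, ∀ b ∈ B, ∀ c ∈ B, c * (b * a * b⁻¹ * a) = b * a * b⁻¹ * a * c) →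
      ∀ U ≤ A, (∀ b ∈ B, ∀ u ∈ U, b * u = u * b) →
      Nat.card A * Nat.card ↥(B ⊓ A) ≤ 2 * (Nat.card U * Nat.card B) → B ≤ A := by
  have i : ∀ a ∈ A, a⁻¹ = a := fun a h => inv_eq_of_mul_eq_one_left (sq a h)
  have cm : ∀ a ∈ A, ∀ b ∈ A, a * b = b * a := fun a ha b hb => by
    rw [← i _ (mul_mem ha hb), mul_inv_rev, i _ ha, i _ hb]
  obtain ⟨M, _, _, _, e, e1, e2, e3⟩ := exists_mod (K := normalizer (A : Set X)) sq
    fun k hk => mem_norm.1 hk
  have eA : ∀ m, e m ∈ A := fun m => e2 ▸ ⟨m, rfl⟩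
  have Ae : ∀ a ∈ A, ∃ m : M, e (.ofAdd m) = a := fun a ha => (e2.symm ▸ ha : a ∈ e.range)
  obtain ⟨t, t1, t2⟩ : ∃ t : Subgroup X → AddSubgroup M, (∀ U m, m ∈ t U ↔ e (.ofAdd m) ∈ U) ∧
      ∀ U ≤ A, Nat.card (t U) = Nat.card U :=
    ⟨fun U => (U.comap e).toAddSubgroup', fun _ _ => Iff.rfl, fun U hU => by
      conv_rhs => rw [← map_comap_eq_self (e2.symm ▸ hU : U ≤ e.range), card_map_of_injective e1]
      rfl⟩
  have fx : ∀ (k : normalizer (A : Set X)) (m : M),
      k • m = m ↔ k * e (.ofAdd m) = e (.ofAdd m) * k := fun k m => by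
    rw [← mul_inv_eq_iff_eq_mul, ← e3, e1.eq_iff, Multiplicative.ofAdd.apply_eq_iff_eq]
  have ea : ∀ a b : M, e (.ofAdd a) * e (.ofAdd b) = e (.ofAdd (a + b)) := fun a b =>
    (map_mul e _ _).symm
  have hc : Nat.card M = 2 ^ 20 := by
    rw [← hA, ← t2 A le_rfl, (AddSubgroup.eq_top_iff' _).2 fun m => (t1 A m).2 (eA _),
      AddSubgroup.card_top]
  have c2 : ∀ a : M, a + a = 0 := fun a => by
    rw [← two_smul (ZMod 2), show (2 : ZMod 2) = 0 from rfl, zero_smul]
  have c3 : ∀ {a b : M}, a + b = 0 ↔ a = b := fun {a b} => by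
    rw [add_eq_zero_iff_eq_neg, neg_eq_of_add_eq_zero_left (c2 b)]
  obtain ⟨ρ, hρ⟩ : ∃ ρ : normalizer (A : Set X) →* (AddMonoid.End M)ˣ, ∀ k (m : M), ρ k • m = k • m :=
    ⟨(DistribMulAction.toAddMonoidEnd _ M).toHomUnits, fun _ _ => rfl⟩
  have ρ1 : ∀ k, ρ k = 1 ↔ ∀ m : M, k • m = m := fun k =>
    ⟨fun h m => by rw [← hρ, h, one_smul], fun h => Units.ext (AddMonoidHom.ext fun m =>
      (hρ k m).trans (h m))⟩
  let ψ : Y →* normalizer (A : Set X) := φ.codRestrict _ fun c => mem_norm.2 (nA c)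
  obtain ⟨ι, hι⟩ : ∃ ι : P →* (AddMonoid.End M)ˣ, ∀ c, ι (π c) = ρ (ψ c) :=
    ⟨π.liftOfSurjective hπ ⟨ρ.comp ψ, fun c h => (ρ1 _).2 fun m => (fx _ _).2
      (cm _ ((ker c).1 h) _ (eA _))⟩, fun c => π.liftOfRightInverse_comp_apply _ _ _ c⟩
  have hn : ∃ c, ∃ m : M, ψ c • m ≠ m := by
    obtain ⟨c, a, ha, h⟩ := nt
    obtain ⟨m, rfl⟩ := Ae a ha
    exact ⟨c, m, fun k => h ((fx _ _).1 k)⟩
  have i1 : Function.Injective ι := by
    have := simpleP
    rcases ι.normal_ker.eq_bot_or_eq_top with h | h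
    · exact ι.ker_eq_bot_iff.1 h
    · obtain ⟨c, m, hm⟩ := hn
      exact absurd ((ρ1 _).1 ((hι c).symm.trans (h.ge (mem_top (π c)))) m) hm
  let _ : DistribMulAction P M := DistribMulAction.compHom M ι
  obtain ⟨⟨T, hT⟩, -⟩ := ident hc (by
    obtain ⟨c, m, hm⟩ := hn
    exact ⟨π c, m, fun k => hm (by rw [← hρ, ← hι]; exact k)⟩)
  replace hT : ∀ g u, T (g • u) = ι (mkP g) • T u := hT
  have k1 : ∀ g, cn g A = A → ∀ U ≤ A, Nat.card A ≤ 8 * Nat.card U → (∀ u ∈ U, g * u = u * g) →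
      g ∈ A := fun g hg U hU h1 h2 => by
    let g' : normalizer (A : Set X) := ⟨g, mem_norm.2 hg⟩
    have d : ∀ c, ∃ c', g * φ c * g⁻¹ = φ c' ∧ ρ g' * ι (π c) * (ρ g')⁻¹ = ι (π c') := fun c => by
      obtain ⟨c', h⟩ := nrm g hg c
      refine ⟨c', h, ?_⟩
      rw [hι, hι, ← map_inv, ← map_mul, ← map_mul]
      exact congrArg ρ (Subtype.ext h)
    refine cen g hg fun c => ?_
    have := commute_of_fix i1 hT (σ := ρ g') (fun p => by
        obtain ⟨c, rfl⟩ := hπ p
        obtain ⟨c', -, h⟩ := d c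
        exact ⟨_, h⟩) (U := t U) (by rw [t2 U hU]; omega)
      (fun m hm => by rw [hρ]; exact (fx _ _).2 (h2 _ ((t1 _ _).1 hm))) (π c)
    obtain ⟨c', h, h'⟩ := d c
    rw [this, mul_inv_cancel_right] at h'
    rw [h, ← map_inv, ← map_mul, ← ker, map_mul, ← i1 h', map_inv, mul_inv_cancel]
  refine ⟨k1, fun B hB W hW w1 w2 U hU u1 u2 => ?_⟩
  have act : ∀ c (m : M), e (.ofAdd (ι (π c) • m)) = φ c * e (.ofAdd m) * (φ c)⁻¹ := fun c m => by
    rw [hι, hρ, e3]; rfl
  have k : 2 ^ 18 ≤ Nat.card U * Nat.card ((B.comap φ).map π) := by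
    have a : Nat.card ((B.comap φ).map π) = A.relIndex (φ.range ⊓ B) := by
      rw [← relIndex_ker, show π.ker = A.comap φ from Subgroup.ext ker, relIndex_comap,
        map_comap_eq]
    have b : φ.range.relIndex B ≤ 2 := by
      have BN : B ≤ normalizer (A : Set X) := fun b hb => mem_norm.2 (hB b hb).2
      have : (φ.range.subgroupOf (normalizer (A : Set X))).Normal := ⟨fun n hn g => by
        obtain ⟨c, hc⟩ := hn
        obtain ⟨c', h⟩ := nrm g (mem_norm.1 g.2) c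
        exact ⟨c', by rw [← h, hc]; rfl⟩⟩
      have b1 := relIndex_dvd_index_of_normal (φ.range.subgroupOf (normalizer (A : Set X)))
        (B.subgroupOf (normalizer (A : Set X)))
      rw [relIndex_subgroupOf BN] at b1
      have : Fact (Nat.Prime 2) := ⟨Nat.prime_two⟩
      obtain ⟨n, hn⟩ := IsPGroup.iff_card.1 (show IsPGroup 2 B from fun b =>
        ⟨1, Subtype.ext (by simpa [pow_two] using (hB b b.2).1)⟩)
      have b2 : φ.range.relIndex B ∣ 2 ^ n := hn ▸ relIndex_dvd_card _ _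
      exact Nat.le_of_dvd (by norm_num) (Nat.Coprime.dvd_of_dvd_mul_right
        (Nat.Coprime.coprime_dvd_left b2 (Nat.Coprime.pow_left n (by norm_num : Nat.Coprime 2 3)))
        (b1.trans idx))
    have c := card_rel (inf_le_left : B ⊓ A ≤ B)
    rw [← relIndex_mul_relIndex (B ⊓ A) (φ.range ⊓ B) B
      (le_inf (inf_le_right.trans AV) inf_le_left) inf_le_right, inf_relIndex_right,
      show B ⊓ A = A ⊓ (φ.range ⊓ B) from le_antisymm
        (le_inf inf_le_right (le_inf (inf_le_right.trans AV) inf_le_left))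
        (le_inf (inf_le_right.trans inf_le_right) inf_le_left), inf_relIndex_right, ← a] at c
    rw [show B ⊓ A = A ⊓ (φ.range ⊓ B) from le_antisymm
        (le_inf inf_le_right (le_inf (inf_le_right.trans AV) inf_le_left))
        (le_inf (inf_le_right.trans inf_le_right) inf_le_left), ← c, hA] at u2
    have p : 0 < Nat.card ↥(A ⊓ (φ.range ⊓ B)) := Nat.card_pos
    have := u2.trans (Nat.mul_le_mul_left 2 (Nat.mul_le_mul_left _ (Nat.mul_le_mul_left _
      (Nat.mul_le_mul_left _ b))))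
    nlinarith
  have e0 := eq_bot_of_quad hT ((B.comap φ).map π) ?_ ?_ (U := t U) ?_ (by rwa [t2 U hU])
  · rw [e0, card_bot, mul_one] at k
    exact fun b hb => k1 b (hB b hb).2 U hU (by omega) (u1 b hb)
  · rintro _ ⟨c, hc, rfl⟩
    rw [← map_mul, ker, map_mul, (hB _ hc).1]
    exact one_mem _
  · rintro _ ⟨c, hc, rfl⟩ _ ⟨d, hd, rfl⟩
    have z : ∀ a ∈ t W, ι (π c) • ι (π d) • a + ι (π c) • a + ι (π d) • a + a = 0 := fun a ha => by
      have : ι (π c) • (ι (π d) • a + a) = ι (π d) • a + a := by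
        refine Multiplicative.ofAdd.injective (e1 ?_)
        rw [act, ← ea, act, w2 _ ((t1 _ _).1 ha) _ hd _ hc, mul_inv_cancel_right]
      rw [add_assoc, ← smul_add, this, c2]
    by_cases w : ∃ w, w ∉ t W
    · obtain ⟨w, hw⟩ := w
      refine ⟨ι (π c) • ι (π d) • w + ι (π c) • w + ι (π d) • w + w, fun a => ?_⟩
      by_cases ha : a ∈ t W
      · exact Or.inl (z a ha)
      refine Or.inr (c3.1 ?_)
      rw [← z (a + w) (by
        rw [t1] at ha hw ⊢
        exact ea a w ▸ w1 _ (eA _) _ (eA _) ha hw)]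
      simp only [smul_add]
      abel
    · exact ⟨0, fun a => Or.inl (z a (not_not.1 fun k => w ⟨a, k⟩))⟩
  · rintro _ ⟨c, hc, rfl⟩ m hm
    refine Multiplicative.ofAdd.injective (e1 ?_)
    rw [act, u1 _ hc _ ((t1 _ _).1 hm), mul_inv_cancel_right]

variable {G : Type*} [Group G] {S : Subgroup G} {s : G}

open Classical in
/-- the squaring map -/
noncomputable def Qf (g : G) : ZMod 2 := if g * g = 1 then 0 else 1

theorem qf_congr {a b : G} (h : a * a = 1 ↔ b * b = 1) : Qf a = Qf b := by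
  unfold Qf
  by_cases e : b * b = 1
  · rw [if_pos e, if_pos (h.2 e)]
  · rw [if_neg e, if_neg fun k => e (h.1 k)]

theorem bq (es : H95.ES S s) {a b : G} (ha : a ∈ S) (hb : b ∈ S) :
    (Qf (a * b) + Qf a + Qf b = 0 ∧ a * b = b * a) ∨
      (Qf (a * b) + Qf a + Qf b = 1 ∧ a * b ≠ b * a) := by
  have z1 := es.ne_one
  have zz := es.sq
  by_cases hc : a * b = b * a
  · have e : a * b * (a * b) = a * a * (b * b) := by
      calc a * b * (a * b) = a * (b * a) * b := by group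
        _ = _ := by rw [← hc]; group
    refine Or.inl ⟨?_, hc⟩
    unfold Qf
    rw [e]
    rcases es.sq_mem ha with p | p <;> rcases es.sq_mem hb with q | q <;>
      simp only [p, q, one_mul, mul_one, z1, zz, if_true, if_false] <;> decide
  · have e : a * b * (a * b) = a * a * (b * b) * s := by
      have e1 := (es.comm b hb a ha).resolve_left (Ne.symm hc)
      calc a * b * (a * b) = a * (b * a) * b := by group
        _ = a * a * b * (s * b) := by rw [e1]; group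
        _ = _ := by rw [← es.central b hb]; group
    refine Or.inr ⟨?_, hc⟩
    unfold Qf
    rw [e]
    rcases es.sq_mem ha with p | p <;> rcases es.sq_mem hb with q | q <;>
      simp only [p, q, one_mul, mul_one, z1, zz, if_true, if_false] <;> decide

theorem b_add (es : H95.ES S s) {a b c : G} (ha : a ∈ S) (hb : b ∈ S) (hc : c ∈ S) :
    Qf (a * (b * c)) + Qf a + Qf (b * c) =
      Qf (a * b) + Qf a + Qf b + (Qf (a * c) + Qf a + Qf c) := by
  rcases bq es ha (mul_mem hb hc) with ⟨e1, f1⟩ | ⟨e1, f1⟩ <;>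
    rcases bq es ha hb with ⟨e2, f2⟩ | ⟨e2, f2⟩ <;> rcases bq es ha hc with ⟨e3, f3⟩ | ⟨e3, f3⟩ <;>
    rw [e1, e2, e3]
  · rfl
  · rw [← mul_assoc, f2, mul_assoc, mul_assoc] at f1
    exact absurd (mul_left_cancel f1) f3
  · rw [mul_assoc, ← f3, ← mul_assoc, ← mul_assoc] at f1
    exact absurd (mul_right_cancel f1) f2
  · rfl
  · exact absurd (by rw [← mul_assoc, f2, mul_assoc, f3, mul_assoc]) f1
  · rfl
  · rfl
  · exact absurd (es.mul_comm_of_ne ha hb hc (Ne.symm f2) (Ne.symm f3)).symm f1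

end H7.E3.KMx

namespace H7.E3

open Subgroup Cfsg H7.F3
open H94.U20 (cn)
open H87.U6 (F3 f3_cases pw_add pw_zero pw_one pw_two pw_neg pw_mul pw_inj mem_zp cj_pw cm_cj)

variable {G : Type*} [Group G] [Finite G] {z y : G} {l l' : V6 → G} {r r' : Fin 3 → G} {J S : Subgroup G}

theorem km {s x : G} {U : Subgroup G} (es : H95.ES S s) (card : Nat.card S = 2 ^ 21) (u : UD S U) (xU : x ∈ U)
    (yU : y ∈ U) (x3 : x ^ 3 = 1) (y3 : y ^ 3 = 1) (c : x * y = y * x)
    (fix : ∀ a ∈ S, a * x = x * a → a * y = y * a → a = 1 ∨ a = s)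
    (cx : ∀ g, g * s = s * g → g * x = x * g → g ∈ normalizer (S : Set G))
    (cy : ∀ g, g * s = s * g → g * y = y * g → g ∈ normalizer (S : Set G)) : H95.L3 S s := by
  set C := centralizer ({s} : Set G) with hC
  have mC : ∀ g : C, (g : G) * s = s * g := fun g => mem_centralizer_singleton_iff.1 g.2
  have NC : normalizer (S : Set G) ≤ C := es.normalizer_le
  have SC : S ≤ C := es.le_centralizer
  have UC : U ≤ C := u.le'.trans NC
  obtain ⟨X, _, _, f, f1, f2⟩ : ∃ (X : Type _) (_ : Group X) (_ : Finite X) (f : C →* X),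
      Function.Surjective f ∧ ∀ g : C, f g = 1 ↔ (g : G) = 1 ∨ (g : G) = s := by
    have : ((zpowers s).subgroupOf C).Normal := ⟨fun n hn g => by
      rcases es.mem_zpowers.1 (mem_subgroupOf.1 hn) with e | e
      · exact mem_subgroupOf.2 (by simp [e])
      · exact mem_subgroupOf.2 (by simp [e, mC g])⟩
    exact ⟨C ⧸ (zpowers s).subgroupOf C, inferInstance, inferInstance, QuotientGroup.mk' _,
      QuotientGroup.mk'_surjective _, fun g => (QuotientGroup.eq_one_iff g).trans es.mem_zpowers⟩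
  have f3 : ∀ g k : C, f g = f k ↔ (g : G) = k ∨ (g : G) = k * s := fun g k => by
    rw [← inv_mul_eq_one, ← map_inv, ← map_mul, f2, coe_mul, coe_inv, inv_mul_eq_one,
      inv_mul_eq_iff_eq_mul]
    refine or_congr Iff.rfl ⟨fun e => ?_, fun e => ?_⟩ <;> rw [e, mul_assoc, es.sq, mul_one]
  have mp : ∀ H : Subgroup G, s ∈ H → ∀ g : C, f g ∈ (H.subgroupOf C).map f ↔ (g : G) ∈ H :=
    fun H hs g => ⟨by
      rintro ⟨k, hk, e⟩
      rcases (f3 _ _).1 e.symm with e | e <;> rw [e]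
      exacts [hk, mul_mem hk hs], fun h => ⟨g, h, rfl⟩⟩
  set A := (S.subgroupOf C).map f with hA
  have mA : ∀ g : C, f g ∈ A ↔ (g : G) ∈ S := mp S es.mem
  have nA : ∀ g : C, cn (f g) A = A ↔ (g : G) ∈ normalizer (S : Set G) := fun g => by
    rw [← H94.U20.mem_norm, mem_normalizer_iff, mem_normalizer_iff, f1.forall]
    simp only [← map_inv, ← map_mul, mA, coe_mul, coe_inv]
    refine ⟨fun h k => ⟨fun hk => (h ⟨k, SC hk⟩).1 hk, fun hk => ?_⟩, fun h k => h k⟩
    have : k ∈ C := by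
      simpa [mul_assoc] using mul_mem (mul_mem (inv_mem g.2) (SC hk)) g.2
    exact (h ⟨k, this⟩).2 hk
  have cA : Nat.card A = 2 ^ 20 := by
    have a := H94.U20.card_rel (U := f.ker) (A := S.subgroupOf C) fun g hg => by
      rcases (f2 g).1 hg with e | e <;> rw [mem_subgroupOf, e]
      exacts [one_mem _, es.mem]
    rw [relIndex_ker, Nat.card_congr (subgroupOfEquivOfLe SC).toEquiv, card,
      show f.ker = (zpowers s).subgroupOf C from Subgroup.ext fun g =>
        (f2 g).trans es.mem_zpowers.symm,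
      Nat.card_congr (subgroupOfEquivOfLe (es.zpowers_le.trans SC)).toEquiv, Nat.card_zpowers,
      es.orderOf_eq, ← hA] at a
    omega
  have sqA : ∀ a ∈ A, a * a = 1 := by
    rintro _ ⟨a, ha, rfl⟩
    rw [← map_mul, f2]
    exact es.sq_mem ha
  have three : ∀ w g : C, (w : G) ^ 3 = 1 → f g * f w = f w * f g → (g : G) * w = w * g := by
    intro w g w3 h
    rw [← mul_inv_eq_iff_eq_mul, ← map_inv, ← map_mul, ← map_mul, f3] at h
    rcases h with h | h
    · exact mul_inv_eq_iff_eq_mul.1 h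
    · have : ((w : G) * s) ^ 3 = 1 := by rw [← h, coe_mul, coe_mul, coe_inv, conj_pow, w3]; group
      rw [(show Commute (w : G) s from mC w).mul_pow, w3, one_mul, pow_succ, sq, es.sq,
        one_mul] at this
      exact absurd this es.ne_one
  obtain ⟨F, _, _, hF, π, π1, π2⟩ := u.iso
  obtain ⟨i⟩ := H30.F4.nonempty_ringEquiv hF
  let φ : U →* X := f.comp (inclusion UC)
  have rg : φ.range = (U.subgroupOf C).map f := by
    ext w
    exact ⟨fun ⟨c, e⟩ => ⟨inclusion UC c, c.2, e⟩, fun ⟨c, hc, e⟩ => ⟨⟨c, hc⟩, e⟩⟩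
  have fx : ∀ a ∈ A, f ⟨x, UC xU⟩ * a = a * f ⟨x, UC xU⟩ → f ⟨y, UC yU⟩ * a = a * f ⟨y, UC yU⟩ →
      a = 1 := by
    rintro _ ⟨a, ha, rfl⟩ h1 h2
    exact (f2 a).2 (fix a ha (three _ a x3 h1.symm) (three _ a y3 h2.symm))
  obtain ⟨k1, k2⟩ := KMx.k12 cA sqA φ ((H30.psuCongr i 6 2).toMonoidHom.comp π)
    ((H30.psuCongr i 6 2).surjective.comp π1)
    (fun c => ((H30.psuCongr i 6 2).map_eq_one_iff.trans (π2 c)).trans (mA (inclusion UC c)).symm)
    (fun c => (nA (inclusion UC c)).2 (u.le' c.2))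
    (f1.forall.2 fun g hg c => ⟨⟨g * c * (g : G)⁻¹, u.nrm g ((nA g).1 hg) c c.2⟩, by
      rw [← map_inv]
      exact ((map_mul f _ _).trans (congrArg (· * _) (map_mul f _ _))).symm⟩)
    (f1.forall.2 fun g hg h => (mA g).2 (u.cen g ((nA g).1 hg) fun w hw => by
      have := h ⟨w, hw⟩
      change f g * f ⟨w, UC hw⟩ * (f g)⁻¹ * (f ⟨w, UC hw⟩)⁻¹ ∈ A at this
      rw [← map_inv, ← map_inv, ← map_mul, ← map_mul, ← map_mul, mA] at this
      exact this))
    (by rw [rg]; exact map_mono (subgroupOf_mono _ u.le)) (by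
      have e1 : normalizer (A : Set X) = ((normalizer (S : Set G)).subgroupOf C).map f := by
        ext w
        obtain ⟨g, rfl⟩ := f1 w
        rw [H94.U20.mem_norm, nA, mp _ (le_normalizer es.mem)]
      have e2 : φ.range.comap f = U.subgroupOf C := by
        ext g
        rw [mem_comap, rg, mp _ (u.le es.mem), mem_subgroupOf]
      rw [e1, ← relIndex_comap, e2, relIndex_subgroupOf NC]
      exact u.idx) (by
      obtain ⟨a, ha, b, hb, n⟩ := es.nonab
      by_contra! h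
      rcases (f2 _).1 (fx (f ⟨a, SC ha⟩) ((mA _).2 ha) (h ⟨x, xU⟩ _ ((mA _).2 ha))
        (h ⟨y, yU⟩ _ ((mA _).2 ha))) with e | e
      · exact n (by rw [show a = 1 from e, one_mul, mul_one])
      · exact n (by rw [show a = s from e, es.central b hb]))
  obtain ⟨q, hq⟩ : ∃ q : X → ZMod 2, ∀ g : C, q (f g) = KMx.Qf (g : G) :=
    ⟨fun w => KMx.Qf ((Function.surjInv f1 w : C) : G), fun g => by
      rcases (f3 _ _).1 (Function.surjInv_eq f1 (f g)) with e | e
      · simp only [e]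
      · have : (g : G) * s * (g * s) = g * g := by
          calc (g : G) * s * (g * s) = g * (s * g) * s := by group
            _ = g * g * (s * s) := by rw [← mC]; group
            _ = _ := by rw [es.sq, mul_one]
        exact KMx.qf_congr (by rw [e, this])⟩
  have K : KG A q fun a b => q (a * b) + q a + q b := by
    refine ⟨sqA, k1, k2, fun _ _ => rfl, ?_, f1.forall.2 fun g _ => ?_, ?_,
      f ⟨x, UC xU⟩, f ⟨y, UC yU⟩, (nA _).2 (u.le' xU), (nA _).2 (u.le' yU), ?_, ?_, ?_, fx,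
      f1.forall.2 fun g h => (nA g).2 (cx g (mC g) (three _ g x3 h)),
      f1.forall.2 fun g h => (nA g).2 (cy g (mC g) (three _ g y3 h))⟩
    · rintro _ ⟨a, ha, rfl⟩ _ ⟨b, hb, rfl⟩ _ ⟨c, hc, rfl⟩
      simp only [← map_mul, hq, coe_mul]
      exact KMx.b_add es ha hb hc
    · rintro _ ⟨a, ha, rfl⟩
      simp only [← map_inv, ← map_mul, hq, coe_mul, coe_inv]
      exact KMx.qf_congr (by rw [conj_mul, conj_eq_one_iff])
    · rintro _ ⟨a, ha, rfl⟩ h
      refine (f2 a).2 (es.nondeg a ha fun b hb => ?_)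
      have := h (f ⟨b, SC hb⟩) ((mA _).2 hb)
      simp only [← map_mul, hq, coe_mul] at this
      rcases KMx.bq es ha hb with ⟨-, e⟩ | ⟨e, -⟩
      · exact e
      · exact absurd (this.symm.trans e) (by decide)
    · rw [← map_pow]; exact (f2 _).2 (Or.inl x3)
    · rw [← map_pow]; exact (f2 _).2 (Or.inl y3)
    · rw [← map_mul, ← map_mul]; exact congrArg f (Subtype.ext c)
  have nm : ∀ g, g * s = s * g → g ∈ normalizer (S : Set G) := fun g hg =>
    (nA ⟨g, mem_centralizer_singleton_iff.2 hg⟩).1 (K.normal _)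
  refine ⟨es, fun g hg => ?_, nm⟩
  have gs := (hg s es.mem).symm
  refine es.nondeg g ((mA ⟨g, mem_centralizer_singleton_iff.2 gs⟩).1 (k1 _ (K.normal _) A le_rfl
    (by omega) ?_)) fun b hb => (hg b hb).symm
  rintro _ ⟨a, ha, rfl⟩
  rw [← map_mul, ← map_mul]
  exact congrArg f (Subtype.ext (hg a ha).symm)

end H7.E3
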