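import Cfsg.Agent.Lib.E3L.MUa
import Cfsg.Agent.Lib.U63.MainU
import Cfsg.Agent.Lib.Comp.FStar

/-! `N(S) / S` lies between `U₆(2)` and its automorphism group. -/

set_option autoImplicit false
set_option linter.unusedSectionVars false

namespace H7.E3

open Subgroup Cfsg H7.F3

variable {G : Type*} [Group G] [Finite G] {z y : G} {l : V6 → G} {r : Fin 3 → G} {J S : Subgroup G}

theorem St.mu (h : St z l r y J) (d : SD z l r y J S)
    (zM : ∀ g, g * r 0 = r 0 * g → g * z = z * g → g ∈ normalizer (S : Set G)) :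
    ∃ U, UD S U ∧ z ∈ U ∧ y ∈ U := by
  have c : MUx.Cx z l r y J S := ⟨h, d, zM⟩
  obtain ⟨i1, j1, i2, j2, p, nt⟩ := c.exP
  obtain ⟨e, hc⟩ := H87.U6.mainU p nt c.nw'
  obtain ⟨U, u, k⟩ := MUx.ud_of _ hc e
  exact ⟨U, u, c.fin u k⟩

end H7.E3
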