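import Cfsg.Agent.Lib.E3L.Fj

/-! The action of `N(J)` on `J₀`. -/

set_option autoImplicit false
set_option linter.unusedSectionVars false

namespace H7.E3

open Subgroup Cfsg H7.F3
open H87.U6 (F3 f3_cases pw_add pw_zero pw_one pw_two pw_neg pw_mul pw_inj mem_zp cj_pw cm_cj)

variable {G : Type*} [Group G] [Finite G] {z y : G} {l l' : V6 → G} {r r' : Fin 3 → G} {J S : Subgroup G}

namespace NJx

/-- the number of singular vectors `s` such that `s + x` is singular -/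
def cnt (x : V5) : ℕ := (Finset.univ.filter fun s : V5 => q5 s = 0 ∧ q5 (s + x) = 0).card

theorem eqns_cnt : True := by
  have := @cnt.eq_1
  trivial

theorem cnt_eq : ∀ x : V5, q5 x ≠ 0 → (cnt x = 30 ↔ q5 x = 1) := by decide +kernel

theorem span : ∀ x : V5, ∃ s, q5 s = 0 ∧ q5 (x - s) = 0 := by decide +kernel

theorem units : ∀ (i : Fin 3) (u : X3), ∑ j, u j * u j = 1 → ∃ j, u = sg j * Pi.single i 1 ∨
    u = sg j * (Pi.single i 1 ∘ ro) ∨ u = sg j * ((Pi.single i 1 ∘ ro) ∘ ro) := by decide +kernel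

theorem rf_eq : ∀ (i : Fin 3) (x : V5), rf i x = x - (b5 x (0, Pi.single i 1, 0)).val • (0, Pi.single i 1, 0) := by
  decide +kernel

theorem isom {φ : V5 → V5} (a : ∀ x x', φ (x + x') = φ x + φ x') (b : Function.Bijective φ)
    (q : ∀ x, q5 (φ x) = 0 ↔ q5 x = 0) (x : V5) : q5 (φ x) = q5 x := by
  by_cases e : q5 x = 0
  · rw [e, (q x).2 e]
  have e' := (q x).not.2 e
  have c : cnt (φ x) = cnt x := (Finset.card_bijective φ b fun s => by simp [← a, q]).symm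
  have := (cnt_eq _ e').symm.trans (c ▸ cnt_eq _ e)
  exact (by decide : ∀ a b : F3, a ≠ 0 → b ≠ 0 → (a = 1 ↔ b = 1) → a = b) _ _ e' e this

theorem iso (h : St0 z l r y J) {n : G} (hn : n ∈ normalizer (J : Set G)) :
    ∃ φ : V5 → V5, (∀ x x', φ (x + x') = φ x + φ x') ∧ Function.Bijective φ ∧
      (∀ x, q5 (φ x) = q5 x) ∧ ∀ x, n * fj z l y x * n⁻¹ = fj z l y (φ x) := by
  have s1 : ∀ x, q5 x = 0 → ∃ x', q5 x' = 0 ∧ n * fj z l y x * n⁻¹ = fj z l y x' := fun x e => by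
    by_cases x0 : x = 0
    · exact ⟨0, by decide, by rw [x0, h.f_zero]; group⟩
    obtain ⟨g, hg⟩ := isConj_iff.1 (h.cnj x x0 e)
    have e1 : n * g * z * (n * g)⁻¹ = n * fj z l y x * n⁻¹ := by rw [← hg]; group
    exact e1 ▸ h.sing (n * g) (e1 ▸ (mem_normalizer_iff.1 hn _).1 (h.fJ x))
  have s2 : ∀ x, ∃ x', n * fj z l y x * n⁻¹ = fj z l y x' := fun x => by
    obtain ⟨s, e1, e2⟩ := span x
    obtain ⟨a, -, ea⟩ := s1 _ e1
    obtain ⟨b, -, eb⟩ := s1 _ e2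
    exact ⟨a + b, by rw [h.f_add, ← ea, ← eb, conj_mul, ← h.f_add, add_sub_cancel]⟩
  choose φ e using s2
  have a : ∀ x x', φ (x + x') = φ x + φ x' := fun x x' =>
    h.f_inj (by rw [← e, h.f_add, h.f_add, ← e, ← e, conj_mul])
  have inj : Function.Injective φ := fun x x' f => h.f_inj (by
    have := (e x).trans (f ▸ (e x').symm)
    rwa [mul_left_inj, mul_right_inj] at this)
  have bij := Finite.injective_iff_bijective.1 inj
  refine ⟨φ, a, bij, isom a bij fun x => ⟨fun q => ?_, fun q => ?_⟩, e⟩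
  · by_cases x0 : φ x = 0
    · rw [inj (x0.trans (add_zero' a).symm)]; decide
    obtain ⟨g, hg⟩ := isConj_iff.1 (h.cnj _ x0 q)
    have e1 : n⁻¹ * g * z * (n⁻¹ * g)⁻¹ = fj z l y x := by
      rw [show n⁻¹ * g * z * (n⁻¹ * g)⁻¹ = n⁻¹ * (g * z * g⁻¹) * n by group, hg, ← e]; group
    obtain ⟨x', q', e2⟩ := h.sing _ (e1 ▸ h.fJ x)
    rwa [h.f_inj (e1.symm.trans e2)]
  · obtain ⟨x', q', e2⟩ := s1 x q
    rwa [h.f_inj ((e x).symm.trans e2)]

theorem move (h : St0 z l r y J) (i : Fin 3) {w : V5} (q : q5 w = 1) (w0 : w.2.2 = 0) :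
    ∃ g ∈ normalizer (J : Set G), g * z = z * g ∧ g * l (Pi.single i 1, 0) * g⁻¹ = fj z l y w := by
  obtain ⟨k, u, m⟩ := w
  obtain rfl : m = 0 := w0
  have q : ∑ j, u j * u j = 1 := by simpa [q5] using q
  obtain ⟨σ, c, hσ⟩ := h.sig
  have st : ∀ {x x' : V5} {g : G}, g ∈ normalizer (J : Set G) → g * z = z * g →
      g * fj z l y x * g⁻¹ = fj z l y x' →
      (∃ g ∈ normalizer (J : Set G), g * z = z * g ∧ g * l (Pi.single i 1, 0) * g⁻¹ = fj z l y x) →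
      ∃ g ∈ normalizer (J : Set G), g * z = z * g ∧ g * l (Pi.single i 1, 0) * g⁻¹ = fj z l y x' := by
    rintro x x' g h1 h2 h3 ⟨g', h4, h5, h6⟩
    exact ⟨g * g', mul_mem h1 h4, by rw [mul_assoc, h5, ← mul_assoc, h2, mul_assoc], by rw [← h3, ← h6]; group⟩
  have s1 := fun u : X3 => st (x := (0, u, 0)) (x' := (0, u ∘ ro, 0)) (h.stdN hσ.ac) hσ.cz
    (by rw [h.f_a, h.f_a, hσ.act]; simp [pm, Ym])
  have s2 := fun (j : Fin 3) (u : X3) => st (x' := (0, sg j * u, 0)) (h.rN j) (h.rz j) (h.r_f j (0, u, 0))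
  have s3 : ∃ g ∈ normalizer (J : Set G), g * z = z * g ∧
      g * l (Pi.single i 1, 0) * g⁻¹ = fj z l y (0, Pi.single i 1, 0) :=
    ⟨1, one_mem _, by simp, by simp [h.f_a]⟩
  refine st (x := (0, u, 0)) (h.QN (lQ (0, k • u))) (h.lz _) ?_ ?_
  · rw [h.l_f]
    simp [tv, mul_assoc, ← Finset.mul_sum, q]
  · obtain ⟨j, rfl | rfl | rfl⟩ := units i u q
    exacts [s2 _ _ s3, s2 _ _ (s1 _ s3), s2 _ _ (s1 _ (s1 _ s3))]

end NJx

theorem St0.st (h : St0 z l r y J) : St z l r y J := by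
  refine ⟨h, fun n hn => ?_, fun i => ?_⟩
  · obtain ⟨φ, a, -, q, e⟩ := NJx.iso h hn
    exact ⟨φ, a, q, e⟩
  obtain ⟨n, hn, ny⟩ := h.ys
  obtain ⟨φ, a, bij, q, e⟩ := NJx.iso h hn
  obtain ⟨w, hw⟩ := bij.2 (0, Pi.single i 1, 0)
  have q1 : q5 w = 1 := by rw [← q, hw]; fin_cases i <;> decide
  have w0 : w.2.2 = 0 := by
    have b := b5_iso a q w (1, 0, 0)
    have e1 := e (1, 0, 0)
    rw [h.f_z] at e1
    rcases ny with ny | ny
    · rw [hw, h.f_inj (e1.symm.trans (ny.trans h.f_y.symm))] at b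
      simpa [b5] using b
    · rw [hw, h.f_inj (e1.symm.trans (ny.trans (by rw [h.f_neg, h.f_y] : y⁻¹ = fj z l y (-(0, 0, 1)))))] at b
      simpa [b5] using b
  obtain ⟨g, hg, gz, ga⟩ := NJx.move h i q1 w0
  have n1 : n * g * l (Pi.single i 1, 0) * (n * g)⁻¹ = l (Pi.single i 1, 0) := by
    rw [show n * g * l (Pi.single i 1, 0) * (n * g)⁻¹ = n * (g * l (Pi.single i 1, 0) * g⁻¹) * n⁻¹ by group, ga, e,
      hw, h.f_a]
  have n2 : n * g * z * (n * g)⁻¹ = n * z * n⁻¹ := by rw [mul_assoc n, gz]; group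
  have hm := mul_mem hn hg
  generalize n * g = m at n1 n2 hm
  obtain ⟨ψ, a', bij', q', e'⟩ := NJx.iso h hm
  have ψa : ψ (0, Pi.single i 1, 0) = (0, Pi.single i 1, 0) := h.f_inj (by rw [← e', h.f_a, n1])
  have ψr : ∀ x, ψ (rf i x) = rf i (ψ x) := fun x => by
    have hn : ∀ (n : ℕ) v, ψ (n • v) = n • ψ v := map_nsmul (AddMonoidHom.mk' ψ a')
    rw [NJx.rf_eq, NJx.rf_eq, add_sub' a', hn, ← b5_iso a' q', ψa]
  have c : ∀ x, (r i)⁻¹ * (m * r i * m⁻¹) * fj z l y x = fj z l y x * ((r i)⁻¹ * (m * r i * m⁻¹)) := fun x => by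
    obtain ⟨x, rfl⟩ := bij'.2 x
    have e1 := e' (rf i x)
    rw [ψr, ← h.r_f, ← h.r_f, ← e'] at e1
    rw [← e', cm_cj]
    calc _ = (r i)⁻¹ * (m * (r i * fj z l y x * (r i)⁻¹) * m⁻¹) * r i := by group
      _ = _ := by rw [e1]; group
  have jJ : (r i)⁻¹ * (m * r i * m⁻¹) ∈ J := (h.memJ _).2 ⟨h.f_z ▸ c _, fun u => h.f_a u ▸ c _⟩
  obtain ⟨j, hj⟩ : ∃ j, j = (r i)⁻¹ * (m * r i * m⁻¹) := ⟨_, rfl⟩
  rw [← hj] at jJ
  have s1 : m * r i * m⁻¹ = r i * j := by rw [hj]; group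
  have s2 : j⁻¹ * r i = r i * j := by
    have : r i * j * (r i * j) = 1 := by rw [← s1, conj_mul, h.r2]; group
    rw [eq_inv_of_mul_eq_one_left this, mul_inv_rev, h.rinv]
  have cj : ∀ x ∈ J, j⁻¹ * x * j⁻¹⁻¹ = x := fun x hx => cm_cj.1 (h.Jc _ (inv_mem jJ) _ hx)
  have cc : ∀ x : G, j⁻¹ * m * x * (j⁻¹ * m)⁻¹ = j⁻¹ * (m * x * m⁻¹) * j⁻¹⁻¹ := fun x => by group
  refine ⟨j⁻¹ * m, mul_mem (h.JN (inv_mem jJ)) hm, cm_cj.2 ?_, cm_cj.2 ?_, ?_⟩
  · rw [pl_a, cc, n1, cj _ (h.aJ _)]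
  · rw [cc, s1, ← mul_assoc, s2, inv_inv, mul_assoc, mul_assoc, ← mul_assoc j, ← pow_three', h.J3 j jJ, mul_one]
  · rw [cc, n2]
    rcases ny with ny | ny <;> rw [ny]
    exacts [Or.inl (cj _ h.yJ), Or.inr (cj _ (inv_mem h.yJ))]

end H7.E3
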