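import Cfsg.Agent.Lib.E3L.Tw
import Cfsg.Agent.Lib.Core.GrpBasic

set_option autoImplicit false
set_option linter.unusedSectionVars false

namespace H7.E3

open Subgroup Cfsg H7.F3
open H87.U6 (F3 f3_cases pw_add pw_zero pw_one pw_two pw_neg pw_mul pw_inj mem_zp cj_pw cm_cj)

variable {G : Type*} [Group G] [Finite G] {z y : G} {l l' : V6 → G} {r r' : Fin 3 → G} {J S : Subgroup G}

namespace SGx

open H95 (ES mem_zpowers_iff_of_sq)

/-! ### central products -/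

/-- extraspecial or of order two -/
structure PE (A : Subgroup G) (s : G) : Prop where
  mem : s ∈ A
  central : ∀ x ∈ A, x * s = s * x
  comm : ∀ x ∈ A, ∀ y ∈ A, x * y * x⁻¹ * y⁻¹ ∈ zpowers s
  nondeg : ∀ x ∈ A, (∀ y ∈ A, x * y = y * x) → x ∈ zpowers s

section
variable {A B : Subgroup G} {s g x : G}

theorem pe_of (h : ES A s) : PE A s :=
  ⟨h.mem, h.central, fun _ hx _ hy => h.commutator_mem hx hy, fun x hx c => h.mem_zpowers.2 (h.nondeg x hx c)⟩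

theorem PE.es (h : PE A s) (s1 : s ≠ 1) (s2 : s * s = 1) (n : ∃ x ∈ A, ∃ y ∈ A, x * y ≠ y * x) : ES A s :=
  ⟨h.mem, s1, s2, h.central, fun x hx y hy => ((mem_zpowers_iff_of_sq s2).1 (h.comm x hx y hy)).imp
    (fun e => by rwa [mul_inv_eq_one, mul_inv_eq_iff_eq_mul] at e) fun e => by
      rw [mul_inv_eq_iff_eq_mul, mul_inv_eq_iff_eq_mul] at e
      rw [e, h.central _ (mul_mem hy hx), mul_assoc],
    fun x hx c => (mem_zpowers_iff_of_sq s2).1 (h.nondeg x hx c), n⟩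

theorem pe_zp : PE (zpowers s) s :=
  ⟨mem_zpowers s, by rintro _ ⟨n, rfl⟩; exact (Commute.zpow_self s n).eq, fun x hx y hy =>
    mul_mem (mul_mem (mul_mem hx hy) (inv_mem hx)) (inv_mem hy), fun _ hx _ => hx⟩

theorem le_nrm (c : ∀ a ∈ A, ∀ b ∈ B, a * b = b * a) : A ≤ normalizer (B : Set G) :=
  fun a ha => nrm_of fun b hb => by rwa [c a ha b hb, mul_inv_cancel_right]

theorem mem_sup' (c : ∀ a ∈ A, ∀ b ∈ B, a * b = b * a) (hx : x ∈ A ⊔ B) : ∃ a ∈ A, ∃ b ∈ B, x = a * b := by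
  have : x ∈ ((A ⊔ B : Subgroup G) : Set G) := hx
  rw [coe_mul_of_left_le_normalizer_right _ _ (le_nrm c)] at this
  obtain ⟨a, ha, b, hb, rfl⟩ := this
  exact ⟨a, ha, b, hb, rfl⟩

theorem PE.inf (h : PE A s) (c : ∀ a ∈ A, ∀ b ∈ B, a * b = b * a) (ha : x ∈ A) (hb : x ∈ B) :
    x ∈ zpowers s := h.nondeg x ha fun y hy => (c y hy x hb).symm

theorem PE.sup (h : PE A s) (h' : PE B s) (c : ∀ a ∈ A, ∀ b ∈ B, a * b = b * a) : PE (A ⊔ B) s := by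
  refine ⟨mem_sup_left h.mem, fun x hx => ?_, fun x hx y hy => ?_, fun x hx e => ?_⟩
  · obtain ⟨a, ha, b, hb, rfl⟩ := mem_sup' c hx
    exact Commute.mul_left (h.central a ha) (h'.central b hb)
  · obtain ⟨a, ha, b, hb, rfl⟩ := mem_sup' c hx
    obtain ⟨a', ha', b', hb', rfl⟩ := mem_sup' c hy
    have e := c _ (mul_mem (mul_mem ha' (inv_mem ha)) (inv_mem ha')) _
      (mul_mem (mul_mem (mul_mem hb hb') (inv_mem hb)) (inv_mem hb'))
    have := mul_mem (h.comm a ha a' ha') (h'.comm b hb b' hb')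
    rw [mul_assoc a a', mul_assoc a (a' * _), mul_assoc a, e] at this
    convert this using 1
    have e1 := c a' ha' b hb
    have e2 := c _ (inv_mem ha) _ (inv_mem hb')
    have e3 := c _ ha' _ (mul_mem (mul_mem hb' (inv_mem hb)) (inv_mem hb'))
    calc _ = a * b * (a' * (b' * b⁻¹)) * (a⁻¹ * b'⁻¹) * a'⁻¹ := by group
      _ = a * b * (a' * (b' * b⁻¹ * b'⁻¹)) * a⁻¹ * a'⁻¹ := by rw [e2]; group
      _ = _ := by rw [e3]; group
  · obtain ⟨a, ha, b, hb, rfl⟩ := mem_sup' c hx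
    have k : a ∈ zpowers s := h.nondeg a ha fun y hy => by
      have := e y (mem_sup_left hy)
      rw [mul_assoc, ← c y hy b hb, ← mul_assoc, ← mul_assoc] at this
      exact mul_right_cancel this
    refine mul_mem k (h'.nondeg b hb fun y hy => ?_)
    have := e y (mem_sup_right hy)
    rw [← mul_assoc y, ← c a ha y hy, mul_assoc, mul_assoc] at this
    exact mul_left_cancel this

theorem PE.fam {ι : Type*} {R : ι → Subgroup G} (o : orderOf s = 2) (p : ∀ i, PE (R i) s)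
    (c8 : ∀ i, Nat.card (R i) = 8) (c : ∀ i j, i ≠ j → ∀ a ∈ R i, ∀ b ∈ R j, a * b = b * a)
    (T : Finset ι) : PE (zpowers s ⊔ ⨆ i ∈ T, R i) s ∧
      Nat.card (zpowers s ⊔ ⨆ i ∈ T, R i : Subgroup G) = 2 * 4 ^ T.card ∧
      (∀ j ∉ T, ∀ a ∈ R j, ∀ b ∈ zpowers s ⊔ ⨆ i ∈ T, R i, a * b = b * a) ∧
      ∀ g, g * s = s * g → (∀ i ∈ T, ∀ a ∈ R i, g * a * g⁻¹ ∈ R i ∧
        (g * a * g⁻¹ * a⁻¹ ∈ zpowers s → a ∈ zpowers s)) → ∀ a ∈ zpowers s ⊔ ⨆ i ∈ T, R i,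
          g * a * g⁻¹ ∈ zpowers s ⊔ ⨆ i ∈ T, R i ∧ (g * a * g⁻¹ * a⁻¹ ∈ zpowers s → a ∈ zpowers s) := by
  classical
  have k : ∀ T : Finset ι, ∀ j ∉ T, ∀ a ∈ R j, ∀ b ∈ zpowers s ⊔ ⨆ i ∈ T, R i, a * b = b * a :=
    fun T j hj a ha b hb => (mem_centralizer_singleton_iff.1 ((sup_le (b := ⨆ i ∈ T, R i)
      (zpowers_le.2 (mem_centralizer_singleton_iff.2 ((p j).central a ha).symm))
      (iSup₂_le fun i hi b hb => mem_centralizer_singleton_iff.2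
        (c i j (fun e => hj (e ▸ hi)) b hb a ha))) hb)).symm
  induction T using Finset.induction_on with
  | empty =>
    simp only [Finset.notMem_empty, iSup_false, iSup_bot, sup_bot_eq]
    refine ⟨pe_zp, by simp [Nat.card_zpowers, o], fun j _ a ha b hb => ?_, fun g e _ a ha => ⟨?_, fun _ => ha⟩⟩
    · exact k ∅ j (by simp) a ha b (mem_sup_left hb)
    · obtain ⟨n, rfl⟩ := ha
      rw [((show Commute g s from e).zpow_right n).eq, mul_inv_cancel_right]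
      exact zpow_mem (mem_zpowers s) n
  | insert j T hj ih =>
    obtain ⟨h1, h2, h3, h4⟩ := ih
    have E : zpowers s ⊔ ⨆ i ∈ insert j T, R i = R j ⊔ (zpowers s ⊔ ⨆ i ∈ T, R i) := by
      rw [Finset.iSup_insert, sup_left_comm]
    refine ⟨?_, ?_, k _, fun g e hg => ?_⟩ <;> rw [E]
    · exact (p j).sup h1 (h3 j hj)
    · have := H1.card_sup_mul_card_inf_of_le_normalizer (le_nrm (h3 j hj))
      rw [le_antisymm (fun x (hx : x ∈ R j ⊓ _) => (p j).inf (h3 j hj) hx.1 hx.2)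
        (le_inf (zpowers_le.2 (p j).mem) le_sup_left), Nat.card_zpowers, o, c8, h2] at this
      rw [Finset.card_insert_of_notMem hj, pow_succ]
      omega
    · intro x hx
      obtain ⟨a, ha, b, hb, rfl⟩ := mem_sup' (h3 j hj) hx
      obtain ⟨a1, a2⟩ := hg j (Finset.mem_insert_self _ _) a ha
      obtain ⟨b1, b2⟩ := h4 g e (fun i hi => hg i (Finset.mem_insert_of_mem hi)) b hb
      refine ⟨by rw [← conj_mul]; exact mul_mem (mem_sup_left a1) (mem_sup_right b1), fun m => ?_⟩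
      have c1 := h3 j hj _ (inv_mem ha) _ (mul_mem b1 (inv_mem hb))
      rw [show g * (a * b) * g⁻¹ * (a * b)⁻¹ = g * a * g⁻¹ * (g * b * g⁻¹ * b⁻¹ * a⁻¹) by group, ← c1,
        ← mul_assoc] at m
      have m1 : g * a * g⁻¹ * a⁻¹ ∈ zpowers s := (p j).inf (h3 j hj) (mul_mem a1 (inv_mem ha))
        ((mul_mem_cancel_right (mul_mem b1 (inv_mem hb))).1 (mem_sup_left m))
      exact mul_mem (a2 m1) (b2 ((mul_mem_cancel_left m1).1 m))

end

/-! ### the quaternion group on the plane `0` -/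

abbrev M4 := F3 × F3 × F3 × F3

def mk (v : M4) : Mx := ⟨![v.1, 1, 1], ![v.2.1, 0, 0], ![v.2.2.1, 0, 0], ![v.2.2.2, 1, 1]⟩
def mm (u v : M4) : M4 := (u.1 * v.1 + u.2.1 * v.2.2.1, u.1 * v.2.1 + u.2.1 * v.2.2.2,
  u.2.2.1 * v.1 + u.2.2.2 * v.2.2.1, u.2.2.1 * v.2.1 + u.2.2.2 * v.2.2.2)
def ad (v : M4) : M4 := (v.2.2.2, -v.2.1, -v.2.2.1, v.1)
abbrev q8 (v : M4) : Prop := v.1 * v.2.2.2 - v.2.1 * v.2.2.1 = 1 ∧ (v.1 + v.2.2.2 = 0 ∨ v.2.1 = 0 ∧ v.2.2.1 = 0)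
abbrev e1 : M4 := (1, 0, 0, 1)
abbrev n1 : M4 := (-1, 0, 0, -1)

theorem mk_mul (u v : M4) (w : V6) : (mk u).ap ((mk v).ap w) = (mk (mm u v)).ap w := by
  rw [← Mx.ap_mul]; congr 1; ext i <;> fin_cases i <;> simp [mk, mm, Mx.mul]

theorem mk_one (w : V6) : (mk e1).ap w = w := by
  ext i <;> fin_cases i <;> simp [mk, Mx.ap]

theorem mk_ng (w : V6) : ng 0 w = (mk n1).ap w := by
  ext i <;> fin_cases i <;> simp [mk, Mx.ap, ng, sg]

theorem mk_inj {u v : M4} (e : ∀ w, (mk u).ap w = (mk v).ap w) : u = v := by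
  have := Mx.eq_of_ap e
  exact Prod.ext (congrFun (congrArg Mx.a this) 0) (Prod.ext (congrFun (congrArg Mx.b this) 0)
    (Prod.ext (congrFun (congrArg Mx.c this) 0) (congrFun (congrArg Mx.d this) 0)))

theorem d_mul : ∀ u v : M4, q8 u → q8 v → q8 (mm u v) ∧
    (mm (mm u v) (ad u) = v ∨ mm (mm u v) (ad u) = mm v n1) := by decide +kernel

theorem d_one : ∀ u : M4, q8 u → mm u (ad u) = e1 ∧ q8 (ad u) ∧ (mm u u = e1 ∨ mm u u = n1) := by
  decide +kernel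

set_option synthInstance.maxSize 1024 in
set_option synthInstance.maxHeartbeats 200000 in
theorem d_cen : ∀ u : M4, q8 u → mm u (0, 1, -1, 0) = mm (0, 1, -1, 0) u →
    mm u (1, 1, 1, -1) = mm (1, 1, 1, -1) u → u = e1 ∨ u = n1 := by decide +kernel

theorem d_fp : ∀ u : M4, ∀ m : F3, q8 u → m ≠ 0 → (mm (1, m, 0, 1) u = mm u (1, m, 0, 1) ∨
    mm (1, m, 0, 1) u = mm (mm u n1) (1, m, 0, 1)) → u = e1 ∨ u = n1 := by decide +kernel

theorem d_card : Nat.card {v : M4 // q8 v} = 8 := by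
  rw [Nat.card_eq_fintype_card]; decide +kernel

/-- `x` is the element of order dividing four that acts as `v` -/
def Xe (z : G) (l : V6 → G) (r : Fin 3 → G) (x : G) (v : M4) : Prop :=
  x ^ 4 = 1 ∧ Ex z l (r 0 * r 1 * r 2) x (mk v).ap

variable {x x' : G} {u v : M4}

theorem mk_det (q : q8 v) : (mk v).det1 ∧ (mk v).q8 ∧ Only 0 (mk v) :=
  ⟨fun i => by fin_cases i <;> simp [mk, q.1], fun i => by fin_cases i <;> simp [mk, q.2],
    fun i hi => by fin_cases i <;> simp_all [mk]⟩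

theorem memR (h : St0 z l r y J) : x ∈ Rs z l r y (1, 0, 0) ↔ ∃ v, q8 v ∧ Xe z l r x v := by
  rw [h.memR0]
  refine ⟨fun ⟨x4, m, d, q, o, e⟩ => ⟨(m.a 0, m.b 0, m.c 0, m.d 0), ⟨d 0, q 0⟩, x4, e.congr fun w => ?_⟩,
    fun ⟨v, q, x4, e⟩ => ⟨x4, _, (mk_det q).1, (mk_det q).2.1, (mk_det q).2.2, e⟩⟩
  have o1 := o 1 (by decide)
  have o2 := o 2 (by decide)
  congr 1; ext i <;> fin_cases i <;> simp [mk, o1, o2]

theorem Xe.eq (h : E0 z l r) (a : Xe z l r x v) (b : Xe z l r x' v) : x = x' :=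
  h.ex_eq4 a.2 b.2 (fun _ => rfl) a.1 b.1

theorem xe_one : Xe z l r 1 e1 := ⟨one_pow 4, Ex.one.congr fun w => (mk_one w).symm⟩

theorem xe_r (h : E0 z l r) : Xe z l r (r 0) n1 := ⟨h.r4 0, (h.er 0).congr mk_ng⟩

theorem Xe.cr (h : E0 z l r) (a : Xe z l r x v) (q : q8 v) : Commute x (r 0) := h.ex_rc (mk_det q).1 a.2 0

theorem Xe.mulr (h : E0 z l r) (a : Xe z l r x v) (q : q8 v) : Xe z l r (x * r 0) (mm v n1) :=
  ⟨by rw [(a.cr h q).mul_pow, a.1, h.r4, one_mul], (a.2.mul (xe_r h).2).congr (mk_mul _ _)⟩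

theorem Xe.inv (a : Xe z l r x v) (q : q8 v) : Xe z l r x⁻¹ (ad v) :=
  ⟨by rw [inv_pow, a.1, inv_one], a.2.inv fun w => by rw [mk_mul, (d_one v q).1, mk_one]⟩

theorem Xe.zp (h : E0 z l r) (a : Xe z l r x v) (e : v = e1 ∨ v = n1) : x = 1 ∨ x = r 0 :=
  by
  rcases e with rfl | rfl
  exacts [Or.inl (a.eq h xe_one), Or.inr (a.eq h (xe_r h))]

theorem Xe.cj (h : E0 z l r) (a : Xe z l r x u) (b : Xe z l r x' v) (q : q8 u) (q' : q8 v) :
    x * x' * x⁻¹ = x' ∨ x * x' * x⁻¹ = x' * r 0 := by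
  have c : Xe z l r (x * x' * x⁻¹) (mm (mm u v) (ad u)) := ⟨by rw [conj_pow, b.1]; simp,
    ((a.2.mul b.2).mul (a.inv q).2).congr fun w => by rw [← mk_mul, ← mk_mul]⟩
  rcases (d_mul u v q q').2 with e | e <;> rw [e] at c
  exacts [Or.inl (c.eq h b), Or.inr (c.eq h (b.mulr h q'))]

theorem Xe.sq (h : E0 z l r) (a : Xe z l r x u) (q : q8 u) : x * x = 1 ∨ x * x = r 0 :=
  Xe.zp h ⟨by rw [← pow_two, ← pow_mul, mul_comm, pow_mul, a.1, one_pow],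
    (a.2.mul a.2).congr (mk_mul _ _)⟩ (d_one u q).2.2

theorem Xe.mul (h : E0 z l r) (a : Xe z l r x u) (b : Xe z l r x' v) (q : q8 u) (q' : q8 v) :
    Xe z l r (x * x') (mm u v) := by
  refine ⟨?_, (a.2.mul b.2).congr (mk_mul _ _)⟩
  have m : ∀ {g}, g = 1 ∨ g = r 0 → g ∈ zpowers (r 0) := (mem_zpowers_iff_of_sq (h.r2 0)).2
  have k : x * x' * (x * x') ∈ zpowers (r 0) := by
    have e : x * x' * (x * x') = x * x' * x⁻¹ * x'⁻¹ * (x' * (x * x) * x'⁻¹) * (x' * x') := by group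
    rw [e]
    refine mul_mem (mul_mem (m ?_) (m ?_)) (m (b.sq h q'))
    · refine (a.cj h b q q').imp (fun e => by rw [e, mul_inv_cancel]) fun e => ?_
      rw [e, (b.cr h q').eq, mul_inv_cancel_right]
    · refine (a.sq h q).imp (fun e => by simp [e]) fun e => ?_
      rw [e, (b.cr h q').eq, mul_inv_cancel_right]
  rw [show (4 : ℕ) = 2 * 2 from rfl, pow_mul, pow_two, pow_two]
  rcases (mem_zpowers_iff_of_sq (h.r2 0)).1 k with e | e <;> rw [e]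
  exacts [one_mul 1, h.r2 0]

theorem Xe.uniq (h : E0 z l r) (a : Xe z l r x u) (b : Xe z l r x v) : u = v :=
  mk_inj (h.ac_uniq a.2.ac b.2.ac)

theorem exX (h : E0 z l r) (q : q8 v) : ∃ x, Xe z l r x v := h.all _ (mk_det q).1 (mk_det q).2.1

theorem exR0 (h : St0 z l r y J) : ∃ R : Subgroup G, (∀ x, x ∈ R ↔ x ∈ Rs z l r y (1, 0, 0)) ∧
    ES R (r 0) ∧ Nat.card R = 8 := by
  have h0 := h.toE0
  let R : Subgroup G :=
    { carrier := {x | ∃ v, q8 v ∧ Xe z l r x v}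
      one_mem' := ⟨e1, by decide, xe_one⟩
      mul_mem' := fun ⟨u, q, a⟩ ⟨v, q', b⟩ => ⟨_, (d_mul u v q q').1, a.mul h0 b q q'⟩
      inv_mem' := fun ⟨u, q, a⟩ => ⟨_, (d_one u q).2.1, a.inv q⟩ }
  obtain ⟨i, hi⟩ := exX h0 (v := (0, 1, -1, 0)) (by decide)
  obtain ⟨j, hj⟩ := exX h0 (v := (1, 1, 1, -1)) (by decide)
  have k : ∀ {x x' u v}, Xe z l r x u → Xe z l r x' v → x * x' = x' * x → mm u v = mm v u :=
    fun a b e => mk_inj fun w => by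
      rw [← mk_mul, ← mk_mul]; exact h.ac_uniq (a.2.mul b.2).ac (e ▸ (b.2.mul a.2).ac) w
  refine ⟨R, fun x => (memR h).symm, ⟨⟨n1, by decide, xe_r h0⟩, h0.rne 0, h.r2 0,
    fun x ⟨u, q, a⟩ => a.cr h0 q, fun x ⟨u, q, a⟩ x' ⟨v, q', b⟩ => ?_, fun x ⟨u, q, a⟩ c =>
      a.zp h0 (d_cen u q (k a hi (c i ⟨_, by decide, hi⟩)) (k a hj (c j ⟨_, by decide, hj⟩))),
    i, ⟨_, by decide, hi⟩, j, ⟨_, by decide, hj⟩, fun e => absurd (k hi hj e) (by decide)⟩, ?_⟩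
  · refine (a.cj h0 b q q').imp mul_inv_eq_iff_eq_mul.1 fun e => ?_
    rw [mul_inv_eq_iff_eq_mul.1 e, mul_assoc, ← (a.cr h0 q).eq, mul_assoc]
  · choose ρ hρ using fun v : {v : M4 // q8 v} => exX h0 v.2
    rw [← d_card]
    exact (Nat.card_eq_of_bijective (fun v => (⟨ρ v, v.1, v.2, hρ v⟩ : R))
      ⟨fun u v e => Subtype.ext ((hρ u).uniq h0 ((show ρ u = ρ v from congrArg Subtype.val e) ▸ hρ v)),
        fun ⟨x, v, q, a⟩ => ⟨⟨v, q⟩, Subtype.ext ((hρ _).eq h0 a)⟩⟩).symm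

/-- an element acting as `Ym m` has no fixed points on `R₀ / ⟨r 0⟩` -/
theorem fpf (h : St0 z l r y J) {g : G} {m : F3} (m0 : m ≠ 0) (a : Ac z l g (Ym fun _ => m))
    (hx : x ∈ Rs z l r y (1, 0, 0)) (e : g * x * g⁻¹ * x⁻¹ ∈ zpowers (r 0)) : x = 1 ∨ x = r 0 := by
  have h0 := h.toE0
  obtain ⟨u, q, b⟩ := (memR h).1 hx
  obtain ⟨v, hv, c⟩ : ∃ v, (v = u ∨ v = mm u n1) ∧ Xe z l r (g * x * g⁻¹) v := by
    rcases (mem_zpowers_iff_of_sq (h.r2 0)).1 e with e | e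
    · rw [mul_inv_eq_one.1 e]
      exact ⟨_, Or.inl rfl, b⟩
    · rw [mul_inv_eq_iff_eq_mul.1 e, ← (b.cr h0 q).eq]
      exact ⟨_, Or.inr rfl, b.mulr h0 q⟩
  have k := h.ac_uniq (h.ac_mul a b.2.ac) (inv_mul_cancel_right (g * x) g ▸ h.ac_mul c.2.ac a)
  suffices E : mm (1, m, 0, 1) u = mm v (1, m, 0, 1) by
    refine b.zp h0 (d_fp u m q m0 ?_)
    rcases hv with rfl | rfl
    exacts [Or.inl E, Or.inr E]
  have k1 := congrFun (congrArg Prod.fst (k (pl 0 1 0))) 0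
  have k2 := congrFun (congrArg Prod.snd (k (pl 0 1 0))) 0
  have k3 := congrFun (congrArg Prod.fst (k (pl 0 0 1))) 0
  have k4 := congrFun (congrArg Prod.snd (k (pl 0 0 1))) 0
  simp [Ym, Mx.ap, mk, pl] at k1 k2 k3 k4
  simp only [mm, Prod.mk.injEq]
  refine ⟨?_, ?_, ?_, ?_⟩
  · linear_combination k1
  · linear_combination k3
  · linear_combination k2
  · linear_combination k4

/-! ### the ten points -/

abbrev Sn (p : V5) : Prop := p ≠ 0 ∧ q5 p = 0 ∧ p.2.1 0 = 0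

def Pt : Option (F3 × F3) → V5
  | none => (1, 0, 0)
  | some a => tv ![0, a.1, a.2] (0, 0, 1)

theorem pt_all : ∀ p : V5, Sn p → ∃ i, p = Pt i ∨ p = -Pt i := by decide +kernel
theorem pt_sn : ∀ i, Sn (Pt i) := by decide +kernel
theorem pt_ne : ∀ i j, i ≠ j → Pt i ≠ Pt j ∧ Pt i ≠ -Pt j := by decide +kernel
theorem sn_ne : ∀ p : V5, Sn p → p ≠ (1, 0, 0) → p ≠ -(1, 0, 0) → p.2.2 ≠ 0 := by decide +kernel
theorem tv_e0 (w : X3) : tv w (1, 0, 0) = (1, 0, 0) := by simp [tv]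

/-- `n ∈ N(J) ∩ C(r 0)` moves the point `p` to the point `p'` -/
structure Mv (z : G) (l : V6 → G) (r : Fin 3 → G) (y : G) (J : Subgroup G) (n : G) (p p' : V5) : Prop where
  nJ : n ∈ normalizer (J : Set G)
  c : n * r 0 = r 0 * n
  e : n * fj z l y p * n⁻¹ = fj z l y p' ∨ n * fj z l y p * n⁻¹ = fj z l y (-p')

variable {n n' : G} {p p' p'' : V5}

theorem Rs_neg (hx : x ∈ Rs z l r y p) : x ∈ Rs z l r y (-p) := ⟨hx.1, hx.2.1, fun w w0 e => hx.2.2 w w0 (by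
  simp only [b5, Fin.sum_univ_three, Prod.fst_neg, Prod.snd_neg, Pi.neg_apply] at e ⊢
  linear_combination -e)⟩

theorem Mv.rs (h : St z l r y J) (m : Mv z l r y J n p p') (hx : x ∈ Rs z l r y p) :
    n * x * n⁻¹ ∈ Rs z l r y p' := by
  obtain ⟨φ, -, -, e, -, -, k⟩ := h.isoK m.nJ m.c
  have := k p x hx
  rcases m.e with e' | e' <;> rw [h.f_inj ((e p).symm.trans e')] at this
  exacts [this, neg_neg p' ▸ Rs_neg this]

theorem Mv.neg (h : St z l r y J) (m : Mv z l r y J n p p') : Mv z l r y J n (-p) p' :=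
  ⟨m.nJ, m.c, m.e.symm.imp (fun e => by rw [h.f_neg, ← conj_inv, e, h.f_neg, inv_inv])
    fun e => by rw [h.f_neg, ← conj_inv, e, h.f_neg]⟩

theorem Mv.inv (h : St z l r y J) (m : Mv z l r y J n p p') : Mv z l r y J n⁻¹ p' p :=
  ⟨inv_mem m.nJ, (show Commute n (r 0) from m.c).inv_left, m.e.imp (fun e => by rw [← e]; group) fun e => by
    rw [h.f_neg, ← inv_eq_iff_eq_inv] at e
    rw [← e, h.f_neg]; group⟩

theorem Mv.mul (h : St z l r y J) (m : Mv z l r y J n p p') (m' : Mv z l r y J n' p' p'') :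
    Mv z l r y J (n' * n) p p'' :=
  ⟨mul_mem m'.nJ m.nJ, Commute.mul_left m'.c m.c, by
    rw [show ∀ f : G, n' * n * f * (n' * n)⁻¹ = n' * (n * f * n⁻¹) * n'⁻¹ from fun f => by group]
    rcases m.e with e | e <;> rw [e]
    exacts [m'.e, (m'.neg h).e]⟩

theorem mv_l (h : St z l r y J) (a b : F3) (p : V5) : Mv z l r y J (l (0, ![0, a, b])) p (tv ![0, a, b] p) :=
  ⟨h.QN (lQ _), (cm_cj.2 (by
    rw [(h.er 0).act]; congr 1; ext i <;> fin_cases i <;> simp [ng, sg])).symm, Or.inl (h.l_f _ p)⟩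

theorem ex_sn (h : St z l r y J) (hn : n ∈ normalizer (J : Set G)) (c : n * r 0 = r 0 * n) (s : Sn p) :
    ∃ p', Sn p' ∧ Mv z l r y J n p p' := by
  obtain ⟨φ, a, q, e, b, k, -⟩ := h.isoK hn c
  exact ⟨φ p, ⟨fun e0 => s.1 (b.1 (e0.trans (add_zero' a).symm)), (q p).trans s.2.1, (k p).2 s.2.2⟩,
    hn, c, Or.inl (e p)⟩

theorem ex_mv (h : St z l r y J) (s : Sn p) : ∃ n, Mv z l r y J n p (1, 0, 0) := by
  have k : ∀ i, ∃ n, Mv z l r y J n (Pt i) (1, 0, 0) := by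
    rintro (_ | a)
    · exact ⟨1, one_mem _, by simp, Or.inl (by simp [Pt])⟩
    · obtain ⟨n, hn, -, c, e⟩ := h.ysi 0
      have m : Mv z l r y J n (1, 0, 0) (0, 0, 1) := ⟨hn, c, by rwa [h.f_neg, h.f_z, h.f_y]⟩
      exact ⟨_, (m.mul h (mv_l h a.1 a.2 _)).inv h⟩
  obtain ⟨i, rfl | rfl⟩ := pt_all p s
  exacts [k i, (k i).imp fun _ m => m.neg h]

theorem Mv.inj (h : St z l r y J) (m : Mv z l r y J n p p'') (m' : Mv z l r y J n p' p'') :
    p = p' ∨ p = -p' := by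
  have := (m.mul h (m'.inv h)).e
  simp only [inv_mul_cancel, one_mul, inv_one, mul_one] at this
  exact this.imp h.f_inj h.f_inj

theorem Mv.neg' (m : Mv z l r y J n p (-p')) : Mv z l r y J n p p' :=
  ⟨m.nJ, m.c, by simpa [or_comm] using m.e⟩

/-- a second point -/
theorem ex_snd (h : St z l r y J) (m : Mv z l r y J n p (1, 0, 0)) (s : Sn p') (n1 : p ≠ p')
    (n2 : p ≠ -p') : ∃ p'', Sn p'' ∧ p'' ≠ (1, 0, 0) ∧ p'' ≠ -(1, 0, 0) ∧ Mv z l r y J n p' p'' := by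
  obtain ⟨p'', s', m'⟩ := ex_sn h m.nJ m.c s
  refine ⟨p'', s', ?_, ?_, m'⟩ <;> rintro rfl
  exacts [(m.inj h m').elim n1 n2, (m.inj h m'.neg').elim n1 n2]

theorem cm_all (h : St z l r y J)
    (cm : ∀ x ∈ Rs z l r y (1, 0, 0), ∀ x' ∈ Rs z l r y (0, 0, 1), x * x' = x' * x) (s : Sn p) (s' : Sn p')
    (n1 : p ≠ p') (n2 : p ≠ -p') (hx : x ∈ Rs z l r y p) (hx' : x' ∈ Rs z l r y p') : x * x' = x' * x := by
  obtain ⟨n, m⟩ := ex_mv h s
  obtain ⟨p'', s'', k1, k2, m'⟩ := ex_snd h m s' n1 n2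
  obtain ⟨n', m1, m2⟩ : ∃ n', Mv z l r y J n' (1, 0, 0) (1, 0, 0) ∧ Mv z l r y J n' p'' (0, 0, 1) := by
    obtain ⟨_ | a, e⟩ := pt_all p'' s''
    · exact (e.elim k1 k2).elim
    · have m1 := mv_l h a.1 a.2 (1, 0, 0)
      rw [tv_e0] at m1
      have m2 := (mv_l h a.1 a.2 (0, 0, 1)).inv h
      exact ⟨_, m1.inv h, by rcases e with rfl | rfl; exacts [m2, m2.neg h]⟩
  have := cm _ ((m.mul h m1).rs h hx) _ ((m'.mul h m2).rs h hx')
  rwa [conj_mul, conj_mul, mul_left_inj, mul_right_inj] at this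

theorem exR (h : St z l r y J) (s : Sn p) : ∃ R : Subgroup G, (∀ x, x ∈ R ↔ x ∈ Rs z l r y p) ∧
    ES R (r 0) ∧ Nat.card R = 8 := by
  obtain ⟨R, h1, h2, h3⟩ := exR0 h.toSt0
  obtain ⟨n, m⟩ := ex_mv h s
  refine ⟨R.map (MulAut.conj n⁻¹).toMonoidHom, fun x => ?_, ?_,
    (card_map_of_injective (MulAut.conj n⁻¹).injective).trans h3⟩
  · rw [H95.mem_map_conj, h1, inv_inv]
    exact ⟨fun e => by simpa [mul_assoc] using (m.inv h).rs h e, m.rs h⟩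
  · have := h2.map_conj n⁻¹
    rwa [(m.inv h).c, mul_inv_cancel_right] at this

theorem fpf' (h : St z l r y J) (s : Sn p) (n1 : p ≠ (1, 0, 0)) (n2 : p ≠ -(1, 0, 0))
    (hx : x ∈ Rs z l r y p) (e : z * x * z⁻¹ * x⁻¹ ∈ zpowers (r 0)) : x ∈ zpowers (r 0) := by
  obtain ⟨n, m⟩ := ex_mv h s
  obtain ⟨u, s', k1, k2, m'⟩ := ex_snd h m (pt_sn none) n1 n2
  have c : n * r 0 * n⁻¹ = r 0 := cm_cj.1 m.c
  have a : ∃ k : F3, k ≠ 0 ∧ Ac z l (n * z * n⁻¹) (Ym fun _ => k) := by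
    have e' := m'.e
    rw [Pt, h.f_z] at e'
    rcases e' with e' | e' <;> rw [e']
    exacts [⟨_, sn_ne u s' k1 k2, h.ac_f u⟩, ⟨_, neg_ne_zero.2 (sn_ne u s' k1 k2), h.ac_f (-u)⟩]
  obtain ⟨k, k0, a⟩ := a
  refine (mem_zpowers_iff_of_sq (h.r2 0)).2 ((fpf h.toSt0 k0 a (m.rs h hx) ?_).imp
    conj_eq_one_iff.1 fun e => ?_)
  · rw [conj_inv, conj_inv, conj_mul, conj_mul, conj_mul]
    rcases (mem_zpowers_iff_of_sq (h.r2 0)).1 e with e | e <;> rw [e]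
    · simp
    · rw [c]; exact mem_zpowers _
  · rwa [← c, mul_left_inj, mul_right_inj] at e

end SGx

open SGx

theorem St.sd (h : St z l r y J)
    (cm : ∀ x ∈ Rs z l r y (1, 0, 0), ∀ x' ∈ Rs z l r y (0, 0, 1), x * x' = x' * x) :
    SD z l r y J (Sg z l r y) := by
  classical
  choose R h1 h2 h3 using fun i => exR h (pt_sn i)
  have cc : ∀ i j, i ≠ j → ∀ a ∈ R i, ∀ b ∈ R j, a * b = b * a := fun i j n a ha b hb =>
    cm_all h cm (pt_sn i) (pt_sn j) (pt_ne i j n).1 (pt_ne i j n).2 ((h1 i a).1 ha) ((h1 j b).1 hb)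
  have F := PE.fam (h2 none).orderOf_eq (fun i => pe_of (h2 i)) h3 cc
  have l0 : ∀ i, R i ≤ Sg z l r y := fun i x hx =>
    subset_closure ⟨_, (pt_sn i).1, (pt_sn i).2.1, (pt_sn i).2.2, (h1 i x).1 hx⟩
  have e : Sg z l r y = zpowers (r 0) ⊔ ⨆ i ∈ Finset.univ, R i := by
    refine le_antisymm ((closure_le _).2 ?_)
      (sup_le (zpowers_le.2 (l0 none (h2 none).mem)) (iSup₂_le fun i _ => l0 i))
    rintro x ⟨p, p1, p2, p3, hx⟩
    obtain ⟨i, hi⟩ := pt_all p ⟨p1, p2, p3⟩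
    refine mem_sup_right (le_iSup₂ (f := fun i (_ : i ∈ Finset.univ) => R i) i (Finset.mem_univ i)
      ((h1 i x).2 ?_))
    rcases hi with rfl | rfl
    exacts [hx, neg_neg (Pt i) ▸ Rs_neg hx]
  have cz : ∀ x ∈ Sg z l r y, x * z = z * x → x ∈ Rs z l r y (1, 0, 0) := fun x hx c => by
    obtain ⟨-, -, f1, f2⟩ := F (Finset.univ.erase none)
    rw [e, ← Finset.insert_erase (Finset.mem_univ none), Finset.iSup_insert, sup_left_comm] at hx
    obtain ⟨a, ha, b, hb, rfl⟩ := mem_sup' (f1 none (by simp)) hx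
    have az : Commute a z := h.f_z ▸ ((h1 none a).1 ha).2.2 (1, 0, 0) rfl (by decide)
    have bz : Commute b z := by simpa using az.inv_left.mul_left c
    refine (h1 none _).1 (mul_mem ha ((h2 none).zpowers_le ((f2 z (h.toE0.rz 0).symm
      (fun i hi a ha => ?_) b hb).2 (by rw [← bz.eq]; simp))))
    have n := pt_ne i none (Finset.ne_of_mem_erase hi)
    exact ⟨(h1 i _).2 (Mv.rs h ⟨h.JN h.zJ, (h.toE0.rz 0).symm, Or.inl (cm_cj.1 (h.Jc _ h.zJ _ (h.fJ _)))⟩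
      ((h1 i a).1 ha)), fpf' h (pt_sn i) n.1 n.2 ((h1 i a).1 ha)⟩
  refine ⟨?_, ?_, fun g hg c => nrm_of fun x hx => (closure_le ((Sg z l r y).comap
    (MulAut.conj g).toMonoidHom)).2 ?_ hx, fun x hx => l0 none ((h1 none x).2 hx), cz,
    fun x hx c c' => fpf h.toSt0 one_ne_zero h.ey.ac (cz x hx c) (by rw [← c']; simp)⟩
  · obtain ⟨a, ha, b, hb, n⟩ := (h2 none).nonab
    exact (e ▸ (F Finset.univ).1).es (h2 none).ne_one (h.r2 0) ⟨a, l0 none ha, b, l0 none hb, n⟩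
  · rw [e, (F Finset.univ).2.1]
    simp
  · rintro x ⟨p, p1, p2, p3, hx⟩
    obtain ⟨p', s, m⟩ := ex_sn h hg c ⟨p1, p2, p3⟩
    exact subset_closure ⟨p', s.1, s.2.1, s.2.2, m.rs h hx⟩

end H7.E3
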