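import Cfsg.Agent.Lib.E3L.Ext
import Cfsg.Agent.Lib.ERec.Fus

/-!
Centraliser between `2^(1+20).U6(2)` and `2^(1+20).U6(2).S3`: two commuting conjugates of `z` share a conjugate in
their extraspecial groups.
-/

set_option autoImplicit false
set_option linter.unusedSectionVars false

namespace H7.E3.FusX

open Cfsg H16 H95 Subgroup H75.WC H48.BR H21.ER H22.BF H22.EF

variable {G : Type*} [Group G] {z : G} {Q H : Subgroup G} {φ : H →* Stab vU}
  {cls : leechLattice → G → Prop}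

theorem tg (M : EtH z Q H φ cls) : Tg vU vX :=
  ⟨norm_U, norm_X, dot_UX, fun a h => by
    obtain ⟨s, hs⟩ := M.ex_elt a ⟨h _ pq_U.1 pq_U.2, h _ pq_X.1 pq_X.2⟩
    refine cw_iff.1 ((M.cw_zero_iff hs).2 (M.h.nondeg s (M.mem hs) fun b hb => ?_))
    obtain ⟨v, hv⟩ := M.ex_cls b hb
    exact (M.commute_iff hs hv).2 (h v (M.perp hv).1 (M.perp hv).2)⟩

theorem cls_cm (M : EtH z Q H φ cls) (c : H) {v : leechLattice} {u : G} (h : cls v u) :
    cls ((φ c : Co0) • v + v) (cm c u) := M.add (M.smul c h) (M.inv h)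

theorem card_R [Finite G] (M : EtH z Q H φ cls) {Q' : Subgroup G} {y : G} (p : PQ Q z Q' y)
    (hH : Q' ⊓ centralizer {z} ≤ H) (hy : y ∈ H) {n : ℕ}
    (h : ∀ K : Subgroup Co0, (∀ κ ∈ K, Fy vU vX (φ ⟨y, hy⟩) κ) → Nat.card K ≤ n) :
    Nat.card (Q' ⊓ centralizer {z} ⊓ centralizer (SC Q y) : Subgroup G) ≤
      Nat.card (Q ⊓ Q' : Subgroup G) * n := by
  set R := Q' ⊓ centralizer {z} ⊓ centralizer (SC Q y) with hR
  have hle : R ≤ H := inf_le_left.trans hH
  let ψ : R →* Co0 := (Stab vU).subtype.comp (φ.comp (inclusion hle))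
  let c : H := ⟨y, hy⟩
  have k4 : Nat.card ψ.range ≤ n := by
    refine h _ ?_
    rintro _ ⟨r, rfl⟩
    refine ⟨(φ (inclusion hle r)).2, M.fixX _, ?_, fun v x a a' b n => ?_⟩
    · have : inclusion hle r * c = c * inclusion hle r := Subtype.ext (p.h'.central _ r.2.1.1)
      have := congrArg (fun t => (φ t : Co0)) this
      simp only [map_mul, Subgroup.coe_mul] at this
      exact this
    obtain ⟨u, hu⟩ := M.ex_elt v ⟨a, a'⟩
    have a := M.congr (cls_cm M c hu) (Cw.of_cg b)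
    have b := M.smul (inclusion hle r) a
    have e : cm y u * r = r * cm y u := r.2.2 _ ⟨(M.sq a).2 n, u, M.mem hu, rfl⟩
    exact cw_iff.1 ((M.eq_iff b a).2 (Or.inl (eq_mul_inv_iff_mul_eq.2 e)))
  have k5 : Nat.card ψ.ker ≤ Nat.card (Q ⊓ Q' : Subgroup G) :=
    Nat.card_le_card_of_injective (fun r => ⟨r.1.1, (M.ker _).1 (Subtype.ext r.2), r.1.2.1.1⟩) fun a b e =>
      Subtype.ext (Subtype.ext (congrArg (Subtype.val : (Q ⊓ Q' : Subgroup G) → G) e))
  have k6 := ψ.ker.card_mul_index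
  rw [index_ker] at k6
  exact k6 ▸ Nat.mul_le_mul k5 k4

theorem facts [Finite G] (M : EtH z Q H φ cls) {Q' : Subgroup G} {y : G} (p : PQ Q z Q' y)
    (hH : Q' ⊓ centralizer {z} ≤ H) (hc : Nat.card Q' = 2 ^ 21) :
    2 ^ 12 ≤ Nat.card (Q ⊓ centralizer {y} : Subgroup G) ∧
    (2 ^ 13 ≤ Nat.card (Q ⊓ centralizer {y} : Subgroup G) ∧ Nat.card (Q' ⊓ centralizer {z} : Subgroup G) ≤ 2 ^ 12 ∨
      Nat.card (Q' ⊓ centralizer {z} : Subgroup G) ≤ 2 ^ 11) := by
  classical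
  have hy : y ∈ H := hH ⟨p.h'.mem, mem_cent_iff.2 p.comm⟩
  let c : H := ⟨y, hy⟩
  rcases ty (γ := φ c) (tg M) (φ c).2 (M.fixX c) (by
    rw [← Subgroup.coe_mul, ← map_mul, show c * c = 1 from Subtype.ext p.h'.sq, map_one]; rfl)
    (fun e => p.nm ((M.ker c).1 (Subtype.ext e))) with ⟨b, f, hf⟩ | ⟨b, v, a1, a2, a3⟩
  · choose V hV using fun a : Q => M.ex_cls a a.2
    have k : ∀ a b : Q, f (V a) = f (V b) → cm y b = cm y a ∨ cm y b = cm y a * z := fun a b e =>
      (M.eq_iff (cls_cm M c (hV a)) (cls_cm M c (hV b))).1 (Cw.of_cg (hf _ _ e))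
    have cI : Nat.card (P8.O0 → Bool) = 256 := by
      rw [Nat.card_fun, Nat.card_eq_fintype_card, Nat.card_eq_fintype_card, Fintype.card_coe, H15.oct0_mem.2]; rfl
    have R := card_R M p hH hy b
    let r := Function.invFun fun a : Q => f (V a)
    have k1 := card_le_of p.h'.sq (fun a : Q => (f (V a), decide (cm y a = cm y (r (f (V a)))))) fun a b e => by
      obtain ⟨e1, e2⟩ := Prod.ext_iff.1 e
      dsimp only at e1 e2
      rw [e1, decide_eq_decide] at e2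
      have s : f (V (r (f (V b)))) = f (V b) := Function.invFun_eq (f := fun a : Q => f (V a)) ⟨b, rfl⟩
      rcases k _ a (s.trans e1.symm) with h1 | h1 <;> rcases k _ b s with h2 | h2
      exacts [h1.trans h2.symm, h1.trans (by rw [← e2.1 h1]), (e2.2 h2).trans h2.symm, h1.trans h2.symm]
    rw [Nat.card_prod, cI, M.card, Nat.card_eq_fintype_card (α := Bool), Fintype.card_bool] at k1
    refine ⟨by omega, ?_⟩
    by_cases hp : ∀ u ∈ Q, cm y u ≠ z
    · have k2 := card_le_of p.h'.sq (fun a : Q => f (V a)) fun a b e => by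
        refine ((k a b e).resolve_right fun h => hp ((a : G)⁻¹ * b) (a⁻¹ * b).2 ?_).symm
        have := cm_mul y a ((a : G)⁻¹ * b)
        rw [mul_inv_cancel_left, h, mul_right_inj] at this
        calc cm y ((a : G)⁻¹ * b) = (a : G)⁻¹ * (a * cm y ((a : G)⁻¹ * b) * (a : G)⁻¹) * a := by group
          _ = z := by rw [← this, mul_assoc, ← M.h.central a a.2, inv_mul_cancel_left]
      rw [cI, M.card] at k2
      have := p.bound_pure hp R
      exact Or.inl ⟨by omega, by omega⟩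
    · push Not at hp
      obtain ⟨u, hu, e⟩ := hp
      have := p.bound_impure hu e R
      exact Or.inr (by omega)
  · exfalso
    obtain ⟨u, hu⟩ := M.ex_elt v ⟨a1, a2⟩
    by_cases hp : ∀ u ∈ Q, cm y u ≠ z
    · exact a3 ((M.sq (cls_cm M c hu)).1 (p.cm_sq hp (M.mem hu)))
    push Not at hp
    obtain ⟨q, hq, e⟩ := hp
    have k3 := p.symm.card_le_two_sq.trans (Nat.mul_le_mul_left 2 (Nat.pow_le_pow_left
      (p.bound_impure hq e (card_R M p hH hy b)) 2))
    rw [hc] at k3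
    norm_num at k3

theorem facts' [Finite G] (M : Eg z Q H φ cls) {Q' : Subgroup G} {y : G} (p : PQ Q z Q' y)
    (hc : Nat.card Q' = 2 ^ 21) :
    2 ^ 12 ≤ Nat.card (Q ⊓ centralizer {y} : Subgroup G) ∧
    (2 ^ 13 ≤ Nat.card (Q ⊓ centralizer {y} : Subgroup G) ∧ Nat.card (Q' ⊓ centralizer {z} : Subgroup G) ≤ 2 ^ 12 ∨
      Nat.card (Q' ⊓ centralizer {z} : Subgroup G) ≤ 2 ^ 11) := by
  obtain ⟨H', φ', cls', M', le, -⟩ := M.ext (R := Q' ⊓ centralizer {z}) fun x hx => ⟨mem_cent_iff.1 hx.2, by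
    rw [show x ^ 4 = x * x * (x * x) by simp only [pow_succ, pow_zero, one_mul, mul_assoc]]
    rcases p.h'.sq_mem hx.1 with e | e <;> rw [e]
    exacts [one_mul _, p.h'.sq]⟩
  exact facts M' p le hc

end H7.E3.FusX

namespace H7.E3

open Cfsg Subgroup H16 H95 H48.BR H21.ER

variable {G : Type*} [Group G] [Finite G] {z : G} {Q H : Subgroup G} {φ : H →* Stab vU}
  {cls : leechLattice → G → Prop}

theorem Eg.fus (M : Eg z Q H φ cls) {g : G} (h : g * z * g⁻¹ * z = z * (g * z * g⁻¹)) :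
    ∃ f ∈ Q, IsConj z f ∧ g⁻¹ * f * g ∈ Q := by
  by_contra N
  push Not at N
  have h' : g⁻¹ * z * g⁻¹⁻¹ * z = z * (g⁻¹ * z * g⁻¹⁻¹) := by
    calc g⁻¹ * z * g⁻¹⁻¹ * z = g⁻¹ * (z * (g * z * g⁻¹)) * g := by group
      _ = _ := by rw [← h]; group
  have a := FusX.facts' M (H22.EF.pq M.h h N) (M.toEtH.card_conj g)
  have b := FusX.facts' M (H22.EF.pq M.h h' fun f a b c => N _ c (b.trans (isConj_iff.2 ⟨g, by group⟩)) (by
    rw [show g⁻¹ * (g⁻¹⁻¹ * f * g⁻¹) * g = f by group]; exact a)) (M.toEtH.card_conj g⁻¹)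
  rw [H22.EF.card_swap] at a b
  rw [inv_inv g⁻¹, inv_inv g] at b
  rw [inv_inv g] at a
  omega

end H7.E3
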