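import Cfsg.Agent.Lib.E3L.Tw

/-! A conjugate of `z` in `Q \ Z`: the element interchanging `z` and `l (1, 0)`. -/

set_option autoImplicit false
set_option linter.unusedSectionVars false

namespace H7.E3.TwAx

open Subgroup Cfsg H7.F3 H87.Mc H7.F3.Syl
open H87.U6 (F3 f3_cases pw_add pw_zero pw_one pw_two pw_neg pw_mul pw_inj mem_zp cj_pw cm_cj)

variable {G : Type*} [Group G] [Finite G] {z y g : G} {l l' : V6 → G} {r r' : Fin 3 → G}

/-- the vectors `(u, 0)` with `∑ u = 0` -/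
def W0 : AddSubgroup V6 where
  carrier := {v | v.2 = 0 ∧ ∑ i, v.1 i = 0}
  zero_mem' := ⟨rfl, by simp⟩
  add_mem' := fun {a b} ha hb => ⟨by rw [Prod.snd_add, ha.1, hb.1, add_zero], by
    simp only [Prod.fst_add, Pi.add_apply, Finset.sum_add_distrib, ha.2, hb.2, add_zero]⟩
  neg_mem' := fun {a} ha => ⟨by rw [Prod.snd_neg, ha.1, neg_zero], by
    simp only [Prod.fst_neg, Pi.neg_apply, Finset.sum_neg_distrib, ha.2, neg_zero]⟩

theorem eqns_twa : True := by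
  have := @W0.eq_1
  trivial

theorem mem_W0 {v : V6} : v ∈ W0 ↔ v.2 = 0 ∧ ∑ i, v.1 i = 0 := Iff.rfl

theorem card_W0 : Nat.card W0 = 9 := by
  have : Nat.card W0 = Nat.card {v : V6 // v.2 = 0 ∧ ∑ i, v.1 i = 0} := rfl
  rw [this, Nat.card_eq_fintype_card, Fintype.card_subtype]
  decide +kernel

theorem one_ne : ((1, 0) : V6) ≠ 0 := by decide

/-- the centre of a point stabilizer -/
theorem zc {t : G} (h : A0 b6 z l t) {v : V6} (v0 : v ≠ 0) {k : F3} {B : Subgroup G}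
    (c : ∀ e ∈ B, e ∈ Qs z l → ∀ d ∈ Qs z l, d * qq z l v k = qq z l v k * d → d * e = e * d) :
    Nat.card (h.bar B) ≤ 3 := by
  refine le_of_le_of_eq ?_ (h.card_zm v0)
  rw [← h.perp_perp (AddSubgroup.zmultiples v)]
  refine AddSubgroup.card_le_of_le fun u ⟨m, hm⟩ w hw => ?_
  exact (h.qcm 0 m).1 (c _ hm (qQ _ _) _ (qQ w 0)
    ((h.qcm 0 k).2 (by rw [h.skew, h.mem_perp_zm.1 hw, neg_zero])))

theorem sym (h : E0 z l r) (h' : E0 y l' r') (y1 : y ∈ Qs z l) (y2 : y ∉ zpowers z) : z ∈ Qs y l' := by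
  by_contra hz
  have c := h.card_cent y1 y2
  have k := h'.idx27 (T := Qs z l ⊓ centralizer {y}) (fun x hx => h.Q3 hx.1)
    fun x hx => mem_centralizer_singleton_iff.1 hx.2
  have k2 : Nat.card (Qs z l ⊓ centralizer {y} ⊓ Qs y l' : Subgroup G) ≤ Nat.card (Qs y l' ⊓ Qs z l : Subgroup G) :=
    card_le_of_le fun x hx => ⟨hx.2, hx.1.1⟩
  obtain ⟨v, m, e⟩ := h.memQ.1 y1
  have k3 := zc h.toA0 (v := v) (k := m) (B := Qs y l')
    (fun e0 => y2 (by rw [e, e0, h.qz]; exact pow_mem (mem_zpowers z) _)) fun a ha ha' d hd dy => by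
      have m := mul_mem (h'.nQ' (e ▸ dy) ha) (inv_mem ha)
      rcases (mem_z3 h.z3).1 (h.comm_zp hd ha') with f | f | f
      · exact cm_cj.2 (mul_inv_eq_one.1 f)
      · exact absurd (f ▸ m) hz
      · exact absurd (inv_mem_iff.1 (f ▸ m)) hz
  rw [h.card_bar' hz] at k2
  rw [c, card_V6] at k
  omega

section One

variable (h : E0 z l r)
include h

theorem to_ro {x : G} {c : X3} {π : Equiv.Perm (Fin 3)} (e : π ^ 3 = 1) (e1 : π ≠ 1)
    (a : Ac z l x fun v => Ym c (pm π v)) : ∃ c', (Ac z l x fun v => Ym c' (pm ro v)) ∨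
      Ac z l x⁻¹ fun v => Ym c' (pm ro v) := by
  rcases (perm3 _).1 e with rfl | rfl | rfl
  · exact absurd rfl e1
  · exact ⟨c, Or.inl a⟩
  · refine ⟨-(c ∘ ro), Or.inr (h.ac_inv a fun v => ?_)⟩
    rw [Two.std_mul, mul_inv_cancel, pm_one, show c + (-(c ∘ ro)) ∘ (ro⁻¹ : Equiv.Perm (Fin 3)) = 0 by
      funext i; simp, Ym_zero]

theorem cst' {σ x : G} {c c' : X3} (a : Ac z l σ fun v => Ym c' (pm ro v)) (b : Ac z l x (Ym c))
    (q : σ * x * σ⁻¹ * x⁻¹ ∈ Qs z l) : ∃ k : F3, c = fun _ => k := by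
  have e1 := h.ac_mul (h.ac_Q q) (h.ac_mul b a)
  rw [show σ * x * σ⁻¹ * x⁻¹ * (x * σ) = σ * x by group] at e1
  have := (Two.std_uniq (c := c + c') (π := ro) (c' := c' + c ∘ ro) (π' := ro) fun v => by
    have := h.ac_uniq e1 (h.ac_mul a b) v
    rwa [id, Ym_Ym, pm_Ym, Ym_Ym] at this).2
  exact Two.cst_of c (by rw [add_comm] at this; exact (add_left_cancel this).symm)

theorem Ym_neg {x : G} {c : X3} (a : Ac z l x (Ym c)) : Ac z l x⁻¹ (Ym (-c)) :=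
  h.ac_inv a fun v => by rw [Ym_Ym, add_neg_cancel, Ym_zero]

theorem ac_fix {x : G} {φ : V6 → V6} (a : Ac z l x φ) {v : V6} (c : x * l v = l v * x) : φ v = v := by
  obtain ⟨k, e⟩ := a.2 v
  rw [cm_cj.1 c, ← q0 z l] at e
  exact (h.q_inj e).1.symm

end One

/-- two frames, each based at the element `l (1, 0)` of the other -/
structure Pa (z : G) (l : V6 → G) (r : Fin 3 → G) (y : G) (l' : V6 → G) (r' : Fin 3 → G) : Prop where
  F : E0 z l r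
  F' : E0 y l' r'
  ey : y = l (1, 0)
  ez : z = l' (1, 0)

namespace Pa

variable (P : Pa z l r y l' r')
include P

theorem symm : Pa y l' r' z l r := ⟨P.F', P.F, P.ez, P.ey⟩
theorem yQ : y ∈ Qs z l := P.ey ▸ lQ _
theorem y2 : y ∉ zpowers z := fun e => one_ne (P.F.linj _ (P.ey ▸ e))

theorem zp_inf {x : G} (h1 : x ∈ zpowers z) (h2 : x ∈ zpowers y) : x = 1 := by
  rcases (mem_z3 P.F'.z3).1 h2 with e | e | e
  · exact e
  · exact absurd (e ▸ h1) P.y2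
  · exact absurd (inv_mem_iff.1 (e ▸ h1)) P.y2

theorem cm_bar {d : G} (hd : d ∈ Qs y l') {φ : V6 → V6} (a : Ac z l d φ) {v : V6} {k : F3}
    (he : qq z l v k ∈ Qs y l') :
    ∃ m : F3, φ v - v = (fun _ => m, 0) ∧ (m = 0 → d * qq z l v k = qq z l v k * d) := by
  obtain ⟨m, e⟩ := (mem_zp P.F'.z3).1 (P.F'.comm_zp hd he)
  refine ⟨m, ?_, fun m0 => cm_cj.2 (mul_inv_eq_one.1 (by rw [e, m0, pw_zero]))⟩
  obtain ⟨n, f⟩ := P.F.ac_q' a v
  rw [f, P.F.qinv, P.F.qmul, P.ey, P.F.la_pow, ← q0 z l] at e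
  rw [sub_eq_add_neg, (P.F.q_inj e).1]
  congr 1
  funext i
  simp

theorem cardD : Nat.card (Qs y l' ⊓ centralizer {z} : Subgroup G) = 729 :=
  (P.F'.card_cent P.symm.yQ P.symm.y2).trans card_V6

theorem cardE_le : Nat.card (Qs z l ⊓ Qs y l' : Subgroup G) ≤ 81 := by
  have k := P.F.iso_le (P.F.bar_iso (B := Qs z l ⊓ Qs y l') fun a ha b hb =>
    cm_cj.2 (mul_inv_eq_one.1 (P.zp_inf (P.F.comm_zp ha.1 hb.1) (P.F'.comm_zp ha.2 hb.2))))
  have k2 := P.F.card_bar (B := Qs z l ⊓ Qs y l') ⟨zQ, P.symm.yQ⟩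
  rw [inf_eq_left.2 inf_le_left] at k2
  rw [card_V6] at k
  have : Nat.card (P.F.bar (Qs z l ⊓ Qs y l')) ≤ 27 := by nlinarith
  omega

theorem std {d : G} (hd : d ∈ Qs y l') (dz : d * z = z * d) : Std z l d := by
  obtain ⟨φ, a⟩ := P.F.exists_ac dz
  obtain ⟨c, π, b⟩ := P.F.fix_std a (ac_fix P.F a (P.ey ▸ P.F'.QH hd))
  exact P.F.std_of b (k := 1) (by simpa using P.F'.Q3 hd)

theorem exists_sig : ∃ σ ∈ Qs y l', ∃ c, Ac z l σ fun v => Ym c (pm ro v) := by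
  by_contra! hn
  have dg : ∀ d ∈ Qs y l', d * z = z * d → ∃ c, Ac z l d (Ym c) := fun d hd dz => by
    obtain ⟨c, π, e, a⟩ := P.std hd dz
    by_cases e1 : π = 1
    · exact ⟨c, by simpa only [e1, pm_one] using a⟩
    · obtain ⟨c', b | b⟩ := to_ro P.F e e1 a
      exacts [absurd b (hn _ hd _), absurd b (hn _ (inv_mem hd) _)]
  have cD := P.cardD
  have cE := P.cardE_le
  have k := P.F.idx27 (T := Qs y l' ⊓ centralizer {z}) (fun x hx => P.F'.Q3 hx.1)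
    fun x hx => mem_centralizer_singleton_iff.1 hx.2
  have k2 : Nat.card (Qs y l' ⊓ centralizer {z} ⊓ Qs z l : Subgroup G) ≤ Nat.card (Qs z l ⊓ Qs y l' : Subgroup G) :=
    card_le_of_le fun x hx => ⟨hx.2, hx.1.1⟩
  have k3 := zc P.F'.toA0 one_ne (k := 0) (B := Qs z l) fun e he he' d hd dz => by
    rw [q0, ← P.ez] at dz
    obtain ⟨v, m, rfl⟩ := P.F.memQ.1 he
    obtain ⟨c, a⟩ := dg d hd dz
    obtain ⟨n, f1, f2⟩ := P.cm_bar hd a he'
    by_cases w : ∃ i, v.2 i = 0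
    · obtain ⟨i, hi⟩ := w
      exact f2 (by simpa [Ym, hi] using (congrFun (congrArg Prod.fst f1) i).symm)
    push Not at w
    have := cnt (Qs y l' ⊓ centralizer {z}) (Qs z l ⊓ Qs y l') (Finset.univ : Finset F3)
      (fun x k => ∃ c, Ac z l x (Ym c) ∧ c * v.2 = fun _ => k) (fun x hx => by
        obtain ⟨c, a⟩ := dg x hx.1 (mem_centralizer_singleton_iff.1 hx.2)
        obtain ⟨n, f1, -⟩ := P.cm_bar hx.1 a he'
        exact ⟨n, Finset.mem_univ _, c, a, by simpa [Ym] using congrArg Prod.fst f1⟩)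
      fun x hx x' hx' k ⟨c, a, e⟩ ⟨c', a', e'⟩ => by
        obtain rfl : c = c' := funext fun i =>
          (by decide : ∀ a b w : F3, w ≠ 0 → a * w = b * w → a = b) _ _ _ (w i) (congrFun (e.trans e'.symm) i)
        exact ⟨P.F.div_memQ a a', (Qs y l').mul_mem ((Qs y l').inv_mem hx.1) hx'.1⟩
    rw [Finset.card_univ, ZMod.card] at this
    omega
  have k4 := P.F'.card_bar (B := Qs z l) P.yQ
  omega

theorem cst {d : G} (hd : d ∈ Qs y l') {c : X3} (a : Ac z l d (Ym c)) : ∃ k : F3, c = fun _ => k := by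
  obtain ⟨σ, hσ, c', b⟩ := P.exists_sig
  exact cst' P.F b a (zpowers_le.2 P.yQ (P.F'.comm_zp hσ hd))

theorem cardE : Nat.card (Qs z l ⊓ Qs y l' : Subgroup G) = 81 := by
  have := cnt (Qs y l' ⊓ centralizer {z}) (Qs z l ⊓ Qs y l')
    (Finset.univ.filter fun x : Equiv.Perm (Fin 3) × F3 => x.1 ^ 3 = 1)
    (fun x p => ∃ c, (Ac z l x fun v => Ym c (pm p.1 v)) ∧ c 0 = p.2) (fun x hx => by
      obtain ⟨c, π, e, a⟩ := P.std hx.1 (mem_centralizer_singleton_iff.1 hx.2)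
      exact ⟨(π, c 0), Finset.mem_filter.2 ⟨Finset.mem_univ _, e⟩, c, a, rfl⟩)
    fun x hx x' hx' p ⟨c, a, e⟩ ⟨c', a', e'⟩ => by
      obtain ⟨k, f⟩ := P.cst (mul_mem hx'.1 (inv_mem hx.1)) (P.F.std_div a a')
      have k0 : k = 0 := by simpa [e, e'] using (congrFun f 0).symm
      obtain rfl : c' = c := sub_eq_zero.1 (by rw [f, k0]; rfl)
      exact ⟨P.F.div_memQ a a', (Qs y l').mul_mem ((Qs y l').inv_mem hx.1) hx'.1⟩
  rw [P.cardD, show (Finset.univ.filter fun x : Equiv.Perm (Fin 3) × F3 => x.1 ^ 3 = 1).card = 9 by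
    decide +kernel] at this
  have := P.cardE_le
  omega

theorem exists_one : ∃ d ∈ Qs y l', Ac z l d (Ym 1) := by
  by_contra! hn
  have := cnt (Qs y l' ⊓ centralizer {z}) (Qs z l ⊓ Qs y l')
    (Finset.univ.filter fun x : Equiv.Perm (Fin 3) => x ^ 3 = 1)
    (fun x p => ∃ c, Ac z l x fun v => Ym c (pm p v)) (fun x hx => by
      obtain ⟨c, π, e, a⟩ := P.std hx.1 (mem_centralizer_singleton_iff.1 hx.2)
      exact ⟨π, Finset.mem_filter.2 ⟨Finset.mem_univ _, e⟩, c, a⟩)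
    fun x hx x' hx' p ⟨c, a⟩ ⟨c', a'⟩ => by
      have m := (Qs y l').mul_mem hx'.1 ((Qs y l').inv_mem hx.1)
      have b := P.F.std_div a a'
      obtain ⟨k, f⟩ := P.cst m b
      rcases f3_cases k with rfl | rfl | rfl
      · obtain rfl : c' = c := sub_eq_zero.1 f
        exact ⟨P.F.div_memQ a a', (Qs y l').mul_mem ((Qs y l').inv_mem hx.1) hx'.1⟩
      · rw [f] at b
        exact absurd b (hn _ m)
      · rw [f] at b
        exact absurd (Ym_neg P.F b) (hn _ (inv_mem m))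
  rw [P.cardD, P.cardE, show (Finset.univ.filter fun x : Equiv.Perm (Fin 3) => x ^ 3 = 1).card = 3 by
    decide +kernel] at this
  omega

theorem sum {x : G} {c : X3} (a : Ac z l x (Ym c)) : ∑ i, c i = 0 := by
  obtain ⟨σ, hσ, c', b⟩ := P.exists_sig
  obtain ⟨n, -, e⟩ := P.F.exists_ex a
  generalize n * x = δ at e
  have dy : δ * y = y * δ := cm_cj.2 (by rw [P.ey, e.act, Ym_a])
  have b' : Ac z l (δ * σ * δ⁻¹) fun v => Ym (c + c' + (-c) ∘ ro) (pm ro v) :=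
    (P.F.ac_mul (P.F.ac_mul e.ac b) (Ym_neg P.F e.ac)).congr fun v => by rw [pm_Ym, Ym_Ym, Ym_Ym]
  obtain ⟨k, f⟩ := P.cst (mul_mem (P.F'.nQ' dy hσ) (inv_mem hσ)) (P.F.std_div b b')
  rw [show c + c' + (-c) ∘ ro - c' = c + (-c) ∘ ro by ring] at f
  exact (by decide +kernel : ∀ (c : X3) (k : F3), c + (-c) ∘ ro = (fun _ => k) → ∑ i, c i = 0) c k f

theorem w_cst {v : V6} {k : F3} (he : qq z l v k ∈ Qs y l') : ∃ m : F3, v.2 = fun _ => m := by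
  obtain ⟨d, hd, a⟩ := P.exists_one
  obtain ⟨m, f, -⟩ := P.cm_bar hd a he
  exact ⟨m, by simpa [Ym] using congrArg Prod.fst f⟩

theorem u_sum {v : V6} {k : F3} (he : qq z l v k ∈ Qs y l') (w : v.2 = 0) : v ∈ W0 := by
  obtain ⟨σ, hσ, c, a⟩ := P.exists_sig
  obtain ⟨m, f, -⟩ := P.cm_bar hσ a he
  refine ⟨w, (by decide +kernel : ∀ (u : X3) (k : F3), u ∘ ro - u = (fun _ => k) → ∑ i, u i = 0) _ m ?_⟩
  simpa [Ym, pm, w] using congrArg Prod.fst f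

theorem W_le : P.F.pre W0 ≤ Qs y l' := by
  have := cnt (Qs z l ⊓ Qs y l') (P.F.pre W0 ⊓ Qs y l') (Finset.univ : Finset F3)
    (fun x k => ∃ v m, x = qq z l v m ∧ v.2 = fun _ => k) (fun x hx => by
      obtain ⟨v, m, rfl⟩ := P.F.memQ.1 hx.1
      obtain ⟨k, e⟩ := P.w_cst hx.2
      exact ⟨k, Finset.mem_univ _, v, m, rfl, e⟩)
    fun x hx x' hx' k ⟨v, m, e, f⟩ ⟨v', m', e', f'⟩ => by
      have q := (Qs y l').mul_mem ((Qs y l').inv_mem hx.2) hx'.2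
      refine ⟨?_, q⟩
      rw [e, e', P.F.qinv, P.F.qmul] at q ⊢
      exact P.F.q_mem_pre.2 (P.u_sum q (by rw [Prod.snd_add, Prod.snd_neg, f, f', neg_add_cancel]))
  rw [Finset.card_univ, ZMod.card, P.cardE] at this
  refine inf_eq_left.1 (eq_of_le_of_card_ge inf_le_left ?_)
  rw [P.F.card_pre, card_W0]
  omega

end Pa

/-- `g` interchanges `z` and `l (1, 0)` -/
structure Sw (z : G) (l : V6 → G) (r : Fin 3 → G) (g : G) : Prop extends E0 z l r where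
  gz : g * z * g⁻¹ = l (1, 0)
  gy : g * l (1, 0) * g⁻¹ = z

theorem exists_sw (h : E0 z l r) (n : ¬ WC z l) : ∃ g, Sw z l r g := by
  have key : ∀ g, g * z * g⁻¹ ∈ Qs z l → g * z * g⁻¹ ∉ zpowers z →
      ∃ k, k * z = z * k ∧ k * (g * z * g⁻¹) * k⁻¹ = l (1, 0) := fun g h1 h2 => by
    obtain ⟨v, m, e⟩ := h.memQ.1 h1
    rw [e]
    exact h.full_conj (h.full e fun e0 => h2 (by rw [e, e0, h.qz]; exact pow_mem (mem_zpowers z) _)) m
  rw [WC] at n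
  push Not at n
  obtain ⟨g₁, h1, h2⟩ := n
  obtain ⟨k, -, e⟩ := key g₁ h1 h2
  have e0 : k * g₁ * z * (k * g₁)⁻¹ = l (1, 0) := by rw [← e]; group
  generalize k * g₁ = g at e0
  have y2 : g * z * g⁻¹ ∉ zpowers z := fun f => one_ne (h.linj _ (e0 ▸ f))
  have s := sym h (h.conj g) (e0 ▸ lQ _) y2
  obtain ⟨k', kz, e'⟩ := key g⁻¹ (E0.mem_conj.1 (by
    rwa [show g * (g⁻¹ * z * g⁻¹⁻¹) * g⁻¹ = z by group])) fun f => y2 (by
      rcases (mem_z3 h.z3).1 f with f | f | f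
      · exact absurd (conj_eq_one_iff.1 f) h.z1
      · rw [show g * z * g⁻¹ = z by nth_rewrite 1 [← f]; group]; exact mem_zpowers z
      · rw [show g * z * g⁻¹ = z⁻¹ from calc
          _ = (g * (g⁻¹ * z * g⁻¹⁻¹) * g⁻¹)⁻¹ := by rw [f]; group
          _ = _ := by group]
        exact inv_mem (mem_zpowers z))
  refine ⟨g * k'⁻¹, h, ?_, by rw [← e']; group⟩
  rw [← e0, show g * k'⁻¹ * z * (g * k'⁻¹)⁻¹ = g * (k'⁻¹ * z * k'⁻¹⁻¹) * g⁻¹ by group,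
    cm_cj.1 (show Commute k' z from kz).inv_left.eq]

namespace Sw

variable (h : Sw z l r g)
include h

theorem symm : Sw z l r g⁻¹ := ⟨h.toE0, by rw [← h.gy]; group, by rw [← h.gz]; group⟩

theorem pa : Pa z l r (g * z * g⁻¹) (fun v => g * l v * g⁻¹) fun i => g * r i * g⁻¹ :=
  ⟨h.toE0, h.conj g, h.gz, h.gy.symm⟩

theorem W_cj {x : G} (hx : x ∈ h.pre W0) : g * x * g⁻¹ ∈ Qs z l := by
  have := h.symm.pa.W_le hx
  rwa [show x = g⁻¹ * (g * x * g⁻¹) * g⁻¹⁻¹ by group, E0.mem_conj] at this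

theorem nW0 {u : X3} (hu : ∑ i, u i = 0) : g * l (u, 0) * g⁻¹ ∈ h.pre W0 := by
  rcases (by decide +kernel : ∀ u : X3, ∑ i, u i = 0 → (∃ m : F3, u = m • 1) ∨ (u ≠ 0 ∧ ∃ i, u i = 0)) u hu with
    ⟨m, rfl⟩ | ⟨u0, i, hi⟩
  · rw [← h.la_pow, cj_pw h.gy, ← h.qz]
    exact h.q_mem_pre.2 (zero_mem _)
  obtain ⟨v, k, e⟩ := h.memQ.1 (h.W_cj (x := l (u, 0)) (q0 z l _ ▸ h.q_mem_pre.2 ⟨rfl, hu⟩))
  have q : qq z l v k ∈ Qs (g * z * g⁻¹) fun v => g * l v * g⁻¹ := e ▸ E0.mem_conj.2 (lQ _)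
  obtain ⟨m, w⟩ := h.pa.w_cst q
  rw [e]
  refine h.q_mem_pre.2 (h.pa.u_sum q ?_)
  by_contra w0
  obtain ⟨a, -, f⟩ := h.full_conj (v := v) (fun j => Or.inr fun f => w0 (by
    rw [w] at f ⊢; rw [show m = 0 from f]; rfl)) k
  have := h.full (g := (a * g)⁻¹ * g) (v := (u, 0)) (k := 0) (by
    rw [q0, show (a * g)⁻¹ * g * z * ((a * g)⁻¹ * g)⁻¹ = (a * g)⁻¹ * (g * z * g⁻¹) * (a * g) by group, h.gz, ← f, ← e]
    group) (fun f => u0 (congrArg Prod.fst f)) i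
  simp [hi] at this

theorem nW {x : G} (hx : x ∈ h.pre W0) : g * x * g⁻¹ ∈ h.pre W0 := by
  obtain ⟨⟨u, w⟩, ⟨rfl, hu⟩, k, rfl⟩ := hx
  rw [qq, ← conj_mul, cj_pw h.gz]
  exact mul_mem (h.nW0 hu) (pow_mem (q0 z l _ ▸ h.q_mem_pre.2 ⟨rfl, by decide⟩) _)

theorem cW (u : X3) {x : G} (hx : x ∈ h.pre W0) : g * l (u, 0) * g⁻¹ * x = x * (g * l (u, 0) * g⁻¹) := by
  obtain ⟨v, hv, k, e⟩ := h.symm.nW hx
  have := (h.qcm (u := (u, 0)) (v := v) 0 k).2 (Two.b6_AA rfl hv.1)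
  rw [q0, ← e] at this
  calc _ = g * (l (u, 0) * (g⁻¹ * x * g⁻¹⁻¹)) * g⁻¹ := by group
    _ = _ := by rw [this]; group

theorem cst (u : X3) : ∃ k : F3, Ac z l (g * l (u, 0) * g⁻¹) (Ym fun _ => k) := by
  have q : g * l (u, 0) * g⁻¹ ∈ Qs (g * z * g⁻¹) fun v => g * l v * g⁻¹ := E0.mem_conj.2 (lQ _)
  obtain ⟨c, π, -, a⟩ := h.pa.std q (h.cW u ⟨0, zero_mem _, 1, h.q01.symm⟩)
  have f := ac_fix h.toE0 a (h.cW u (x := l (![0, 1, 2], 0)) (q0 z l _ ▸ h.q_mem_pre.2 ⟨rfl, by decide⟩))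
  obtain rfl : π = 1 := (by decide +kernel : ∀ π : Equiv.Perm (Fin 3), (![0, 1, 2] : X3) ∘ π = ![0, 1, 2] → π = 1) π
    (by simpa [Ym, pm] using congrArg Prod.fst f)
  obtain ⟨k, rfl⟩ := h.pa.cst q a
  exact ⟨k, a⟩

theorem cm0 (u u' : X3) : g * l (u, 0) * g⁻¹ * l (u', 0) * (g * l (u, 0) * g⁻¹)⁻¹ * (l (u', 0))⁻¹ ∈ zpowers z := by
  obtain ⟨k, a⟩ := h.cst u
  obtain ⟨m, e⟩ := a.2 (u', 0)
  rw [e, Ym_a, qq, h.lzn, mul_inv_cancel_right]
  exact pow_mem (mem_zpowers z) _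

theorem cm (u u' : X3) : g * l (u, 0) * g⁻¹ * l (u', 0) = l (u', 0) * (g * l (u, 0) * g⁻¹) := by
  refine cm_cj.2 (mul_inv_eq_one.1 (h.pa.zp_inf (h.cm0 u u') ?_))
  obtain ⟨k, e⟩ := (mem_zp h.z3).1 (inv_mem (h.symm.cm0 u' u))
  rw [(mem_zp (h.conj g).z3), ]
  exact ⟨k, by rw [conj_pow, ← e]; group⟩

theorem out : ∃ u, g * l (u, 0) * g⁻¹ ∉ Qs z l := by
  by_contra! hn
  obtain ⟨v, k, e⟩ := h.memQ.1 (hn (Pi.single 0 1))
  have w : v.2 = 0 := funext fun j => by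
    have := h.cm (Pi.single 0 1) (Pi.single j 1)
    rw [e, ← q0 z l (_, 0), h.qcm] at this
    simpa [b6, Pi.single_apply] using this
  have := h.symm.nW (h.q_mem_pre.2 (h.pa.u_sum (k := k) (e ▸ E0.mem_conj.2 (lQ _)) w) : qq z l v k ∈ _)
  rw [← e, show g⁻¹ * (g * l (Pi.single 0 1, 0) * g⁻¹) * g⁻¹⁻¹ = l (Pi.single 0 1, 0) by group, ← q0 z l,
    A0.q_mem_pre] at this
  exact absurd this.2 (by decide)

theorem tw : Tw z l r g where
  toE0 := h.toE0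
  gz := h.gz
  gy := h.gy
  sum _ _ a := h.pa.sum a
  sig := by
    obtain ⟨σ, -, c, a⟩ := h.pa.exists_sig
    obtain ⟨n, -, e⟩ := h.exists_ex a
    exact ⟨_, c, e⟩
  cm := h.cm
  cst := h.cst
  out := h.out
  nW u hu := by
    obtain ⟨⟨u', w⟩, ⟨rfl, -⟩, k, e⟩ := h.nW0 hu
    exact ⟨u', k, e⟩

end Sw

end H7.E3.TwAx

namespace H7.E3

open Subgroup Cfsg H7.F3
open H87.U6 (F3 f3_cases pw_add pw_zero pw_one pw_two pw_neg pw_mul pw_inj mem_zp cj_pw cm_cj)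

variable {G : Type*} [Group G] [Finite G] {z y : G} {l l' : V6 → G} {r r' : Fin 3 → G} {J S : Subgroup G}

theorem E0.twa (h : E0 z l r) (n : ¬ WC z l) : ∃ g, Tw z l r g :=
  let ⟨g, s⟩ := TwAx.exists_sw h n
  ⟨g, s.tw⟩

end H7.E3
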