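import Cfsg.Agent.Lib.E3L.Tw

/-! The subgroup `J = C(A)` in the 3-local configuration of `²E₆(2)` (helper84). -/

set_option autoImplicit false
set_option linter.unusedSectionVars false

namespace H7.E3

open Subgroup Cfsg H7.F3
open H87.U6 (F3 f3_cases pw_add pw_zero pw_one pw_two pw_neg pw_mul pw_inj mem_zp cj_pw cm_cj)

variable {G : Type*} [Group G] [Finite G] {z y : G} {l l' : V6 → G} {r r' : Fin 3 → G} {J S : Subgroup G}

namespace TwB

/-- the centralizer of `A` -/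
def JJ (z : G) (l : V6 → G) : Subgroup G := centralizer {z} ⊓ centralizer (Set.range fun u : X3 => l (u, 0))

/-- a vector with non-zero sum -/
def ee : X3 := sg 2

theorem eqns_twb : True := by
  have := @JJ.eq_1.{0}
  have := @ee.eq_1
  trivial

theorem memJ {g : G} : g ∈ JJ z l ↔ g * z = z * g ∧ ∀ u, g * l (u, 0) = l (u, 0) * g :=
  ⟨fun a => ⟨mem_centralizer_singleton_iff.1 a.1, fun u => (a.2 _ ⟨u, rfl⟩).symm⟩, fun a =>
    ⟨mem_centralizer_singleton_iff.2 a.1, by rintro _ ⟨u, rfl⟩; exact (a.2 u).symm⟩⟩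

theorem qJ {x : G} (hx : x ∈ JJ z l) (u : X3) (k : F3) : x * qq z l (u, 0) k = qq z l (u, 0) k * x := by
  rw [qq, ← mul_assoc, (memJ.1 hx).2, mul_assoc, cz (memJ.1 hx).1, mul_assoc]

theorem exJ {t δ : G} {c : X3} (a : Ex z l t δ (Ym c)) : δ ∈ JJ z l :=
  memJ.2 ⟨a.cz, fun u => cm_cj.2 (by rw [a.act, Ym_a])⟩

theorem dec_u : ∀ ε : F3, ε ≠ 0 → ∀ u : X3, ∃ s : F3, ∑ i, (u - s • ε • ee) i = 0 := by decide +kernel
theorem full_a : ∀ u : X3, (u ≠ 0 ∧ ∑ i, u i * u i = 0) ↔ ∀ i, u i ≠ 0 := by decide +kernel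
theorem c_cases : ∀ c : X3, ∑ i, c i = 0 → (∃ m, c = fun _ => m) ∨ ∃ i, c i = 0 ∧ ∀ j, j ≠ i → c j ≠ 0 := by
  decide +kernel
theorem full_iff {u : X3} : Full (u, 0) ↔ ∀ i, u i ≠ 0 := by simp [Full]

section

variable (h : E0 z l r)
include h

theorem qmJ (u : X3) (k : F3) : qq z l (u, 0) k ∈ JJ z l :=
  memJ.2 ⟨h.qH _ _, fun v => by rw [← q0 z l (v, 0), h.qcm]; exact b6_aa u v⟩

theorem decJ {g : G} (hg : g ∈ JJ z l) : ∃ u δ c, Ex z l (r 0 * r 1 * r 2) δ (Ym c) ∧ g = l (u, 0) * δ :=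
  h.dec_A (memJ.1 hg).1 (memJ.1 hg).2

theorem nJ {g : G} {φ : V6 → V6} (a : Ac z l g φ) (e : ∀ u, (φ (u, 0)).2 = 0) :
    g ∈ normalizer (JJ z l : Set G) := by
  refine inv_mem_iff.1 (nrm_of fun x hx => memJ.2 ⟨?_, fun u => ?_⟩)
  · exact (((show Commute g z from a.1).inv_left.mul_left (memJ.1 hx).1).mul_left
      (show Commute g z from a.1).inv_left.inv_left).eq
  · obtain ⟨k, f⟩ := a.2 (u, 0)
    rw [← Prod.mk.eta (p := φ (u, 0)), e] at f
    calc _ = g⁻¹ * (x * (g * l (u, 0) * g⁻¹)) * g := by group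
      _ = _ := by rw [f, qJ hx, ← f]; group

theorem cjd {δ : G} {c : X3} (a : Ex z l (r 0 * r 1 * r 2) δ (Ym c)) (w u : X3) (k : F3) :
    l (0, w) * (qq z l (u, 0) k * δ) * (l (0, w))⁻¹ =
      qq z l (u - c * w, 0) (k + ∑ i, (w i * u i + c i * (w i * w i))) * δ := by
  rw [← conj_mul, h.cj_Ym a, ← q0 z l (0, w), h.qcj, ← mul_assoc, h.qmul, b6_aa]
  congr 2
  · simp [sub_eq_add_neg]
  · simp only [b6, Finset.sum_add_distrib, Pi.zero_apply, zero_sub, Finset.sum_neg_distrib, mul_zero]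
    ring

theorem cjd' {δ : G} {c : X3} (a : Ex z l (r 0 * r 1 * r 2) δ (Ym c)) (w u : X3) (k : F3) {u' : X3} {k' : F3}
    (e : u - c * w = u') (e' : k + ∑ i, (w i * u i + c i * (w i * w i)) = k') :
    IsConj (qq z l (u, 0) k * δ) (qq z l (u', 0) k' * δ) := isConj_iff.2 ⟨_, e ▸ e' ▸ cjd h a w u k⟩

theorem zy1 {k m : F3} (e : z ^ k.val = l (1, 0) ^ m.val) : z ^ k.val = 1 := by
  rw [h.la_pow, ← h.qz, ← q0 z l (_, 0)] at e
  rw [(h.q_inj e).2, pw_zero]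

theorem full' {v : V6} {k : F3} (e : IsConj z (qq z l v k)) (v0 : v ≠ 0) : Full v :=
  let ⟨_, f⟩ := isConj_iff.1 e
  h.full f v0

theorem ex_pw {δ : G} {c : X3} (a : Ex z l (r 0 * r 1 * r 2) δ (Ym c)) (m : F3) :
    Ex z l (r 0 * r 1 * r 2) (δ ^ m.val) (Ym (m • c)) := (a.pow _).congr fun v => by
  rcases f3_cases m with rfl | rfl | rfl
  · rw [zero_smul, Ym_zero]; rfl
  · rw [one_smul]; rfl
  · rw [show (2 : F3) = 1 + 1 from rfl, add_smul, one_smul]; exact Ym_Ym c c v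

theorem ex_zm {δ : G} {c : X3} (a : Ex z l (r 0 * r 1 * r 2) δ (Ym c)) (k : F3) :
    Ex z l (r 0 * r 1 * r 2) (z ^ k.val * δ) (Ym c) := (h.ex_z k.val).mul a

theorem ym_inj {x : G} {c c' : X3} (a : Ac z l x (Ym c)) (b : Ac z l x (Ym c')) : c = c' := by
  simpa [Ym] using congrArg Prod.fst (h.ac_uniq a b (0, 1))

theorem ac_j {δ : G} {c : X3} (a : Ex z l (r 0 * r 1 * r 2) δ (Ym c)) (v : V6) (k : F3) :
    Ac z l (qq z l v k * δ) (Ym c) := (h.ac_mul (h.ac_q v k) a.ac :)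

theorem ac_Q0 {x : G} (hx : x ∈ Qs z l) : Ac z l x (Ym 0) := (h.ac_Q hx).congr fun v => (Ym_zero v).symm

/-- no singular element of `J` has a non-constant action -/
theorem not_sing {δ : G} {c : X3} (a : Ex z l (r 0 * r 1 * r 2) δ (Ym c)) {i : Fin 3} (c0 : c i = 0)
    (c1 : ∀ j, j ≠ i → c j ≠ 0) (u : X3) : ¬ IsConj z (l (u, 0) * δ) := fun s => by
  have sq : ∀ x : F3, x ≠ 0 → x * x = 1 := by decide
  obtain ⟨j0, hj0⟩ := exists_ne i
  rw [← q0 z l] at s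
  replace s := s.trans (cjd' h a (c * u) u 0 (u' := Pi.single i (u i)) (by
    funext j
    by_cases e : j = i
    · simp [e, c0]
    · simp [e, ← mul_assoc, sq _ (c1 j e)]) rfl)
  rw [qq, mul_assoc, ← q0 z l] at s
  replace a := ex_zm h a (0 + ∑ i, ((c * u) i * u i + c i * ((c * u) i * (c * u) i)))
  generalize z ^ _ * δ = d at s a
  obtain ⟨x, hx⟩ := isConj_iff.1 s
  have F := h.conj x
  rw [hx] at F
  have pw : ∀ k : F3, (qq z l (Pi.single i (u i), 0) 0 * d) ^ k.val ∈ Qs z l → k = 0 := fun k hk => by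
    have b := h.ac_pow (ac_j h a (Pi.single i (u i), 0) 0) k.val
    have := congrFun (ym_inj h (b.congr (h.ac_uniq (h.ac_pow a.ac _) (ex_pw h a k).ac)) (ac_Q0 h hk)) j0
    simpa [c1 j0 hj0] using this
  by_cases u0 : u i = 0
  · have e : qq z l (Pi.single i (u i), 0) 0 * d = d := by
      rw [u0, Pi.single_zero, show ((0, 0) : V6) = 0 from rfl, h.q00, one_mul]
    rw [e] at F pw
    obtain ⟨k, hk⟩ := (mem_zp F.z3).1 (h.plane F i (fun s t => (cm_cj.2 (by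
        rw [a.act]; congr 1; ext j <;> by_cases f : j = i <;> simp [Ym, pl, f, c0])).symm)
      fun ρ m _ o ρ4 b => (h.ex_cm a b ρ4 fun v => by
        ext j <;> by_cases f : j = i <;> simp [Ym, Mx.ap, f, c0, o j]).symm)
    rw [pw k (hk ▸ zQ), pw_zero] at hk
    exact h.z1 hk
  have rc : ∀ j, j ≠ i → r j * (qq z l (Pi.single i (u i), 0) 0 * d) = qq z l (Pi.single i (u i), 0) 0 * d * r j :=
    fun j hj => cm_cj.2 (by
      rw [← conj_mul, h.rq, ← pl_a, ng_pl' j i hj, cm_cj.1 (h.ex_Ym a j).symm])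
  have ac : ∀ m, l (pl m 1 0) * (qq z l (Pi.single i (u i), 0) 0 * d) =
      qq z l (Pi.single i (u i), 0) 0 * d * l (pl m 1 0) := fun m => by
    rw [pl_a]; exact ((memJ.1 (mul_mem (qmJ h _ _) (exJ a))).2 _).symm
  obtain ⟨m, hm, mQ⟩ : ∃ m, m ≠ i ∧ l (pl m 1 0) ∈ Qs _ fun v => x * l v * x⁻¹ := by
    obtain ⟨n1, n2, n3⟩ := (by decide : ∀ i : Fin 3, i + 1 ≠ i ∧ i + 2 ≠ i ∧ i + 2 ≠ i + 1) i
    have iv : ∀ j, r j * l (pl j 1 0) * (r j)⁻¹ = (l (pl j 1 0))⁻¹ := fun j => by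
      rw [(h.er j).act, ng_pl, h.linv]
    rcases F.dg_two (rc _ n1) (rc _ n2) (h.r2 _) (h.r2 _) (h.rc _ _) with b | b | b
    · exact ⟨_, n1, F.kt (ac _) (h.lcube _) b (iv _)⟩
    · exact ⟨_, n2, F.kt (ac _) (h.lcube _) b (iv _)⟩
    · refine ⟨_, n1, F.kt (ac _) (h.lcube _) b ?_⟩
      rw [show ∀ a b c : G, a * b * c * (a * b)⁻¹ = a * (b * c * b⁻¹) * a⁻¹ by intros; group, (h.er _).act,
        ng_pl' _ _ n3, iv]
  obtain ⟨v, k, e⟩ := F.memQ.1 mQ
  have v0 : v ≠ 0 := fun f => by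
    rw [f, F.qz] at e
    rw [pw k (e ▸ lQ _), pw_zero, ← h.l0] at e
    simpa [pl] using congrFun (congrArg Prod.fst (h.l_inj e)) m
  obtain ⟨w, hw⟩ : ∃ w, b6 w v = -1 := by
    by_contra! n
    refine v0 (h.nd v fun w => ?_)
    rcases f3_cases (b6 v w) with f | f | f
    · exact f
    · exact absurd (by rw [h.skew, f]) (n w)
    · exact absurd (by rw [h.neg_l, h.skew, f]; rfl) (n (-w))
  have s1 : IsConj (l (pl m 1 0)) (l (pl m 1 0) * (qq z l (Pi.single i (u i), 0) 0 * d)) := by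
    refine isConj_iff.2 ⟨qq (qq z l (Pi.single i (u i), 0) 0 * d) (fun v => x * l v * x⁻¹) w 0, ?_⟩
    rw [e, F.qcj, hw, sub_neg_eq_add]
    have := F.qmul v 0 k 1
    rw [F.q01, add_zero, h.zero_r, zero_add] at this
    exact this.symm
  rw [← mul_assoc, ← q0 z l (pl m 1 0), h.qmul, pl_a, b6_aa, Prod.mk_add_mk, add_zero (0 : X3)] at s1
  have s2 := s1.trans (cjd' h a (Pi.single m (c m) + Pi.single i (c m * u i)) _ _ (u' := Pi.single i (u i))
    (k' := 0) (by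
      funext j
      by_cases f : j = i
      · simp [f, c0, hm.symm]
      · by_cases f' : j = m
        · simp [f', hm, sq _ (c1 m hm)]
        · simp [f, f']) (by
      have := (by decide +kernel : ∀ (i m : Fin 3) (c : X3) (s : F3), m ≠ i → c i = 0 → c m ≠ 0 → s ≠ 0 →
        0 + 0 + 0 + ∑ j, ((Pi.single m (c m) + Pi.single i (c m * s) : X3) j *
          (Pi.single m 1 + Pi.single i s : X3) j + c j * ((Pi.single m (c m) + Pi.single i (c m * s) : X3) j *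
            (Pi.single m (c m) + Pi.single i (c m * s) : X3) j)) = 0) i m c (u i) hm c0 (c1 m hm) u0
      exact this))
  have := full_iff.1 (full' h (s.trans s2.symm) fun f => by
    simpa using congrFun (congrArg Prod.fst f) m) i
  simp [hm.symm] at this

end

variable {g : G} (h : Tw z l r g)
include h

theorem cz1 : IsConj z (l (1, 0)) := isConj_iff.2 ⟨g, h.gz⟩

theorem cfull {v : V6} (f : Full v) (k : F3) : IsConj z (qq z l v k) :=
  let ⟨x, _, e⟩ := h.full_conj f k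
  (cz1 h).trans (isConj_iff.2 ⟨x, e⟩).symm

theorem cinv {x : G} (c : IsConj z x) : IsConj z x⁻¹ := by
  have a := cfull h (v := -(1, 0)) (fun i => .inl (by simp)) 0
  rw [q0, h.linv, ← h.gz, conj_inv] at a
  obtain ⟨y, rfl⟩ := isConj_iff.1 c
  exact (a.trans (isConj_iff.2 ⟨g, rfl⟩).symm).trans (isConj_iff.2 ⟨y, conj_inv.symm⟩)

theorem exists_a : ∃ (ε : F3) (u : X3) (δ : G), ε ≠ 0 ∧ Ex z l (r 0 * r 1 * r 2) δ (Ym 1) ∧
    g * l (ε • ee, 0) * g⁻¹ = l (u, 0) * δ := by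
  obtain ⟨k, a⟩ := h.cst ee
  have k0 : k ≠ 0 := by
    rintro rfl
    obtain ⟨u, hu⟩ := h.out
    obtain ⟨s, hs⟩ := dec_u 1 one_ne_zero u
    obtain ⟨u', m, e⟩ := h.nW _ hs
    refine hu ?_
    rw [← sub_add_cancel u (s • (1 : F3) • ee), ← h.la_mul, ← conj_mul, e, ← h.la_pow, one_smul, ← conj_pow]
    exact mul_mem (qQ _ _) (pow_mem (h.memQ_of_ac (a.congr Ym_zero)) _)
  obtain ⟨k', a'⟩ := h.cst (k • ee)
  obtain ⟨u, δ, c, b, e⟩ := h.dec_A a'.1 (h.cm _)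
  refine ⟨k, u, δ, k0, ?_, e⟩
  have a2 := h.ac_pow a k.val
  rw [conj_pow, h.la_pow, e, ← q0 z l] at a2
  refine b.congr fun v => (h.ac_uniq (ac_j h.toE0 b _ _) a2 v).trans ?_
  rcases f3_cases k with rfl | rfl | rfl
  · exact absurd rfl k0
  · rfl
  · exact Ym_Ym _ _ v

theorem g_nrm : g ∈ normalizer (JJ z l : Set G) := by
  obtain ⟨ε, u, δ, ε0, a, e⟩ := exists_a h
  have cW : ∀ x ∈ JJ z l, ∀ w : X3, ∑ i, w i = 0 → g⁻¹ * x * g * l (w, 0) = l (w, 0) * (g⁻¹ * x * g) :=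
    fun x hx w hw => by
      obtain ⟨u', k, f⟩ := h.nW w hw
      calc _ = g⁻¹ * (x * (g * l (w, 0) * g⁻¹)) * g := by group
        _ = _ := by rw [f, qJ hx, ← f]; group
  have cZ : ∀ x ∈ JJ z l, g⁻¹ * x * g * z = z * (g⁻¹ * x * g) := fun x hx =>
    calc _ = g⁻¹ * (x * (g * z * g⁻¹)) * g := by group
      _ = _ := by rw [h.gz, (memJ.1 hx).2, ← h.gz]; group
  have key : ∀ d c, Ex z l (r 0 * r 1 * r 2) d (Ym c) → d * (l (u, 0) * δ) * d⁻¹ = l (u, 0) * δ := fun d c b => by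
    obtain ⟨φ, p⟩ := h.exists_ac (cZ d (exJ b))
    have f : ∀ w : X3, ∑ i, w i = 0 → φ (w, 0) = (w, 0) := fun w hw => by
      obtain ⟨k, e⟩ := p.2 (w, 0)
      rw [cm_cj.1 (cW d (exJ b) w hw), ← q0 z l] at e
      exact (h.q_inj e).1.symm
    obtain ⟨c', π, q⟩ := h.fix_std p (f 1 (by decide))
    obtain rfl : π = 1 := (by decide : ∀ π : Equiv.Perm (Fin 3), (![0, 1, 2] : X3) ∘ π = ![0, 1, 2] → π = 1) π (by
      simpa [Ym, pm] using congrArg Prod.fst ((h.ac_uniq q p _).trans (f ![0, 1, 2] (by decide))))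
    obtain ⟨k, e1⟩ := q.2 (ε • ee, 0)
    simp only [pm_one, Ym_a, qq] at e1
    have e2 : d * (l (u, 0) * δ) * d⁻¹ = l (u, 0) * δ * l (1, 0) ^ k.val := by
      rw [← e, ← h.gz, conj_pow, conj_mul, ← e1]; group
    obtain ⟨m, e3⟩ := h.ex_eq a ((b.mul a).mul (b.inv (φ' := Ym (-c)) fun v => by
      rw [Ym_Ym, add_neg_cancel, Ym_zero])) fun v => by rw [Ym_Ym, Ym_Ym, add_comm c, add_neg_cancel_right]
    have e4 : d * (l (u, 0) * δ) * d⁻¹ = l (u, 0) * δ * z ^ m.val := by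
      rw [← conj_mul, b.act, Ym_a, e3, mul_assoc]
    rw [e4, zy1 h.toE0 (mul_left_cancel (e4.symm.trans e2)), mul_one]
  refine inv_mem_iff.1 (nrm_of fun x hx => ?_)
  rw [inv_inv]
  refine memJ.2 ⟨cZ x hx, fun w => ?_⟩
  obtain ⟨s, hs⟩ := dec_u ε ε0 w
  rw [← sub_add_cancel w (s • ε • ee), ← h.la_mul, ← h.la_pow]
  refine ((show Commute _ _ from cW x hx _ hs).mul_right (Commute.pow_right ?_ _)).eq
  obtain ⟨v, d, c, b, rfl⟩ := decJ h.toE0 hx
  have c1 : Commute (l (v, 0) * d) (g * l (ε • ee, 0) * g⁻¹) :=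
    (show Commute _ _ from h.cm _ v).symm.mul_left (e ▸ cm_cj.2 (key d c b))
  calc _ = g⁻¹ * (l (v, 0) * d * (g * l (ε • ee, 0) * g⁻¹)) * g := by group
    _ = _ := by rw [c1.eq]; group

theorem kill {x : G} (a : x ∈ zpowers z) (b : g⁻¹ * x * g ∈ zpowers z) : x = 1 := by
  obtain ⟨k, rfl⟩ := (mem_zp h.z3).1 a
  obtain ⟨m, e⟩ := (mem_zp h.z3).1 b
  refine zy1 h.toE0 (m := m) ?_
  rw [← h.gz, conj_pow, ← e]; group

theorem J_comm {a b : G} (ha : a ∈ JJ z l) (hb : b ∈ JJ z l) : a * b = b * a := by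
  have k : ∀ a ∈ JJ z l, ∀ b ∈ JJ z l, (b * a)⁻¹ * (a * b) ∈ zpowers z := fun a ha b hb => by
    obtain ⟨u, d, c, p, rfl⟩ := decJ h.toE0 ha
    obtain ⟨v, d', c', p', rfl⟩ := decJ h.toE0 hb
    obtain ⟨m, e⟩ := h.ex_eq (p'.mul p) (p.mul p') fun v => by rw [Ym_Ym, Ym_Ym, add_comm]
    rw [(show Commute d' _ from (memJ.1 (exJ p')).2 u).mul_mul_mul_comm,
      (show Commute d _ from (memJ.1 (exJ p)).2 v).mul_mul_mul_comm, e, h.lcm (b6_aa u v),
      ← mul_assoc _ (d' * d), inv_mul_cancel_left]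
    exact pow_mem (mem_zpowers z) _
  have n := fun x => (mem_normalizer_iff.1 (inv_mem (g_nrm h)) x).1
  refine (inv_mul_eq_one.1 (kill h (k a ha b hb) ?_)).symm
  convert k _ (n a ha) _ (n b hb) using 1
  group

theorem J_three {a : G} (ha : a ∈ JJ z l) : a ^ 3 = 1 := by
  have k : ∀ a ∈ JJ z l, a ^ 3 ∈ zpowers z := fun a ha => by
    obtain ⟨u, d, c, p, rfl⟩ := decJ h.toE0 ha
    obtain ⟨m, e⟩ := h.ex_eq Ex.one (p.pow 3) fun v => by
      show v = Ym c (Ym c (Ym c v))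
      rw [Ym_Ym, Ym_Ym, show c + c + c = 0 from congrArg Prod.fst (h.tri (c, 0)), Ym_zero]
    rw [(show Commute d _ from (memJ.1 (exJ p)).2 u).symm.mul_pow, h.lcube, one_mul, e, one_mul]
    exact pow_mem (mem_zpowers z) _
  refine kill h (k a ha) ?_
  have := k _ ((mem_normalizer_iff.1 (inv_mem (g_nrm h)) a).1 ha)
  rwa [conj_pow, inv_inv] at this

theorem exists_y : ∃ y, Ex z l (r 0 * r 1 * r 2) y (Ym 1) ∧ (∀ k : F3, IsConj z (z ^ k.val * y) → k = 0) ∧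
    ∃ n ∈ normalizer (JJ z l : Set G), n * z * n⁻¹ = y ∨ n * z * n⁻¹ = y⁻¹ := by
  obtain ⟨ε, u, δ, ε0, a, e⟩ := exists_a h
  have c := cjd h.toE0 a u u 0
  rw [q0, one_mul, sub_self, show ((0, 0) : V6) = 0 from rfl, h.qz, ← e] at c
  generalize 0 + ∑ i, (u i * u i + (1 : X3) i * (u i * u i)) = k₀ at c
  refine ⟨_, ex_zm h.toE0 a k₀, fun k s => ?_, l (0, u) * g * r 2 * g, mul_mem (mul_mem (mul_mem
    (nJ h.toE0 (h.ac_Q (lQ _)) fun _ => rfl) (g_nrm h)) (nJ h.toE0 (h.er 2).ac fun u => by simp [ng]))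
    (g_nrm h), ?_⟩
  · rw [← c, ← cjz (h.lz (0, u)), conj_mul, ← cj_pw h.gy, conj_mul, h.la_pow, h.la_mul] at s
    have := full_iff.1 (full' h.toE0 (k := 0) (by
      rw [q0]; exact s.trans ((isConj_iff.2 ⟨g, rfl⟩).trans (isConj_iff.2 ⟨_, rfl⟩)).symm) fun f =>
        (by decide : ∀ ε k : F3, ε ≠ 0 → k • (1 : X3) + ε • ee ≠ 0) ε k ε0 (congrArg Prod.fst f))
    exact (by decide : ∀ ε k : F3, ε ≠ 0 → (∀ i, (k • (1 : X3) + ε • ee) i ≠ 0) → k = 0) ε k ε0 this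
  · have f : l (0, u) * g * r 2 * g * z * (l (0, u) * g * r 2 * g)⁻¹ =
        l (0, u) * (g * l (ee, 0) * g⁻¹) * (l (0, u))⁻¹ := by
      rw [show (ee, 0) = ng 2 (1, 0) by simp [ng, ee], ← (h.er 2).act, ← h.gz]; group
    rw [f, ← c, ← h.la_pow]
    rcases f3_cases ε with rfl | rfl | rfl
    · exact absurd rfl ε0
    · exact .inl (by rw [pw_one])
    · exact .inr (by rw [pw_two (h.lcube _)]; group)

end TwB

open TwB in
theorem Tw.twb {g : G} (h : Tw z l r g) : ∃ y J, St0 z l r y J := by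
  obtain ⟨y, a, ns, n, hn, e⟩ := exists_y h
  have y3 := J_three h (exJ a)
  have sy : IsConj z y := e.elim (fun e => isConj_iff.2 ⟨n, e⟩) fun e =>
    inv_inv y ▸ cinv h (isConj_iff.2 ⟨n, e⟩)
  have ap : ∀ m : F3, Ex z l (r 0 * r 1 * r 2) (y ^ m.val) (Ym fun _ => m) := fun m =>
    (ex_pw h.toE0 a m).congr fun v => by congr 1; funext i; simp
  have fq : ∀ k u m, fj z l y (k, u, m) = qq z l (u, 0) k * y ^ m.val := fun k u m => by rw [fj, qq, h.lzn]
  have red : ∀ k u m, m ≠ 0 → IsConj (fj z l y (k, u, m)) (z ^ (-(m * q5 (k, u, m))).val * y ^ m.val) :=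
    fun k u m m0 => by
      rw [fq, ← h.qz]
      refine cjd' h.toE0 (ap m) (m • u) u k ?_ ?_
      · exact (by decide +kernel : ∀ (m : F3) (u : X3), m ≠ 0 → u - (fun _ => m) * m • u = 0) m u m0
      · exact (by decide +kernel : ∀ (k m : F3) (u : X3), m ≠ 0 →
          k + ∑ i, ((m • u) i * u i + m * ((m • u) i * (m • u) i)) = -(m * q5 (k, u, m))) k m u m0
  refine ⟨y, JJ z l, h.toE0, y3, a, h.sum, h.sig, fun _ => memJ, fun _ p _ q => J_comm h p q,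
    fun _ p => J_three h p, fun x hx => ?_, ?_, n, hn, e⟩
  · have s : IsConj z (x * z * x⁻¹) := isConj_iff.2 ⟨x, rfl⟩
    generalize x * z * x⁻¹ = j at hx s
    obtain ⟨u, d, c, b, rfl⟩ := decJ h.toE0 hx
    obtain ⟨m, rfl⟩ := (c_cases c (h.sum d c b.ac)).resolve_right fun ⟨i, c0, c1⟩ => not_sing h.toE0 b c0 c1 u s
    obtain ⟨k, f⟩ := h.ex_eq (ap m) b fun _ => rfl
    have f' : l (u, 0) * d = fj z l y (k, u, m) := by rw [f, fq, cz (ap m).cz, qq, mul_assoc]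
    refine ⟨_, ?_, f'⟩
    rw [f'] at s
    by_cases m0 : m = 0
    · subst m0
      rw [fq, pw_zero, mul_one] at s
      by_cases u0 : u = 0
      · simp [q5, u0]
      · simpa [q5] using ((full_a u).2 (full_iff.1 (full' h.toE0 s fun f => u0 (congrArg Prod.fst f)))).2
    replace s := s.trans (red k u m m0)
    rcases f3_cases m with rfl | rfl | rfl
    · exact absurd rfl m0
    · rw [pw_one] at s
      simpa using ns _ s
    · have s' := cinv h s
      rw [pw_two y3, mul_inv_rev, inv_inv, ← pw_neg h.z3, cz a.cz] at s'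
      exact (by decide : ∀ q : F3, - -(2 * q) = 0 → q = 0) _ (ns _ s')
  · rintro ⟨k, u, m⟩ x0 q
    by_cases m0 : m = 0
    · subst m0
      rw [fq, pw_zero, mul_one]
      by_cases u0 : u = 0
      · subst u0
        rw [show ((0, 0) : V6) = 0 from rfl, h.qz]
        rcases f3_cases k with rfl | rfl | rfl
        · exact absurd rfl x0
        · rw [pw_one]
        · rw [pw_two h.z3]; exact cinv h (IsConj.refl z)
      · exact cfull h (full_iff.2 ((full_a u).1 ⟨u0, by simpa [q5] using q⟩)) k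
    refine IsConj.trans ?_ (red k u m m0).symm
    rw [q, mul_zero, neg_zero, pw_zero, one_mul]
    rcases f3_cases m with rfl | rfl | rfl
    · exact absurd rfl m0
    · rwa [pw_one]
    · rw [pw_two y3]; exact cinv h sy

end H7.E3
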