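import Cfsg.Agent.Lib.E3L.YAa
import Cfsg.Agent.Lib.U63.SG
import Cfsg.Agent.Lib.F3L.Cen

/-! Signalizers in `C(r 0, a j)`. -/

set_option autoImplicit false
set_option linter.unusedSectionVars false

namespace H7.E3

open Subgroup Cfsg H7.F3
open H87.U6 (F3 f3_cases pw_add pw_zero pw_one pw_two pw_neg pw_mul pw_inj mem_zp cj_pw cm_cj)

variable {G : Type*} [Group G] [Finite G] {z y : G} {l l' : V6 → G} {r r' : Fin 3 → G} {J S : Subgroup G}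

namespace YAx

open H87.U6 (V be cm_inv cm_mul cm_pow cm_conj qf bq Cf Pt Ms sgl bv)

attribute [local simp] n1 n2

variable {j : Fin 3}

theorem q5_p5 (hj : j ≠ 0) (x : V5) : q5 x = qf (p5 j x) + x.2.1 j * x.2.1 j := by
  rcases j12 hj with rfl | rfl <;> simp [q5, qf, p5, Fin.sum_univ_three] <;> ring

theorem b5_e5 (hj : j ≠ 0) (w : V5) (x : V) : b5 w (e5 j x) = bq (p5 j w) x := by
  rcases j12 hj with rfl | rfl <;> simp [b5, bq, p5, e5, Fin.sum_univ_three] <;> ring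

theorem p5_e5 (hj : j ≠ 0) (x : V) : p5 j (e5 j x) = x := by
  rcases j12 hj with rfl | rfl <;> simp [p5, e5]

theorem pt_sing : ∀ j : Fin 3, j ≠ 0 → ∀ k, e5 j (Pt k) ≠ 0 ∧ q5 (e5 j (Pt k)) = 0 ∧ (e5 j (Pt k)).2.1 0 = 0 ∧
    (e5 j (Pt k)).2.1 j = 0 := by decide +kernel

theorem q5_mv (x : V5) (j : Fin 3) : q5 (x + (0, Pi.single j (x.2.1 j), 0)) = q5 x := by
  rw [q5_add, add_assoc, add_eq_left]
  simp [q5, b5, Pi.single_apply]

theorem x3_dec' (hj : j ≠ 0) (u : X3) :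
    u = Pi.single 0 (u 0) + Pi.single (-j) (u (-j)) + Pi.single j (u j) := by
  rcases j12 hj with rfl | rfl <;> ext i <;> fin_cases i <;> simp

theorem q4 : ∀ a b c d : F3, a * d - b * c = 1 → ∃ k : F3,
    (fun p : F3 × F3 => (a * (p.1 + k * p.2) + b * p.2, c * (p.1 + k * p.2) + d * p.2))^[4] (1, 0) = (1, 0) := by
  decide +kernel

set_option synthInstance.maxSize 2000 in
theorem cst : ∀ j : Fin 3, j ≠ 0 → ∀ c c' : X3, ∑ i, c i = 0 → ∑ i, c' i = 0 → c 0 = 1 →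
    c (-j) = 0 → c' + -(c' 0 - c' (-j)) • c = fun _ => c' (-j) := by decide +kernel

theorem ap_pl (m : Mx) (k : F3) (i : Fin 3) (p : F3 × F3) : m.ap (Ym (fun _ => k) (pl i p.1 p.2)) =
    pl i (m.a i * (p.1 + k * p.2) + m.b i * p.2) (m.c i * (p.1 + k * p.2) + m.d i * p.2) := by
  ext x <;> by_cases e : x = i <;> simp [Mx.ap, Ym, pl, e]

/-- the data of a configuration are determined by the frame -/
theorem cf_eq {Y : Type*} [Group Y] [Finite Y] (h : Cf Y) {t y : Y} {J : Subgroup Y}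
    (st : H87.U6.St h.z h.l t y h.i1 h.i2 J) : h.t = t ∧ h.J = J ∧ h.y = y := by
  have A := h.a0
  obtain rfl : h.t = t := A.ex_eq4 A.ex_t ⟨st.tz, by
    rw [← h.sr, Cf.s, Cf.r]
    exact (cm_mul (cm_mul st.e1.ct st.e1.ct) (cm_mul st.e2.ct st.e2.ct)).symm, st.tl⟩ (fun _ => rfl)
    (Cf.p4 A.t2) (Cf.p4 st.t2)
  obtain rfl : h.J = J := Subgroup.ext fun g => (h.st.memJ g).trans (st.memJ g).symm
  refine ⟨rfl, rfl, ?_⟩
  obtain ⟨k, e⟩ := A.ex_eq h.ex_y st.ey fun _ => rfl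
  have e1 : h.f (k • H87.U6.e0 + H87.U6.e3) = y := by
    rw [h.f_add, h.f_smul, h.f_z, h.f_y, e]; exact (cz h.ex_y.cz _).symm
  obtain ⟨n, hn, e2⟩ := st.ys
  obtain ⟨x, q, e3⟩ := h.st.sing n (H87.U6.cjn hn h.zJ)
  have : k = 0 := by
    rcases e2 with e2 | e2
    · rw [← h.f_inj (e1.trans (e2.symm.trans e3))] at q
      simpa [qf] using q
    · rw [← h.f_inj ((h.f_neg _).trans ((congrArg _ e1).trans (e2.symm.trans e3)))] at q
      simpa [qf] using q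
  rw [e, this, pw_zero, mul_one]

theorem sx_le {Y : Type*} [Group Y] {h : Cf Y} {E : H87.U6.W → Y} {Sg : Subgroup Y} {σ : Y → H87.U6.OW}
    (S : h.Sx E Sg σ) {B : Subgroup Y} (hB : ∀ k, h.R k ≤ B) : Sg ≤ B := by
  have s : h.s ∈ B := hB 0 ((S.Rk 0 _).2 ⟨0, Or.inr (by
    rw [show sgl 0 0 = 0 by decide, S.E0, one_mul])⟩)
  have ad : ∀ u v, E u ∈ B → E v ∈ B → E (u + v) ∈ B := fun u v a b => by
    have := mul_mem a b
    rcases S.mul u v with e | e <;> rw [e] at this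
    exacts [this, (mul_mem_cancel_right s).1 this]
  have k : ∀ k a, E (sgl k a) ∈ B := fun k a => hB k ((S.Rk k _).2 ⟨a, Or.inl rfl⟩)
  intro x hx
  obtain ⟨v, e⟩ := (S.mem x).1 hx
  have : E v ∈ B := by
    rw [show v = sgl 0 (v 0) + sgl 1 (v 1) + sgl 2 (v 2) + sgl 3 (v 3) by
      funext i; fin_cases i <;> simp [sgl]]
    exact ad _ _ (ad _ _ (ad _ _ (k _ _) (k _ _)) (k _ _)) (k _ _)
  rcases e with rfl | rfl
  exacts [this, mul_mem this s]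

theorem sx_cm {Y : Type*} [Group Y] {h : Cf Y} {E : H87.U6.W → Y} {Sg : Subgroup Y} {σ : Y → H87.U6.OW}
    (S : h.Sx E Sg σ) {x x' : Y} (hx : x ∈ h.R 0) (hx' : x' ∈ h.R 1) : x * x' = x' * x := by
  obtain ⟨a, e⟩ := (S.Rk 0 _).1 hx
  obtain ⟨b, e'⟩ := (S.Rk 1 _).1 hx'
  have c : Commute (E (sgl 0 a)) (E (sgl 1 b)) := by
    have := S.cm (sgl 0 a) (sgl 1 b)
    rwa [show bv (sgl 0 a) (sgl 1 b) = 0 by simp [bv, sgl, H87.U6.bk], ZMod.val_zero, pow_zero, mul_one] at this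
  have s : ∀ v, Commute (E v) h.s := fun v => S.es.central _ ((S.mem _).2 ⟨v, Or.inl rfl⟩)
  rcases e with rfl | rfl <;> rcases e' with rfl | rfl
  exacts [c, c.mul_right (s _), c.mul_left (s _).symm,
    (c.mul_right (s _)).mul_left ((s _).symm.mul_right (Commute.refl _))]

namespace Cx

variable (h : Cx z l r y J j)
include h

theorem pj_a (u : X3) : pj (l (u, 0)) (h.cJ (h.aJ u)) = h.lb (u 0, 0, u (-j), 0) := by
  simpa [q0, pr] using h.pj_q (w := (u, 0)) (k := 0) (h.cq.2 rfl)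

theorem pj_f (x : V5) : pj (fj z l y x) (h.cJ (h.fJ x)) = H87.U6.fj h.zb h.lb h.yb (p5 j x) := by
  rw [H87.U6.fj, p5, ← h.pj_a, zb, yb, pj_pow, pj_pow]; rfl

theorem memJb (x : Kb (l (pl j 1 0))) : x ∈ im _ J ↔ x * h.zb = h.zb * x ∧
    x * h.lb (1, 0, 0, 0) = h.lb (1, 0, 0, 0) * x ∧ x * h.lb (0, 0, 1, 0) = h.lb (0, 0, 1, 0) * x := by
  obtain ⟨g, c, rfl⟩ := pj_sur x
  rw [pj_im h.a3 h.aJ']
  refine ⟨fun hg => ?_, fun ⟨e, e1, e2⟩ => ?_⟩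
  · simp only [zb, lb, pj_mul, em0, emk, pl_a]
    exact ⟨pj_congr (h.Jc _ hg _ h.zJ), pj_congr (h.Jc _ hg _ (h.aJ _)), pj_congr (h.Jc _ hg _ (h.aJ _))⟩
  have gz := h.lift_z e
  obtain ⟨π, m, d, a⟩ := h.mon g gz
  have k : ∀ {i u}, i ≠ j → em j u = pl i 1 0 → pj g c * h.lb u = h.lb u * pj g c → ∀ x : F3,
      Commute g (l (Pi.single i x, 0)) := fun {i u} n eu e x => by
    obtain ⟨k, f, f'⟩ := h.fx a e
    rw [eu] at f f'
    rw [(pi_pl n f).2, show pl j 0 0 = 0 by simp [pl], add_zero, q0, pl_a] at f'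
    rw [show Pi.single i x = x • Pi.single i (1 : F3) by rw [← Pi.single_smul, smul_eq_mul, mul_one], ← h.la_pow]
    exact (show Commute g _ from cm_cj.2 f').pow_right _
  refine (h.memJ g).2 ⟨gz, fun u => ?_⟩
  rw [x3_dec' h.j0 u, ← h.la_mul, ← h.la_mul, ← pl_a j, ← h.ap]
  exact ((k h.j0.symm (em0 1 0) e1 _).mul_right (k (jn h.j0).2.1 (emk 1 0) e2 _)).mul_right
    ((show Commute g _ from c).pow_right _)

theorem mx {T : Subgroup (Kb (l (pl j 1 0)))} (p : IsPGroup 3 T) (c : ∀ x ∈ T, x * h.zb = h.zb * x)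
    (hy : h.yb ∈ T) : T ≤ H87.U6.Qs h.zb h.lb ⊔ im _ J := fun x hx => by
  have j0 := h.j0
  obtain ⟨g, cg, rfl⟩ := pj_sur x
  have o : ∀ {g c}, pj g c ∈ T → ∃ n, g ^ 3 ^ n = 1 := fun {g c} hg => by
    obtain ⟨n, e⟩ := p ⟨_, hg⟩
    have e' : pj g c ^ 3 ^ n = 1 := congrArg Subtype.val e
    rw [pj_pow, pj_one] at e'
    obtain ⟨m, e'⟩ := (pj_eq h.a3).1 e'
    exact ⟨n + 1, by rw [pow_succ, pow_mul, e', one_mul, pw3 h.a3]⟩
  obtain ⟨π, m, d, a⟩ := h.mon g (h.lift_z (c _ hx))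
  have fa := h.fxa cg a
  obtain rfl : π = 1 := by
    obtain ⟨n, e⟩ := o hx
    have pj : π j = j := by
      by_contra n
      simpa [Mx.ap, pm, pl, n] using congrFun (congrArg Prod.fst fa) j
    exact (by decide : ∀ j : Fin 3, ∀ π : Equiv.Perm (Fin 3), π ^ 3 = 1 → π j = j → π = 1) j π
      (h.perm_three d a e) pj
  have k : ∀ i, m.ap (pl i 1 0) = pl i 1 0 := fun i => by
    obtain ⟨k, e⟩ := q4 _ _ _ _ (d i)
    have b := h.ac_mul a (h.ey_pow k).ac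
    have t := mul_mem hx (pow_mem hy k.val)
    rw [yb, pj_pow, pj_mul] at t
    obtain ⟨n, e'⟩ := o t
    have p1 : Function.IsPeriodicPt (fun v => m.ap (pm 1 (Ym (fun _ => k) v))) (3 ^ n) (pl i 1 0) :=
      (h.ac_uniq (h.ac_pow b (3 ^ n)) (e' ▸ h.ac_one) (pl i 1 0) :)
    have p2 : Function.IsPeriodicPt (fun v => m.ap (pm 1 (Ym (fun _ => k) v))) 4 (pl i 1 0) :=
      ((Function.Semiconj.iterate_right (f := fun p : F3 × F3 => pl i p.1 p.2)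
        (fun p => (ap_pl m k i p).symm) 4) (1, 0)).symm.trans (by rw [e])
    have := p1.gcd p2
    have g1 : (3 ^ n).gcd 4 = 1 := Nat.Coprime.pow_left n (by decide : Nat.Coprime 3 4)
    rw [g1] at this
    rw [pl_a] at this ⊢
    exact (congrArg m.ap (Ym_a _ _)).symm.trans this
  obtain ⟨n, hn, e⟩ := h.exists_ex (a.congr (std_of_fix d (π := 1) (fix_all j0 (k _) (k _) (k _))))
  have eJ := h.exJ (c := m.b) e
  have cn : n * l (pl j 1 0) = l (pl j 1 0) * n := by simpa using cm_mul (h.cJ eJ) (cm_inv cg)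
  exact (mul_mem_cancel_left (mem_sup_left (h.pj_Q hn cn))).1 (mem_sup_right (mem_im.2 ⟨_, eJ, h.cJ eJ, rfl⟩))

theorem J3b : ∀ x ∈ im (l (pl j 1 0)) J, x ^ 3 = 1 := fun x hx => by
  obtain ⟨g, hg, c, rfl⟩ := mem_im.1 hx
  rw [pj_pow]; exact pj_1 (h.J3 g hg)

theorem syl : ∃ P : Sylow 3 (Kb (l (pl j 1 0))), (P : Subgroup _) = H87.U6.Qs h.zb h.lb ⊔ im _ J := by
  have := Fact.mk Nat.prime_three
  have A := h.a0
  have cz : ∀ x ∈ H87.U6.Qs h.zb h.lb ⊔ im _ J, x * h.zb = h.zb * x := fun x hx => H87.U6.mC.1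
    ((sup_le (fun x hx => H87.U6.mC.2 (A.QH hx)) fun x hx => H87.U6.mC.2 ((h.memJb x).1 hx).1 :
      _ ≤ centralizer {h.zb}) hx)
  have p : IsPGroup 3 (H87.U6.Qs h.zb h.lb ⊔ im _ J : Subgroup _) :=
    IsPGroup.to_sup_of_normal_left' (fun x => ⟨1, Subtype.ext (A.Q3 x.2)⟩)
      (fun x => ⟨1, Subtype.ext (h.J3b _ x.2)⟩) fun x hx => H87.U6.nrm fun q hq => A.nQ' ((h.memJb x).1 hx).1 hq
  obtain ⟨P⟩ : Nonempty (Sylow 3 (Kb (l (pl j 1 0)))) := inferInstance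
  obtain ⟨k, -, e⟩ := syl_cen (K := ⊤) A.z3 A.z1 le_top (mem_sup_left H87.U6.A0.zQ) p cz
    (fun x hx c => A.cQ x (cz x hx) fun v => c _ (mem_sup_left (A.lQ v)))
    (fun T _ pT c le => h.mx pT c (le (mem_sup_right (mem_im.2 ⟨y, h.yJ, _, rfl⟩)))) le_top P.2
  refine ⟨k • P, ((k • P).is_maximal' p ?_).symm⟩
  rintro _ ⟨x, hx, rfl⟩
  exact e x hx

theorem st {i1 i2 : Kb (l (pl j 1 0))} (b : H87.U6.B0 h.zb h.lb h.tb h.yb i1 i2) :
    H87.U6.St h.zb h.lb h.tb h.yb i1 i2 (im _ J) where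
  toB0 := b
  memJ := h.memJb
  Jc x hx x' hx' := by
    obtain ⟨g, hg, c, rfl⟩ := mem_im.1 hx
    obtain ⟨g', hg', c', rfl⟩ := mem_im.1 hx'
    rw [pj_mul, pj_mul]; exact pj_congr (h.Jc _ hg _ hg')
  J3 := h.J3b
  syl := h.syl
  sing g e := by
    obtain ⟨g, c, rfl⟩ := pj_sur g
    rw [zb, pj_cj] at e ⊢
    obtain ⟨x, q, e'⟩ := h.sing g ((pj_im h.a3 h.aJ').1 e)
    have u0 : x.2.1 j = 0 := by
      by_contra n
      refine n (h.key c ?_)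
      rw [e', h.ap, pl_a, ← h.f_a, ← h.f_add]
      refine h.cnj _ (fun e => n ?_) ((q5_mv x j).trans q)
      exact (by decide : ∀ a : F3, a + a = 0 → a = 0) _ (by simpa using congrFun (congrArg (·.2.1) e) j)
    exact ⟨p5 j x, by simpa [q5_p5 h.j0, u0] using q, (pj_congr e').trans (h.pj_f x)⟩
  ys := by
    obtain ⟨n, hn, c, -, e⟩ := h.ysi j
    refine ⟨pj n c, H87.U6.nrm fun x hx => ?_, ?_⟩
    · obtain ⟨g, hg, c', rfl⟩ := mem_im.1 hx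
      exact mem_im.2 ⟨_, H87.U6.cjn hn hg, _, pj_cj _ _⟩
    · rw [zb, yb, pj_cj, pj_inv]
      exact e.imp pj_congr pj_congr

theorem ss : H87.U6.Six h.zb h.lb h.yb (im _ J) ∨ ∃ c, H87.U6.Sev h.zb h.lb h.tb h.yb (im _ J) c := by
  have j0 := h.j0
  have aJ : ∀ g ∈ J, ∃ c, Ac z l g (Ym c) := fun g hg => by
    obtain ⟨u, δ, c, a, rfl⟩ := h.decJ hg
    exact ⟨c, (h.ac_mul (h.ac_Q (lQ _)) a.ac).congr fun _ => rfl⟩
  by_cases e : ∃ δ c, Ex z l (r 0 * r 1 * r 2) δ (Ym c) ∧ c 0 = 1 ∧ c (-j) = 0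
  · obtain ⟨δ, c, a, c0, ck⟩ := e
    refine Or.inr ⟨_, by simpa only [c0, ck] using h.exY a, fun x hx => ?_⟩
    obtain ⟨g, hg, cg, rfl⟩ := mem_im.1 hx
    obtain ⟨c', b⟩ := aJ g hg
    have δ3 := h.J3 _ (h.exJ a)
    have ap : ∀ n : F3, Ac z l (δ ^ n.val) (Ym (n • c)) := fun n => by
      rcases f3_cases n with rfl | rfl | rfl
      · rw [pw_zero, zero_smul]; exact h.ac_one.congr fun v => (Ym_zero v).symm
      · rw [pw_one, one_smul]; exact a.ac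
      · exact (h.ac_pow a.ac 2).congr fun v => (Ym_Ym ..).trans (by rw [two_smul])
    obtain ⟨k, u, e⟩ := h.f_of (mul_mem hg (pow_mem (h.exJ a) _)) (m := c' (-j))
      ((h.ac_mul b (ap (-(c' 0 - c' (-j))))).congr fun v => by
        rw [Ym_Ym, cst j j0 c c' (h.sum _ _ a.ac) (h.sum _ _ b) c0 ck])
    refine ⟨_, c' 0 - c' (-j), Eq.trans ?_ (congrArg (· * _) (h.pj_f (k, u, c' (-j))))⟩
    rw [pj_pow, pj_mul]
    exact pj_congr (by rw [← e, pw_neg δ3]; simp)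
  · refine Or.inl fun x hx => ?_
    obtain ⟨g, hg, cg, rfl⟩ := mem_im.1 hx
    obtain ⟨u, δ, c, a, rfl⟩ := h.decJ hg
    have a' := (a.mul (h.ey_pow (-c (-j)))).congr (Ym_Ym _ _)
    have : c = fun _ => c 0 := by
      by_contra n
      rcases (by decide +kernel : ∀ j : Fin 3, j ≠ 0 → ∀ c : X3, ∑ i, c i = 0 → c ≠ (fun _ => c 0) →
        c 0 + -c (-j) = 1 ∨ c 0 + -c (-j) + (c 0 + -c (-j)) = 1) j j0 c (h.sum _ _ a.ac) n with k | k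
      · exact e ⟨_, _, a', k, by simp⟩
      · exact e ⟨_, _, (a'.mul a').congr (Ym_Ym _ _), k, by simp⟩
    obtain ⟨k, u', e'⟩ := h.f_of hg (m := c 0) (this ▸ (h.ac_mul (h.ac_Q (lQ _)) a.ac).congr fun _ => rfl)
    exact ⟨_, (pj_congr e').trans (h.pj_f _)⟩

theorem exS : ∃ (c : Cf (Kb (l (pl j 1 0)))) (E : _) (Sg : _) (σ : _), c.Sx E Sg σ ∧ c.l = h.lb ∧
    c.s = pj (r 0) (h.rc' h.j0.symm) ∧ (∀ x, c.f (p5 j x) = pj (fj z l y x) (h.cJ (h.fJ x))) ∧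
    ∃ δ c', ∃ a : Ex z l (r 0 * r 1 * r 2) δ (Ym c'), c' (-j) = 0 ∧ c.c = pj δ (h.cJ (h.exJ a)) := by
  obtain ⟨i1, i2, b, e⟩ := h.exI
  obtain ⟨h0, a1, a2, a3, a4⟩ := Cf.exists_cf (h.st b) h.ss
  obtain ⟨h1, nc, b1, b2, b3, b4, -⟩ := h0.exists_nc
  obtain ⟨E, Sg, σ, S⟩ := h1.exists_sx nc
  replace b1 := b1.trans a1
  replace b2 := b2.trans a2
  obtain ⟨e1, e2, e3⟩ := cf_eq h1 (by rw [b1, b2, b3, b4, a3, a4]; exact h.st b)
  refine ⟨h1, E, Sg, σ, S, b2, by rw [Cf.s, b3, a3, e], fun x => by rw [Cf.f, b1, b2, e3, h.pj_f], ?_⟩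
  have ec := h1.ec
  rw [b1, b2, e1] at ec
  obtain ⟨g, hg, cg, e4⟩ := mem_im.1 (e2 ▸ h1.cJ)
  obtain ⟨u, δ, c, a, rfl⟩ := h.decJ hg
  have A := h.a0
  have a' := h.exY a
  rw [← pj_mul (h.cJ (h.aJ u)) (h.cJ (h.exJ a)), h.pj_a] at e4
  have e5 : h.lb (u 0, 0, u (-j), 0) * h.tb = h.tb * h.lb (u 0, 0, u (-j), 0) := by
    rw [← mul_inv_eq_iff_eq_mul.2 e4]; exact cm_mul ec.ct (cm_inv a'.ct)
  rw [(by decide : ∀ v : V, -v = v → v = 0) _ (A.l_inj ((A.tl _).symm.trans (cm_cj.1 e5.symm))), A.l0,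
    one_mul] at e4
  refine ⟨δ, c, a, ?_, e4⟩
  rw [e4] at ec
  simpa [H87.U6.Ym] using congrArg (·.2.2.1) (A.ac_uniq (A.ex_ac a') (A.ex_ac ec) (0, 0, 0, 1))

theorem sgn {X : Subgroup G} (cX : (Nat.card X).Coprime 3)
    (H : ∀ x ∈ X, x * r 0 = r 0 * x ∧ x * l (pl j 1 0) = l (pl j 1 0) * x ∧
      (∀ a b, l (pl (-j) a b) * x * (l (pl (-j) a b))⁻¹ ∈ X) ∧
      ∀ δ c, Ex z l (r 0 * r 1 * r 2) δ (Ym c) → c (-j) = 0 → δ * x * δ⁻¹ ∈ X) : X ≤ Sg z l r y := by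
  obtain ⟨c, E, S', σ, S, e1, e2, e3, δ, c', a, ck, e4⟩ := h.exS
  have k1 : im _ X ≤ S' := by
    refine S.sig _ (fun x hx => ?_) (cX.coprime_dvd_left ((card_map_dvd _ _).trans
      (card_comap_dvd_of_injective _ _ Subtype.val_injective))) fun x hx => ?_ <;>
      obtain ⟨g, hg, cg, rfl⟩ := mem_im.1 hx
    · rw [c.mK, e2, pj_mul, pj_mul]; exact pj_congr (H g hg).1
    · rw [e1, e4]
      exact ⟨fun p q => mem_im.2 ⟨_, emk (j := j) p q ▸ (H g hg).2.2.1 p q, _, pj_cj _ _⟩,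
        mem_im.2 ⟨_, (H g hg).2.2.2 δ c' a ck, _, pj_cj _ _⟩⟩
  have k2 : S' ≤ im _ (Sg z l r y) := sx_le S fun k => (closure_le _).2 fun x ⟨x1, x4, x2⟩ => by
    obtain ⟨g, cg, rfl, g4⟩ := lift4 h.a3 x4
    obtain ⟨p1, p2, p3, -⟩ := pt_sing j h.j0 k
    refine mem_im.2 ⟨g, subset_closure ⟨_, p1, p2, p3, cm4 h.a3 (e2 ▸ c.mK.1 x1) g4, g4, fun w w0 w1 => ?_⟩, cg, rfl⟩
    exact cm4 h.a3 (e3 w ▸ x2 (p5 j w) w0 (b5_e5 h.j0 w _ ▸ w1)) g4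
  intro x hx
  obtain ⟨g, hg, cg, e⟩ := mem_im.1 (k2 (k1 (mem_im.2 ⟨x, hx, (H x hx).2.1, rfl⟩)))
  obtain ⟨m, rfl⟩ := (pj_eq h.a3).1 e
  obtain ⟨n, hn⟩ := exists_pow_eq_self_of_coprime (n := 3)
    (cX.coprime_dvd_left (X.orderOf_dvd_natCard hx)).symm
  rw [← hn, ((show Commute g _ from cg).pow_right _).mul_pow, pw3 h.a3, mul_one]
  exact pow_mem (pow_mem hg _) _

theorem cm {x x' : G} (hx : x ∈ Rs z l r y (1, 0, 0)) (hx' : x' ∈ Rs z l r y (0, 0, 1)) : x * x' = x' * x := by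
  obtain ⟨c, E, S', σ, S, -, e2, e3, -⟩ := h.exS
  have k : ∀ k x, x ∈ Rs z l r y (e5 j (Pt k)) → ∃ cx, pj x cx ∈ c.R k := fun k x ⟨x1, x4, x2⟩ => by
    have cx := x2 (0, Pi.single j 1, 0) (by simp [h.j0.symm]) (by
      simp [b5, Pi.single_apply, (pt_sing j h.j0 k).2.2.2])
    rw [h.f_a, ← pl_a] at cx
    refine ⟨cx, subset_closure ⟨?_, by rw [pj_pow]; exact pj_1 x4, fun w w0 w1 => ?_⟩⟩
    · rw [c.mK, e2, pj_mul, pj_mul]; exact pj_congr x1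
    · rw [← p5_e5 h.j0 w, e3, pj_mul, pj_mul]
      exact pj_congr (x2 _ (by simp [e5, w0, (jn h.j0).1.symm]) (by rwa [b5_e5 h.j0, p5_e5 h.j0]))
  obtain ⟨cx, a⟩ := k 0 x (by simpa [e5, Pt] using hx)
  obtain ⟨cx', b⟩ := k 1 x' (by simpa [e5, Pt] using hx')
  exact cm4 h.a3 (sx_cm S a b) hx.2.1

end Cx

end YAx

theorem St.ya (h : St z l r y J) :
    (∀ x ∈ Rs z l r y (1, 0, 0), ∀ x' ∈ Rs z l r y (0, 0, 1), x * x' = x' * x) ∧ Sig z l r (Sg z l r y) := by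
  refine ⟨fun x hx x' hx' => YAx.Cx.cm (j := 1) ⟨h, by decide⟩ hx hx', fun j k j0 k0 jk X cX H => ?_⟩
  obtain rfl := (by decide : ∀ j k : Fin 3, j ≠ 0 → k ≠ 0 → j ≠ k → k = -j) j k j0 k0 jk
  exact YAx.Cx.sgn ⟨h, j0⟩ cX H

end H7.E3
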