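import Cfsg.Agent.Lib.E3L.Tw
import Cfsg.Agent.Lib.U63.Gen

/-! The centralizer of `z` in `C(r 0)` normalizes the group `2 ^ (1 + 20)`. -/

set_option autoImplicit false
set_option linter.unusedSectionVars false

namespace H7.E3

open Subgroup Cfsg H7.F3
open H87.U6 (F3 f3_cases pw_add pw_zero pw_one pw_two pw_neg pw_mul pw_inj mem_zp cj_pw cm_cj)

variable {G : Type*} [Group G] [Finite G] {z y : G} {l l' : V6 → G} {r r' : Fin 3 → G} {J S : Subgroup G}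

namespace ZMx

open H87.U6 (cjn cjn' cm_inv cm_mul cm_conj nrm gen9)

/-- the part of `m` on the plane `i` -/
def pt (m : Mx) (i : Fin 3) : Mx :=
  ⟨fun j => if j = i then m.a j else 1, fun j => if j = i then m.b j else 0,
    fun j => if j = i then m.c j else 0, fun j => if j = i then m.d j else 1⟩

theorem eqns_pt : True := by
  have := @pt.eq_1
  trivial

theorem pt_det {m : Mx} (d : m.det1) (i : Fin 3) : (pt m i).det1 := fun j => by
  by_cases e : j = i <;> simp [pt, e]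
  exact d i

theorem pt_q8 {m : Mx} (d : m.q8) (i : Fin 3) : (pt m i).q8 := fun j => by
  by_cases e : j = i <;> simp [pt, e]
  exact d i

theorem pt_only (m : Mx) (i : Fin 3) : Only i (pt m i) := fun j e => by simp [pt, e]

theorem pt_mul (m : Mx) (v : V6) : (pt m 0).ap ((pt m 1).ap ((pt m 2).ap v)) = m.ap v := by
  ext i <;> fin_cases i <;> simp [pt, Mx.ap]

theorem only_cm {m n : Mx} {i k : Fin 3} (e : i ≠ k) (o : Only i m) (o' : Only k n) (v : V6) :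
    m.ap (n.ap v) = n.ap (m.ap v) := by
  ext j <;> by_cases f : j = i
  all_goals first
    | (subst f; obtain ⟨a, b, c, d⟩ := o' j e; simp [Mx.ap, a, b, c, d])
    | (obtain ⟨a, b, c, d⟩ := o j f; simp [Mx.ap, a, b, c, d])

theorem only_Ym {c : X3} {k : Fin 3} (e : c k = 0) {n : Mx} (o : Only k n) (v : V6) :
    Ym c (n.ap v) = n.ap (Ym c v) := by
  ext j <;> by_cases f : j = k
  all_goals first
    | (subst f; simp [Mx.ap, Ym, e]; done)
    | (obtain ⟨a, b, c, d⟩ := o j f; simp [Mx.ap, Ym, a, b, c, d])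

theorem lN (h : St z l r y J) (d : SD z l r y J S) {v : V6} (e : v.1 0 = 0 ∧ v.2 0 = 0) :
    l v ∈ normalizer (S : Set G) := by
  refine d.nM _ (h.QN (lQ v)) (cm_cj.2 ?_).symm
  rw [(h.er 0).act]
  congr 1
  ext j <;> by_cases f : j = 0 <;> simp [ng, sg, f, e]

theorem rootN (h : St z l r y J) (d : SD z l r y J S) (s : Sig z l r S) {j k : Fin 3} (j0 : j ≠ 0) (k0 : k ≠ 0)
    (jk : j ≠ k) {ρ : G} {n : Mx} (dn : n.det1) (o : Only k n) (ρ4 : ρ ^ 4 = 1)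
    (a : Ex z l (r 0 * r 1 * r 2) ρ n.ap) : ρ ∈ normalizer (S : Set G) := by
  let X : Subgroup G := S.map (MulAut.conj ρ).toMonoidHom
  have cX : (Nat.card X).Coprime 3 := by
    rw [card_map_of_injective (MulAut.conj ρ).injective, d.card]; norm_num
  have nX : ∀ {g g' : G}, g' ∈ normalizer (S : Set G) → ρ * g' * ρ⁻¹ = g → ∀ x ∈ X, g * x * g⁻¹ ∈ X := by
    rintro _ g' hg rfl _ ⟨x, hx, rfl⟩
    exact ⟨_, cjn hg hx, by simp [mul_assoc]⟩
  have lX : ∀ {v : V6}, v.1 0 = 0 ∧ v.2 0 = 0 → ∀ x ∈ X, l v * x * (l v)⁻¹ ∈ X := fun {v} e =>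
    nX (lN h d (v := n.adj.ap v) (by
      obtain ⟨a, b, c, d⟩ := o 0 k0.symm
      simp [Mx.ap, Mx.adj, e])) (by rw [a.act, dn.ap_adj])
  have pl0 : ∀ {i : Fin 3}, i ≠ 0 → ∀ a b : F3, (pl i a b).1 0 = 0 ∧ (pl i a b).2 0 = 0 := fun e a b => by
    simp [pl, e.symm]
  have zN : z ∈ normalizer (S : Set G) := d.nM _ (h.JN h.zJ) (h.rz 0).symm
  have h2 : ∀ x ∈ X, x * l (pl j 1 0) = l (pl j 1 0) * x → x ∈ S := fun x hx c => by
    refine s j k j0 k0 jk (X ⊓ centralizer {l (pl j 1 0)})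
      (cX.coprime_dvd_left (card_dvd_of_le inf_le_left)) ?_ ⟨hx, H87.U6.mC.2 c⟩
    rintro x ⟨hx, c⟩
    have c := H87.U6.mC.1 c
    have key : ∀ {g : G}, g * l (pl j 1 0) = l (pl j 1 0) * g →
        g * x * g⁻¹ ∈ centralizer {l (pl j 1 0)} := fun e => H87.U6.mC.2 (cm_mul (cm_mul e c) (cm_inv e))
    refine ⟨?_, c, fun a b => ⟨lX (pl0 k0 a b) x hx, key (h.lcm ?_)⟩, fun δ c' e ck => ⟨?_, key ?_⟩⟩
    · obtain ⟨x, hx, rfl⟩ := hx
      exact cm_mul (cm_mul (h.ex_rc dn a 0) (d.es.central x hx)) (cm_inv (h.ex_rc dn a 0))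
    · simp [b6, pl, Pi.single_apply, jk]
    · exact nX (d.nM _ (h.JN (h.exJ e)) (h.ex_Ym e 0))
        (cm_cj.1 (h.ex_cm e a ρ4 (only_Ym ck o)).symm) x hx
    · rw [pl_a]
      exact h.Jc _ (h.exJ e) _ (h.aJ _)
  have h3 : ∀ e : F3, ∀ x ∈ X, x * qq z l (pl j 1 0) e = qq z l (pl j 1 0) e * x → x ∈ S := fun e x hx c => by
    have e1 : l (pl j 0 e) * l (pl j 1 0) * (l (pl j 0 e))⁻¹ = qq z l (pl j 1 0) e := by
      rw [h.lcj]
      congr 1
      simp [b6, pl, Pi.single_apply]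
    have e2 := lX (v := -pl j 0 e) (by simpa using pl0 j0 0 e) x hx
    rw [h.linv] at e2
    have e3 := cm_conj c (l (pl j 0 e))⁻¹
    rw [← e1, show ∀ a b : G, a⁻¹ * (a * b * a⁻¹) * a⁻¹⁻¹ = b by intros; group] at e3
    simpa [mul_assoc] using cjn (lN h d (pl0 j0 0 e)) (h2 _ e2 e3)
  refine nrm fun x hx => gen9 (K := X) cX h.z3 (h.lcube (pl j 1 0)) (h.lz _).symm h.z1
    (fun e => ?_) (nX zN (cm_cj.1 a.cz)) (lX (pl0 j0 1 0)) ?_ h2 (fun x hx c => h3 1 x hx ?_)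
    (fun x hx c => h3 2 x hx ?_) ⟨x, hx, rfl⟩
  · simpa [pl] using congrFun (congrArg Prod.fst (h.linj _ e)) j
  · rintro _ ⟨x, hx, rfl⟩ c
    have c1 : x * z = z * x := by
      have := cm_conj c ρ⁻¹
      rw [show ρ⁻¹ * z * ρ⁻¹⁻¹ = z from cm_cj.1 (cm_inv a.cz)] at this
      simpa [mul_assoc] using this
    obtain ⟨-, m, -, -, om, b⟩ := h.memR0.1 (d.cz x hx c1)
    have := h.ex_cm b a ρ4 (only_cm k0.symm om o)
    change ρ * x * ρ⁻¹ ∈ S
    rwa [cm_cj.1 this.symm]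
  · rwa [qq, pw_one, h.lz]
  · rw [qq, pw_two h.z3, show l (pl j 1 0) * z⁻¹ = (z * (l (pl j 1 0))⁻¹)⁻¹ by group]
    exact (cm_inv c.symm).symm

end ZMx

theorem St.zM (h : St z l r y J) (d : SD z l r y J S) (s : Sig z l r S) {g : G} (c : g * r 0 = r 0 * g)
    (gz : g * z = z * g) : g ∈ normalizer (S : Set G) := by
  obtain ⟨π, m, dm, a⟩ := h.mon g gz
  obtain ⟨n, dn, qn, e⟩ := (Full.mono (v := (1, 0)) (fun i => Or.inl one_ne_zero) dm π).to
  choose ρ ρ4 b using fun i => h.all _ (ZMx.pt_det dn i) (ZMx.pt_q8 qn i)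
  have b' : Ex z l (r 0 * r 1 * r 2) (ρ 0 * (ρ 1 * ρ 2)) n.ap := ((b 0).mul ((b 1).mul (b 2))).congr (ZMx.pt_mul n)
  obtain ⟨c', π', f⟩ := h.fix_std (h.ac_mul b'.ac a) e
  have h1 := d.nM _ (h.stdN f) (H87.U6.cm_mul (h.ex_rc dn b' 0) c)
  have h2 : ρ 0 * (ρ 1 * ρ 2) ∈ normalizer (S : Set G) := mul_mem
    (le_normalizer (d.R0 (h.memR0.2 ⟨ρ4 0, _, ZMx.pt_det dn 0, ZMx.pt_q8 qn 0, ZMx.pt_only n 0, b 0⟩)))
    (mul_mem (ZMx.rootN h d s (j := 2) (by decide) (by decide) (by decide) (ZMx.pt_det dn 1) (ZMx.pt_only n 1)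
      (ρ4 1) (b 1)) (ZMx.rootN h d s (j := 1) (by decide) (by decide) (by decide) (ZMx.pt_det dn 2)
      (ZMx.pt_only n 2) (ρ4 2) (b 2)))
  exact (mul_mem_cancel_left h2).1 h1

end H7.E3
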