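import Cfsg.Agent.Lib.E3L.Bas
import Cfsg.Agent.Lib.F3L.IniA

/-! Coordinates on `J₀`. -/

set_option autoImplicit false
set_option linter.unusedSectionVars false

namespace H7.E3

open Subgroup H87.Mc Cfsg H7.F3
open H87.U6 (F3 f3_cases pw_add pw_zero pw_one pw_two pw_neg pw_mul pw_inj mem_zp cj_pw cm_cj)

variable {G : Type*} [Group G] [Finite G]

/-- the reflection in `aᵢ` -/
def rf (i : Fin 3) (x : V5) : V5 := (x.1, sg i * x.2.1, x.2.2)
/-- Siegel transformations -/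
def tv (w : X3) (x : V5) : V5 := (x.1 + ∑ i, w i * x.2.1 i + x.2.2 * ∑ i, w i * w i, x.2.1 - x.2.2 • w, x.2.2)

theorem eqns_fj : True := by
  have := @rf.eq_1
  have := @tv.eq_1
  trivial

theorem q5_add (x y : V5) : q5 (x + y) = q5 x + q5 y + b5 x y := by
  simp only [q5, b5, Fin.sum_univ_three, Prod.fst_add, Prod.snd_add, Pi.add_apply]
  linear_combination (x.2.1 0 * y.2.1 0 + x.2.1 1 * y.2.1 1 + x.2.1 2 * y.2.1 2) * three

theorem b5_iso {φ : V5 → V5} (a : ∀ x x', φ (x + x') = φ x + φ x') (q : ∀ x, q5 (φ x) = q5 x) (x y : V5) :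
    b5 (φ x) (φ y) = b5 x y := by
  have := q (x + y)
  rw [a, q5_add, q5_add, q, q] at this
  exact add_left_cancel this

theorem b6_aa (u v : X3) : b6 (u, 0) (v, 0) = 0 := by simp [b6]
theorem Ym_a (c u : X3) : Ym c (u, 0) = (u, 0) := by simp [Ym]
theorem pl_a (i : Fin 3) (a : F3) : pl i a 0 = (Pi.single i a, 0) := by simp [pl]
theorem rf_fix : ∀ i x, rf i x = x ↔ x.2.1 i = 0 := by decide +kernel

theorem nrm_of {J : Subgroup G} {g : G} (h : ∀ x ∈ J, g * x * g⁻¹ ∈ J) : g ∈ normalizer (J : Set G) :=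
  mem_normalizer_fintype h

namespace E0

variable {z : G} {l : V6 → G} {r : Fin 3 → G} (h : E0 z l r)
include h

theorem la_mul (u v : X3) : l (u, 0) * l (v, 0) = l (u + v, 0) := by
  rw [h.lmul, b6_aa, pw_zero, mul_one]; simp

theorem la_pow (u : X3) (m : F3) : l (u, 0) ^ m.val = l (m • u, 0) := by
  rcases f3_cases m with rfl | rfl | rfl
  · rw [pw_zero, zero_smul]; exact h.l0.symm
  · rw [pw_one, one_smul]
  · rw [pw_two (h.lcube _), ← h.linv]
    congr 1; ext i <;> simp [show (2 : F3) = -1 from rfl]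

/-- the class of an element of `C(t)` under `Q` -/
theorem cj_Ym {δ : G} {c : X3} (a : Ex z l (r 0 * r 1 * r 2) δ (Ym c)) (w : X3) :
    l (0, w) * δ * (l (0, w))⁻¹ = qq z l (-(c * w), 0) (∑ i, c i * (w i * w i)) * δ := by
  rw [show l (0, w) * δ * (l (0, w))⁻¹ = l (0, w) * (δ * l (0, w) * δ⁻¹)⁻¹ * δ by group, a.act, ← h.linv, h.lmul, qq]
  congr 4
  · simp [Ym]
  · simp only [b6, Ym, Prod.fst_neg, Prod.snd_neg, Pi.neg_apply, Pi.add_apply, Pi.mul_apply, Pi.zero_apply]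
    exact Finset.sum_congr rfl fun i _ => by ring

/-- an element centralizing `A` -/
theorem dec_A {g : G} (gz : g * z = z * g) (c : ∀ u, g * l (u, 0) = l (u, 0) * g) :
    ∃ u δ c, Ex z l (r 0 * r 1 * r 2) δ (Ym c) ∧ g = l (u, 0) * δ := by
  obtain ⟨φ, a⟩ := h.exists_ac gz
  have f : ∀ u, φ (u, 0) = (u, 0) := fun u => by
    obtain ⟨k, e⟩ := a.2 (u, 0)
    rw [cm_cj.1 (c u), ← q0 z l] at e
    exact (h.q_inj e).1.symm
  obtain ⟨d, π, b⟩ := h.fix_std a (f 1)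
  obtain rfl : π = 1 := by
    ext i
    have := congrFun (congrArg Prod.fst ((h.ac_uniq b a _).trans (f (Pi.single i 1)))) i
    by_contra n
    have n' : π i ≠ i := fun e => n (by rw [e]; rfl)
    simp [Ym, pm, n'] at this
  obtain ⟨n, hn, e⟩ := h.exists_ex b
  obtain ⟨w, k, rfl⟩ := h.memQ.1 hn
  have w2 : w.2 = 0 := by
    funext j
    have e1 := e.act (Pi.single j 1, 0)
    rw [pm_one, Ym_a, show ∀ a b c : G, a * b * c * (a * b)⁻¹ = a * (b * c * b⁻¹) * a⁻¹ by intros; group,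
      cm_cj.1 (c _), ← cm_cj, ← q0 z l (_, 0), h.qcm] at e1
    simpa [b6, Pi.single_apply] using e1
  refine ⟨-w.1, (z ^ k.val)⁻¹ * (qq z l w k * g), d, ((h.ex_z k.val).inv (φ' := id) fun _ => rfl).mul e, ?_⟩
  rw [qq, h.lzn, mul_assoc (z ^ k.val), inv_mul_cancel_left, ← mul_assoc, ← Prod.mk.eta (p := w), w2, h.la_mul,
    neg_add_cancel]
  exact ((congrArg (· * g) h.l0).trans (one_mul g)).symm

end E0

namespace St0

variable {z y : G} {l : V6 → G} {r : Fin 3 → G} {J : Subgroup G} (h : St0 z l r y J)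
include h

theorem zJ : z ∈ J := (h.memJ z).2 ⟨rfl, fun _ => (h.lz _).symm⟩
theorem aJ (u : X3) : l (u, 0) ∈ J := (h.memJ _).2 ⟨h.lz _, fun v => h.lcm (b6_aa u v)⟩
theorem exJ {δ : G} {c : X3} (a : Ex z l (r 0 * r 1 * r 2) δ (Ym c)) : δ ∈ J :=
  (h.memJ _).2 ⟨a.cz, fun u => cm_cj.2 (by rw [a.act, Ym_a])⟩
theorem yJ : y ∈ J := h.exJ h.ey
theorem fJ (x : V5) : fj z l y x ∈ J := mul_mem (mul_mem (pow_mem h.zJ _) (h.aJ _)) (pow_mem h.yJ _)
theorem decJ {g : G} (hg : g ∈ J) : ∃ u δ c, Ex z l (r 0 * r 1 * r 2) δ (Ym c) ∧ g = l (u, 0) * δ :=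
  h.dec_A ((h.memJ g).1 hg).1 ((h.memJ g).1 hg).2
theorem JN : J ≤ normalizer (J : Set G) := le_normalizer

theorem f_z : fj z l y (1, 0, 0) = z := by
  rw [fj, pw_one, pw_zero, mul_one]; exact (congrArg (z * ·) h.l0).trans (mul_one z)
theorem f_y : fj z l y (0, 0, 1) = y := by
  rw [fj, pw_one, pw_zero, one_mul]; exact (congrArg (· * y) h.l0).trans (one_mul y)
theorem f_a (u : X3) : fj z l y (0, u, 0) = l (u, 0) := by rw [fj, pw_zero, pw_zero, mul_one, one_mul]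
theorem f_q (k : F3) (u : X3) : fj z l y (k, u, 0) = qq z l (u, 0) k := by rw [fj, pw_zero, mul_one, qq, h.lzn]
theorem f_zero : fj z l y 0 = 1 := (h.f_a 0).trans h.l0

theorem f_add (x x' : V5) : fj z l y (x + x') = fj z l y x * fj z l y x' := by
  have c1 : Commute (y ^ x.2.2.val) (z ^ x'.1.val * l (x'.2.1, 0)) :=
    h.Jc _ (pow_mem h.yJ _) _ (mul_mem (pow_mem h.zJ _) (h.aJ _))
  have c2 : Commute (l (x.2.1, 0)) (z ^ x'.1.val) := h.lzn _ _
  simp only [fj, Prod.fst_add, Prod.snd_add, pw_add h.z3, pw_add h.y3, ← h.la_mul, mul_assoc]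
  rw [← mul_assoc (z ^ x'.1.val) (l (x'.2.1, 0)), c1.left_comm, mul_assoc, c2.left_comm]

theorem f_neg (x : V5) : fj z l y (-x) = (fj z l y x)⁻¹ :=
  eq_inv_of_mul_eq_one_left (by rw [← h.f_add, neg_add_cancel, h.f_zero])

theorem f3 (x : V5) : fj z l y x ^ 3 = 1 := h.J3 _ (h.fJ x)

theorem ey_pow (m : F3) : Ex z l (r 0 * r 1 * r 2) (y ^ m.val) (Ym fun _ => m) := (h.ey.pow _).congr fun v => by
  rcases f3_cases m with rfl | rfl | rfl
  · exact (Ym_zero v).symm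
  · rfl
  · exact Ym_Ym 1 1 v

theorem ac_f (x : V5) : Ac z l (fj z l y x) (Ym fun _ => x.2.2) :=
  (h.ac_mul (h.ac_Q (mul_mem (pow_mem zQ _) (lQ _))) (h.ey_pow _).ac :)

theorem f_memQ {x : V5} (e : fj z l y x ∈ Qs z l) : x.2.2 = 0 := by
  simpa [Ym] using congrFun (congrArg Prod.fst (h.ac_uniq (h.ac_f x) (h.ac_Q e) (0, 1))) 0

theorem f_one {x : V5} (e : fj z l y x = 1) : x = 0 := by
  obtain ⟨k, u, m⟩ := x
  obtain rfl : m = 0 := h.f_memQ (e ▸ one_mem _)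
  rw [h.f_q] at e
  rw [(h.q_one e).2, show u = 0 from congrArg Prod.fst (h.q_one e).1]
  rfl

theorem f_inj {x x' : V5} (e : fj z l y x = fj z l y x') : x = x' :=
  sub_eq_zero.1 (h.f_one (by rw [sub_eq_add_neg, h.f_add, h.f_neg, e, mul_inv_cancel]))

/-- an element of `J` acting as a constant lies in `J₀` -/
theorem f_of {g : G} (hg : g ∈ J) {m : F3} (a : Ac z l g (Ym fun _ => m)) : ∃ k u, g = fj z l y (k, u, m) := by
  obtain ⟨u, δ, c, b, rfl⟩ := h.decJ hg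
  obtain ⟨k, e⟩ := h.ex_eq (h.ey_pow m) b (h.ac_uniq a (h.ac_mul (h.ac_Q (lQ (u, 0))) b.ac :))
  exact ⟨k, u, by rw [e, fj, ← h.lzn, mul_assoc, cz (h.ey_pow m).cz]⟩

theorem r_f (i : Fin 3) (x : V5) : r i * fj z l y x * (r i)⁻¹ = fj z l y (rf i x) := by
  rw [fj, ← conj_mul, ← conj_mul, cjz (h.rz i), (h.er i).act, cj_pw (cm_cj.1 (h.ex_Ym h.ey i).symm), fj, rf, ng]
  simp

theorem l_f (w : X3) (x : V5) : l (0, w) * fj z l y x * (l (0, w))⁻¹ = fj z l y (tv w x) := by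
  have e : l (0, w) * y * (l (0, w))⁻¹ = fj z l y (∑ i, w i * w i, -w, 1) := by
    rw [h.cj_Ym h.ey, fj, pw_one, qq, h.lzn]; simp
  have p : ∀ (x : V5) (m : F3), fj z l y x ^ m.val = fj z l y (m • x) := fun x m => by
    rcases f3_cases m with rfl | rfl | rfl
    · rw [pw_zero, zero_smul, h.f_zero]
    · rw [pw_one, one_smul]
    · rw [pw_two (h.f3 x), ← h.f_neg, show (2 : F3) = -1 from rfl, neg_one_smul]
  rw [fj, ← conj_mul, ← conj_mul, cjz (h.lz _), cj_pw e, p, h.lcj, ← h.qz, h.qmul, h.zero_l, zero_add, zero_add,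
    ← h.f_q, ← h.f_add]
  congr 1
  simp [tv, b6, sub_eq_add_neg]

/-- elements of `C(z)` normalizing `A` normalize `J` -/
theorem nJ {g : G} {φ : V6 → V6} (a : Ac z l g φ) (e : ∀ u, (φ (u, 0)).2 = 0) : g ∈ normalizer (J : Set G) := by
  refine inv_mem_iff.1 (nrm_of fun x hx => (h.memJ _).2 ⟨?_, fun u => ?_⟩)
  · exact (((show Commute g z from a.1).inv_left.mul_left ((h.memJ x).1 hx).1).mul_left
      (show Commute g z from a.1).inv_left.inv_left).eq
  · obtain ⟨k, f⟩ := a.2 (u, 0)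
    rw [← Prod.mk.eta (p := φ (u, 0)), e, ← h.f_q] at f
    calc _ = g⁻¹ * (x * (g * l (u, 0) * g⁻¹)) * g := by group
      _ = _ := by rw [f, h.Jc x hx _ (h.fJ _), ← f]; group

theorem QN : Qs z l ≤ normalizer (J : Set G) := fun _ hg => h.nJ (h.ac_Q hg) fun _ => rfl
theorem rN (i : Fin 3) : r i ∈ normalizer (J : Set G) := h.nJ (h.er i).ac fun u => by simp [ng]
theorem stdN {g : G} {c : X3} {π : Equiv.Perm (Fin 3)} (a : Ac z l g fun v => Ym c (pm π v)) :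
    g ∈ normalizer (J : Set G) := h.nJ a fun _ => rfl

/-- the quaternion group on the plane `0` -/
theorem memR0 {x : G} : x ∈ Rs z l r y (1, 0, 0) ↔
    x ^ 4 = 1 ∧ ∃ m : Mx, m.det1 ∧ m.q8 ∧ Only 0 m ∧ Ex z l (r 0 * r 1 * r 2) x m.ap := by
  constructor
  · rintro ⟨c, x4, f⟩
    have xz : x * z = z * x := h.f_z ▸ f (1, 0, 0) rfl (by decide)
    obtain ⟨π, m, d, a⟩ := h.mon x xz
    have fx : ∀ j, j ≠ 0 → m.ap (pm π (pl j 1 0)) = pl j 1 0 := fun j hj => by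
      obtain ⟨k, e⟩ := a.2 (pl j 1 0)
      have := f (0, Pi.single j 1, 0) (by simp [hj]) (by simp [b5])
      rw [h.f_a, ← pl_a, cm_cj, e, ← q0 z l (pl j 1 0)] at this
      exact (h.q_inj this).1
    have fp : ∀ j, j ≠ 0 → π j = j := fun j hj => by
      by_contra n
      simpa [Mx.ap, pm, pl, n] using congrFun (congrArg Prod.fst (fx j hj)) j
    obtain rfl : π = 1 := (by decide : ∀ π : Equiv.Perm (Fin 3), (∀ j, j ≠ 0 → π j = j) → π = 1) π fp
    have q : m.q8 := Ini.q8_four d (h.ac_uniq (h.ac_pow a 4) (x4 ▸ h.ac_one))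
    have o : Only 0 m := fun j hj => by
      have e1 := congrFun (congrArg Prod.fst (fx j hj)) j
      have e2 := congrFun (congrArg Prod.snd (fx j hj)) j
      simp [Mx.ap, pm, pl] at e1 e2
      exact (by decide : ∀ a b c d : F3, a * d - b * c = 1 → (a + d = 0 ∨ b = 0 ∧ c = 0) → a = 1 → c = 0 →
        a = 1 ∧ b = 0 ∧ c = 0 ∧ d = 1) _ _ _ _ (d j) (q j) e1 e2
    obtain ⟨ρ, ρ4, b⟩ := h.all m d q
    obtain ⟨w, k, e⟩ := h.memQ.1 (h.div_memQ' b.ac a)
    have c1 : r 0 * qq z l w k * (r 0)⁻¹ = qq z l w k := by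
      rw [← e]; exact cm_cj.1 ((show Commute x (r 0) from c).mul_left
        (show Commute ρ (r 0) from h.ex_rc d b 0).inv_left).symm.eq
    have w0 := (h.q_inj ((h.rq 0 w k).symm.trans c1)).1
    have c2 : Commute (qq z l w k) ρ := (cm_cj.2 (by
      rw [b.q, E0.Only.fix o]
      constructor
      · exact (by decide : ∀ a : F3, -1 * a = a → a = 0) _ (congrFun (congrArg Prod.fst w0) 0)
      · exact (by decide : ∀ a : F3, -1 * a = a → a = 0) _ (congrFun (congrArg Prod.snd w0) 0))).symm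
    rw [mul_inv_eq_iff_eq_mul] at e
    have x4' := x4
    rw [e, c2.mul_pow, ρ4, mul_one, pow_succ, h.qcube, one_mul] at x4'
    rw [x4', one_mul] at e
    exact ⟨x4, m, d, q, o, e ▸ b⟩
  · rintro ⟨x4, m, d, q, o, a⟩
    refine ⟨h.ex_rc d a 0, x4, fun w w0 w1 => ?_⟩
    obtain ⟨k, u, n⟩ := w
    obtain rfl : n = 0 := by simpa [b5] using w1
    rw [h.f_q, cm_cj, a.q, E0.Only.fix o ⟨w0, rfl⟩]

end St0

namespace St

variable {z y : G} {l : V6 → G} {r : Fin 3 → G} {J : Subgroup G} (h : St z l r y J)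
include h

/-- the action of `N(J) ∩ C(r 0)` -/
theorem isoK {n : G} (hn : n ∈ normalizer (J : Set G)) (c : n * r 0 = r 0 * n) :
    ∃ φ : V5 → V5, (∀ x x', φ (x + x') = φ x + φ x') ∧ (∀ x, q5 (φ x) = q5 x) ∧
      (∀ x, n * fj z l y x * n⁻¹ = fj z l y (φ x)) ∧ Function.Bijective φ ∧ (∀ x, (φ x).2.1 0 = 0 ↔ x.2.1 0 = 0) ∧
      ∀ p x, x ∈ Rs z l r y p → n * x * n⁻¹ ∈ Rs z l r y (φ p) := by
  obtain ⟨φ, a, q, e⟩ := h.iso n hn
  have inj : Function.Injective φ := fun x x' f => h.f_inj (by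
    have := (e x).trans (f ▸ (e x').symm)
    rwa [mul_left_inj, mul_right_inj] at this)
  have bij := Finite.injective_iff_bijective.1 inj
  have k : ∀ x, (φ x).2.1 0 = 0 ↔ x.2.1 0 = 0 := fun x => by
    rw [← rf_fix, ← rf_fix, ← inj.eq_iff (a := rf 0 x)]
    rw [show φ (rf 0 x) = rf 0 (φ x) from h.f_inj (by
      rw [← e, ← h.r_f, ← h.r_f, ← e]
      calc _ = n * r 0 * fj z l y x * (n * r 0)⁻¹ := by group
        _ = _ := by rw [c]; group)]
  refine ⟨φ, a, q, e, bij, k, fun p x ⟨x1, x2, x3⟩ => ⟨?_, by rw [conj_pow, x2]; simp, fun w w0 w1 => ?_⟩⟩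
  · exact (((show Commute n (r 0) from c).mul_left x1).mul_left (show Commute n (r 0) from c).inv_left).eq
  · obtain ⟨w, rfl⟩ := bij.2 w
    rw [← e, conj_mul, conj_mul, x3 w ((k w).1 w0) (by rwa [b5_iso a q] at w1)]

end St

end H7.E3
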