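import Cfsg.Agent.Lib.E3L.Def

/-! Basic facts on the 3-local configuration of `²E₆(2)`. -/

set_option autoImplicit false
set_option linter.unusedSectionVars false

namespace H7.E3

open Subgroup H87.Mc Cfsg H7.F3 H7.F3.Syl
open H87.U6 (F3 f3_cases pw_add pw_zero pw_one pw_two pw_neg pw_mul pw_inj mem_zp cj_pw cm_cj)

variable {G : Type*} [Group G] [Finite G]

theorem one_ap (v : V6) : (⟨1, 0, 0, 1⟩ : Mx).ap v = v := by simp [Mx.ap]
theorem one_det : (⟨1, 0, 0, 1⟩ : Mx).det1 := fun i => by simp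
theorem ym_det (c : X3) : (⟨1, c, 0, 1⟩ : Mx).det1 := fun i => by simp
theorem ng_det (i : Fin 3) : (⟨sg i, 0, 0, sg i⟩ : Mx).det1 := fun j => by
  simpa using congrFun (sg_sq i) j
theorem ng_pl : ∀ i a b, ng i (pl i a b) = -pl i a b := by decide +kernel
theorem ng_pl' : ∀ i j, i ≠ j → ∀ a b, ng i (pl j a b) = pl j a b := by decide +kernel
theorem b6_pl : ∀ i, b6 (pl i 1 0) (pl i 0 1) = 1 := by decide +kernel
theorem ngs (v : V6) : ng 0 (ng 1 (ng 2 v)) = -v := by ext i <;> fin_cases i <;> simp [ng, sg]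

set_option synthInstance.maxSize 2000 in
theorem q8_three' : ∀ a b c d : F3, a * d - b * c = 1 → (a + d = 0 ∨ (b = 0 ∧ c = 0)) →
    (a * a + b * c) * a + (a * b + b * d) * c = 1 → (a * a + b * c) * b + (a * b + b * d) * d = 0 →
    (c * a + d * c) * a + (c * b + d * d) * c = 0 → a = 1 ∧ b = 0 ∧ c = 0 ∧ d = 1 := by decide +kernel

theorem q8_to : ∀ x y : F3, (x ≠ 0 ∨ y ≠ 0) → ∃ a b c d : F3, a * d - b * c = 1 ∧ (a + d = 0 ∨ (b = 0 ∧ c = 0)) ∧
    a * x + b * y = 1 ∧ c * x + d * y = 0 := by decide +kernel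

theorem q8_dec : ∀ a b c d : F3, a * d - b * c = 1 → ∃ k, (a + (c * -k + d) = 0 ∨ (a * -k + b = 0 ∧ c = 0)) := by
  decide +kernel

/-- the quaternion groups are transitive on vectors of full support -/
theorem Full.to {v : V6} (h : Full v) : ∃ m : Mx, m.det1 ∧ m.q8 ∧ m.ap v = (1, 0) := by
  choose a b c d e1 e2 e3 e4 using fun i => q8_to _ _ (h i)
  exact ⟨⟨a, b, c, d⟩, e1, e2, Prod.ext (funext e3) (funext e4)⟩

theorem Full.mono {v : V6} (h : Full v) {m : Mx} (d : m.det1) (π : Equiv.Perm (Fin 3)) : Full (m.ap (pm π v)) :=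
  fun i => ne_ap _ _ _ _ _ _ (d i) (h (π i))

/-- every matrix is a quaternion matrix times a standard one -/
theorem dec_q8 {m : Mx} (d : m.det1) : ∃ (n : Mx) (c : X3), n.det1 ∧ n.q8 ∧ ∀ v, m.ap v = n.ap (Ym c v) := by
  choose k e using fun i => q8_dec _ _ _ _ (d i)
  refine ⟨m.mul ⟨1, -k, 0, 1⟩, k, d.mul (ym_det _), fun i => by simpa [Mx.mul] using e i, fun v => ?_⟩
  rw [Mx.ap_mul, ← Ym_eq, Ym_Ym, neg_add_cancel, Ym_zero]

theorem std_of_fix {m : Mx} (d : m.det1) {π : Equiv.Perm (Fin 3)} (e : m.ap (pm π (1, 0)) = (1, 0)) (v : V6) :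
    m.ap (pm π v) = Ym m.b (pm π v) := by
  have e2 : m.a = 1 := by simpa [Mx.ap, pm] using congrArg Prod.fst e
  have e3 : m.c = 0 := by simpa [Mx.ap, pm] using congrArg Prod.snd e
  have e4 : m.d = 1 := funext fun i => by simpa [e2, e3] using d i
  simp [Mx.ap, Ym, e2, e3, e4]

section A

variable {V : Type*} [AddCommGroup V] {be : V → V → F3} {z t : G} {l : V → G} (h : A0 be z l t)
include h

/-- an involution centralizing `C_Q(x)` for an element `x` of order three is trivial -/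
theorem lemZ {s x : G} (sz : s * z = z * s) (s2 : s * s = 1) (xz : x * z = z * x) (x3 : x ^ 3 = 1)
    (sx : s * x = x * s) (c : ∀ q ∈ Qs z l, q * x = x * q → s * q = q * s) : s = 1 := by
  have si : s⁻¹ = s := inv_eq_of_mul_eq_one_right s2
  obtain ⟨ψ, a⟩ := h.exists_ac sz
  obtain ⟨φ, b⟩ := h.exists_ac xz
  have p2 : ∀ v, ψ (ψ v) = v := h.ac_uniq (h.ac_mul a a) (s2 ▸ h.ac_one)
  have p3 : ∀ v, φ (φ (φ v)) = v := h.ac_uniq (h.ac_pow b 3) (x3 ▸ h.ac_one)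
  have pc : ∀ v, ψ (φ v) = φ (ψ v) := h.ac_uniq (h.ac_mul a b) (sx ▸ h.ac_mul b a)
  have pa := h.ac_add a
  have fa := h.ac_add b
  have k0 : ∀ v, ψ v = -v → φ v = v → v = 0 := fun v e f => by
    obtain ⟨k, e1⟩ := h.ac_q' a v
    obtain ⟨m, e2⟩ := h.ac_q' b v
    have e3 := e1 k
    rw [e, show k + k = -k by linear_combination k * three, ← h.qinv] at e3
    have e4 : x * qq z l v k * x⁻¹ = qq z l v k * z ^ m.val := by
      rw [e2, f, ← h.qz, h.qmul, h.zero_r, add_zero, zero_add, add_comm]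
    have e5 : s * (x * qq z l v k * x⁻¹) * s⁻¹ = (x * qq z l v k * x⁻¹)⁻¹ := by
      calc _ = s * x * s⁻¹ * (s * qq z l v k * s⁻¹) * (s * x * s⁻¹)⁻¹ := by group
        _ = _ := by rw [cm_cj.1 sx, e3]; group
    rw [e4, ← conj_mul, e3, cjz sz, mul_inv_rev, ← (show Commute (qq z l v k) (z ^ m.val) from
      cz (h.qH v k) _).inv_inv.eq, mul_right_inj, eq_inv_iff_mul_eq_one, ← h.zz, ← h.qz] at e5
    rw [(by decide : ∀ k : F3, k + k = 0 → k = 0) m (h.q_one e5).2, pw_zero, mul_one] at e4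
    rw [cm_cj.1 (c _ (qQ v k) (cm_cj.2 e4).symm), h.qinv] at e3
    exact h.eq_zero_of_neg (h.q_inj e3).1.symm
  have k1 : ∀ v, ψ v = -v → ψ (φ v - v) = -(φ v - v) := fun v e => by
    rw [add_sub' pa, pc, e, add_neg' fa]; abel
  have k2 : ∀ v, ψ v = -v → φ v - v = 0 → v = 0 := fun v e f => k0 v e (sub_eq_zero.1 f)
  have k3 : ∀ v, ψ v = -v → v = 0 := fun v e =>
    k2 v e (k2 _ (k1 v e) (k2 _ (k1 _ (k1 v e)) (by
      simp only [add_sub' fa, p3]
      have a1 := h.tri (φ v)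
      have a2 := h.tri (φ (φ v))
      linear_combination (norm := abel) a1 - a2)))
  have := h.Q3 (h.memQ_of_ac (a.congr fun v => sub_eq_zero.1 (k3 (ψ v - v) (by rw [add_sub' pa, p2]; abel))))
  rwa [pow_succ, pow_two, s2, one_mul] at this

end A

namespace E0

variable {z : G} {l : V6 → G} {r : Fin 3 → G} (h : E0 z l r)
include h

theorem rinv (i : Fin 3) : (r i)⁻¹ = r i := inv_eq_of_mul_eq_one_right (h.r2 i)
theorem rz (i : Fin 3) : r i * z = z * r i := (h.er i).cz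
theorem r4 (i : Fin 3) : r i ^ 4 = 1 := by rw [show 4 = 2 * 2 from rfl, pow_mul, pow_two (r i), h.r2, one_pow]
theorem rq (i : Fin 3) (v : V6) (k : F3) : r i * qq z l v k * (r i)⁻¹ = qq z l (ng i v) k := (h.er i).q v k

theorem rne (i : Fin 3) : r i ≠ 1 := fun e => by
  have := h.l_inj (((h.er i).act (Pi.single i 1, 0)).symm.trans (by rw [e]; simp; rfl))
  exact (by decide : ∀ i, ng i (Pi.single i 1, 0) ≠ (Pi.single i 1, 0)) i this

theorem r_ne {i j : Fin 3} (n : i ≠ j) : r i ≠ r j := fun e => by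
  have := h.ac_uniq (h.er i).ac (e ▸ (h.er j).ac) (pl i 1 0)
  exact (by decide +kernel : ∀ i j, i ≠ j → ng i (pl i 1 0) ≠ ng j (pl i 1 0)) i j n this

/-- conjugation of `r` by an element of `C(z, t)` -/
theorem ex_r {g : G} {m : Mx} {π : Equiv.Perm (Fin 3)} (d : m.det1)
    (a : Ex z l (r 0 * r 1 * r 2) g fun v => m.ap (pm π v)) (i : Fin 3) : g * r (π i) * g⁻¹ = r i := by
  have b := a.inv (φ' := fun v => pm π⁻¹ (m.adj.ap v)) fun v => by rw [pm_pm, inv_mul_cancel, pm_one, d.ap_adj]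
  refine h.ex_eq4 ((a.mul (h.er _)).mul b) (h.er i) (fun v => ?_) (by rw [conj_pow, h.r4]; simp) (h.r4 i)
  rw [pm_ng, pm_pm, inv_mul_cancel, pm_one, Mx.ap_ng, d.ap_adj]

theorem ex_rc {g : G} {m : Mx} (d : m.det1) (a : Ex z l (r 0 * r 1 * r 2) g m.ap) (i : Fin 3) : g * r i = r i * g :=
  cm_cj.2 (h.ex_r (π := 1) d a i)

theorem ex_Ym {g : G} {c : X3} (a : Ex z l (r 0 * r 1 * r 2) g (Ym c)) (i : Fin 3) : g * r i = r i * g :=
  h.ex_rc (ym_det c) (Ym_eq c ▸ a) i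

theorem rc (i j : Fin 3) : r i * r j = r j * r i := h.ex_rc (ng_det i) (ng_eq i ▸ h.er i) j

/-- a 2-element commutes with an element of `C(z, t)` if their actions commute -/
theorem ex_cm {g ρ : G} {φ ψ : V6 → V6} (a : Ex z l (r 0 * r 1 * r 2) g φ) (b : Ex z l (r 0 * r 1 * r 2) ρ ψ)
    (ρ4 : ρ ^ 4 = 1) (e : ∀ v, φ (ψ v) = ψ (φ v)) : g * ρ = ρ * g := by
  obtain ⟨φ', a'⟩ := h.exists_ac (show Commute g z from a.cz).inv_left.eq
  have e1 : ∀ v, φ (φ' v) = v := h.ac_uniq (h.ac_mul a.ac a') (by rw [mul_inv_cancel]; exact h.ac_one)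
  exact cm_cj.2 (h.ex_eq4 ((a.mul b).mul (a.inv e1)) b (fun v => by rw [e, e1]) (by rw [conj_pow, ρ4]; simp) ρ4)

theorem mono_inv {g : G} {m : Mx} {π : Equiv.Perm (Fin 3)} (d : m.det1) (a : Ac z l g fun v => m.ap (pm π v)) :
    Ac z l g⁻¹ fun v => (m.adj.pr π⁻¹).ap (pm π⁻¹ v) :=
  h.ac_inv a fun v => by rw [← Mx.pm_ap, pm_pm, inv_mul_cancel, pm_one, d.ap_adj]

theorem mono_mul {g g' : G} {m n : Mx} {π π' : Equiv.Perm (Fin 3)}
    (a : Ac z l g fun v => m.ap (pm π v)) (b : Ac z l g' fun v => n.ap (pm π' v)) :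
    Ac z l (g * g') fun v => (m.mul (n.pr π)).ap (pm (π' * π) v) :=
  (h.ac_mul a b).congr fun v => by rw [Mx.pm_ap, pm_pm, Mx.ap_mul]

theorem mono_pow {g : G} {m : Mx} {π : Equiv.Perm (Fin 3)} (d : m.det1) (a : Ac z l g fun v => m.ap (pm π v)) :
    ∀ k : ℕ, ∃ n : Mx, n.det1 ∧ Ac z l (g ^ k) fun v => n.ap (pm (π ^ k) v)
  | 0 => ⟨_, one_det, by rw [pow_zero]; exact h.ac_one.congr fun v => (one_ap v).symm⟩
  | k + 1 => by
    obtain ⟨n, d', b⟩ := mono_pow d a k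
    exact ⟨_, d.mul (d'.pr π), by rw [pow_succ', pow_succ]; exact h.mono_mul a b⟩

theorem perm_pow {g : G} {m : Mx} {π : Equiv.Perm (Fin 3)} (d : m.det1) (a : Ac z l g fun v => m.ap (pm π v))
    {k : ℕ} (hk : g ^ k = 1) : π ^ k = 1 := by
  obtain ⟨n, d', b⟩ := h.mono_pow d a k
  rw [hk] at b
  exact (Mx.mono_uniq (π' := 1) d' fun v => (h.ac_uniq b h.ac_one v).trans (one_ap v).symm).1

theorem perm_three {g : G} {m : Mx} {π : Equiv.Perm (Fin 3)} (d : m.det1)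
    (a : Ac z l g fun v => m.ap (pm π v)) {k : ℕ} (hk : g ^ 3 ^ k = 1) : π ^ 3 = 1 := by
  have e := h.perm_pow d a hk
  rcases (by decide : ∀ π : Equiv.Perm (Fin 3), π ^ 3 = 1 ∨ π ^ 2 = 1) π with e' | e'
  · exact e'
  · obtain ⟨j, hj⟩ : Odd (3 ^ k) := Odd.pow (by decide)
    rw [hj, pow_succ, pow_mul, e', one_pow, one_mul] at e
    rw [e, one_pow]

theorem map {G' : Type*} [Group G'] (f : G ≃* G') : E0 (f z) (fun v => f (l v)) fun i => f (r i) where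
  toA0 := by simpa only [map_mul] using h.toA0.map f
  r2 i := by rw [← map_mul, h.r2, map_one]
  er i := by simpa only [map_mul] using (ex_map f).2 (h.er i)
  mon g hg := by
    obtain ⟨g, rfl⟩ := f.surjective g
    obtain ⟨π, m, d, a⟩ := h.mon g (f.injective (by simpa using hg))
    exact ⟨π, m, d, (ac_map f).2 a⟩
  all m d q := by
    obtain ⟨ρ, e, a⟩ := h.all m d q
    exact ⟨f ρ, by rw [← map_pow, e, map_one], by simpa only [map_mul] using (ex_map f).2 a⟩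

theorem conj (g : G) : E0 (g * z * g⁻¹) (fun v => g * l v * g⁻¹) fun i => g * r i * g⁻¹ := h.map (MulAut.conj g)

omit h in
theorem mem_conj {g x : G} : g * x * g⁻¹ ∈ Qs (g * z * g⁻¹) (fun v => g * l v * g⁻¹) ↔ x ∈ Qs z l :=
  mem_Qs_map (MulAut.conj g)

/-- change of coordinates -/
theorem chg {n : Mx} (d : n.det1) : E0 z (fun v => l (n.ap v)) r where
  toSy := h.toSy
  z3 := h.z3
  z1 := h.z1
  lz v := h.lz _
  lmul u v := by rw [h.lmul, ap_add, b6_ap d]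
  linj v hv := by rw [← d.adj_ap v, h.linj _ hv]; exact add_zero' (ap_add _)
  nQ g hg v := by
    obtain ⟨w, k, e⟩ := h.nQ g hg (n.ap v)
    exact ⟨n.adj.ap w, k, by rw [e, d.ap_adj]⟩
  cQ g hg hv := h.cQ g hg fun v => by simpa only [d.ap_adj] using hv (n.adj.ap v)
  t2 := h.t2
  tz := h.tz
  tl v := by rw [h.tl, ap_neg]
  r2 := h.r2
  er i := (ex_chg d (h.er i)).congr fun v => by rw [← Mx.ap_ng, d.adj_ap]
  mon g hg := by
    obtain ⟨π, m, d', a⟩ := h.mon g hg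
    exact ⟨π, _, d.adj.mul (d'.mul (d.pr π)),
      (ac_chg d a).congr fun v => by rw [Mx.pm_ap, Mx.ap_mul, Mx.ap_mul]⟩
  all m d' q := by
    obtain ⟨ρ, e, c⟩ := h.all _ ((d.mul d').mul d.adj) (q.conj d d')
    exact ⟨ρ, e, (ex_chg d c).congr fun v => by rw [Mx.ap_mul, Mx.ap_mul, d.adj_ap, d.adj_ap]⟩

/-- the stabilizer of `(1, 0)` acts in standard form -/
theorem fix_std {g : G} {φ : V6 → V6} (a : Ac z l g φ) (e : φ (1, 0) = (1, 0)) :
    ∃ c π, Ac z l g fun v => Ym c (pm π v) := by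
  obtain ⟨π, m, d, b⟩ := h.mon g a.1
  exact ⟨_, π, b.congr (std_of_fix d ((h.ac_uniq b a _).trans e))⟩

theorem std_of {g : G} {c : X3} {π : Equiv.Perm (Fin 3)} (a : Ac z l g fun v => Ym c (pm π v)) {k : ℕ}
    (hk : g ^ 3 ^ k = 1) : Std z l g := ⟨c, π, h.perm_three (ym_det c) (Ym_eq c ▸ a) hk, a⟩

/-- coordinates adapted to a 3-subgroup of `C(z)` -/
theorem adapt {T : Subgroup G} (p : IsPGroup 3 T) (c : ∀ g ∈ T, g * z = z * g) :
    ∃ l', E0 z l' r ∧ Qs z l' = Qs z l ∧ ∀ g ∈ T, Std z l' g := by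
  have : Fact (Nat.Prime 3) := ⟨Nat.prime_three⟩
  choose φ hφ using fun g : T => h.exists_ac (c g g.2)
  have k : ∀ g v, Full v → Full (φ g v) := fun g v hv => by
    obtain ⟨π, m, d, a⟩ := h.mon g (c g g.2)
    rw [h.ac_uniq (hφ g) a]
    exact hv.mono d π
  let _ : MulAction T {v : V6 // ∀ i, v.1 i ≠ 0 ∨ v.2 i ≠ 0} :=
    { smul := fun g v => ⟨φ g v.1, k g v.1 v.2⟩
      one_smul := fun v => Subtype.ext (h.ac_uniq (hφ 1) h.ac_one v.1)
      mul_smul := fun g g' v => Subtype.ext (h.ac_uniq (hφ (g * g')) (h.ac_mul (hφ g) (hφ g')) v.1) }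
  obtain ⟨A, hA⟩ := p.nonempty_fixed_point_of_prime_not_dvd_card _ card512
  obtain ⟨n, d, -, e⟩ := Full.to A.2
  have en : n.adj.ap (1, 0) = A := by rw [← e, d.adj_ap]
  refine ⟨_, h.chg d.adj, Qs_chg d.adj, fun g hg => ?_⟩
  obtain ⟨c, π, a⟩ := (h.chg d.adj).fix_std (ac_chg d.adj (hφ ⟨g, hg⟩)) (by
    rw [en, adj_adj, ← e]; exact congrArg (fun x => n.ap x.1) (hA ⟨g, hg⟩))
  obtain ⟨j, hj⟩ := p ⟨g, hg⟩
  exact (h.chg d.adj).std_of a (congrArg Subtype.val hj)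

theorem dg_of {g : G} {m : Mx} (d : m.det1) (a : Ac z l g fun v => m.ap (pm 1 v)) : Dg z l g := ⟨m, d, a⟩

/-- squares of 2-elements fix the planes -/
theorem dg_sq {ρ : G} (c : ρ * z = z * ρ) (ρ4 : ρ ^ 4 = 1) : Dg z l (ρ * ρ) := by
  obtain ⟨π, m, d, a⟩ := h.mon ρ c
  have := h.mono_mul a a
  rw [(by decide : ∀ π : Equiv.Perm (Fin 3), π ^ 4 = 1 → π * π = 1) π (h.perm_pow d a ρ4)] at this
  exact ⟨_, d.mul (d.pr π), this⟩

theorem dg_two {a b : G} (ca : a * z = z * a) (cb : b * z = z * b) (a2 : a * a = 1) (b2 : b * b = 1)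
    (c : a * b = b * a) : Dg z l a ∨ Dg z l b ∨ Dg z l (a * b) := by
  obtain ⟨π, m, d, x⟩ := h.mon a ca
  obtain ⟨σ, n, d', y⟩ := h.mon b cb
  have e := (Mx.mono_uniq (d.mul (d'.pr π)) (h.ac_uniq (h.mono_mul x y) (c ▸ h.mono_mul y x))).1
  rcases (by decide : ∀ π σ : Equiv.Perm (Fin 3), π ^ 2 = 1 → σ ^ 2 = 1 → σ * π = π * σ →
    π = 1 ∨ σ = 1 ∨ σ * π = 1) π σ (h.perm_pow d x (by rwa [pow_two])) (h.perm_pow d' y (by rwa [pow_two])) e
    with rfl | rfl | f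
  · exact Or.inl ⟨m, d, x⟩
  · exact Or.inr (Or.inl ⟨n, d', y⟩)
  · exact Or.inr (Or.inr ⟨_, d.mul (d'.pr π), by have := h.mono_mul x y; rwa [f] at this⟩)

/-- an element of order three inverted by an element fixing the planes lies in `Q` -/
theorem kt {x s : G} (xz : x * z = z * x) (x3 : x ^ 3 = 1) (ds : Dg z l s) (e : s * x * s⁻¹ = x⁻¹) :
    x ∈ Qs z l := by
  obtain ⟨n, d', b⟩ := ds
  obtain ⟨π, m, d, a⟩ := h.mon x xz
  have c := h.mono_mul (h.mono_mul (h.mono_mul (π := 1) b a) (h.mono_inv (π := 1) d' b)) a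
  rw [e, inv_mul_cancel] at c
  have dd := ((d'.mul (d.pr 1)).mul ((d'.adj.pr 1⁻¹).pr (π * 1))).mul (d.pr (1⁻¹ * (π * 1)))
  obtain ⟨e1, e2⟩ := Mx.mono_uniq (π' := 1) dd fun v => (h.ac_uniq c h.ac_one v).trans (one_ap v).symm
  obtain rfl : π = 1 := (by decide : ∀ π : Equiv.Perm (Fin 3), π ^ 3 = 1 → π * (1⁻¹ * (π * 1)) = 1 → π = 1) π
    (h.perm_pow d a x3) e1
  have k := congrArg Two.kap e2
  have pr1 : ∀ m : Mx, m.pr 1 = m := fun _ => rfl
  simp only [inv_one, mul_one, pr1] at k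
  rw [Two.kap_mul ((d'.mul d).mul d'.adj) d, Two.kap_mul (d'.mul d) d'.adj, Two.kap_mul d' d, Two.kap_adj d',
    show (⟨1, 0, 0, 1⟩ : Mx) = Two.ym 0 from rfl, Two.kap_ym] at k
  have q := Two.kap_q8 d (funext fun i => (by decide : ∀ a b : F3, a + b + -a + b = 0 → b = 0) _ _ (congrFun k i))
  have e3 : (m.mul m).mul m = ⟨1, 0, 0, 1⟩ := Mx.eq_of_ap fun v => by
    rw [Mx.ap_mul, Mx.ap_mul, one_ap]
    exact h.ac_uniq (h.ac_pow a 3) (x3 ▸ h.ac_one) v
  have e4 := fun i => q8_three' _ _ _ _ (d i) (q i) (congrFun (congrArg Mx.a e3) i) (congrFun (congrArg Mx.b e3) i)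
    (congrFun (congrArg Mx.c e3) i)
  refine h.memQ_of_ac (a.congr fun v => ?_)
  ext i <;> simp [Mx.ap, pm, e4 i]

/-- a square root of `r i` -/
theorem root (i : Fin 3) : ∃ ρ, ∃ m : Mx, m.det1 ∧ m.q8 ∧ Only i m ∧ ρ ^ 4 = 1 ∧ Ex z l (r 0 * r 1 * r 2) ρ m.ap ∧
    ρ * ρ = r i := by
  obtain ⟨ρ, e, a⟩ := h.all (E i 0 (-1) 1 0) (E_det (by decide)) (E_q8 (by decide))
  refine ⟨ρ, _, E_det (by decide), E_q8 (by decide), fun j hj => by simp [E, hj], e, a,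
    h.ex_eq4 (a.mul a) (h.er i) (fun v => ?_) (by rw [← pow_two, ← pow_mul, mul_comm, pow_mul, e, one_pow]) (h.r4 i)⟩
  ext j <;> by_cases hj : j = i <;> simp [E, Mx.ap, ng, sg, hj]

/-- a conjugate of `z` cannot centralize a plane and its quaternion group -/
theorem plane {y : G} {l' : V6 → G} {r' : Fin 3 → G} (h' : E0 y l' r') (i : Fin 3)
    (c : ∀ a b, l (pl i a b) * y = y * l (pl i a b))
    (c' : ∀ ρ (m : Mx), m.det1 → Only i m → ρ ^ 4 = 1 → Ex z l (r 0 * r 1 * r 2) ρ m.ap → ρ * y = y * ρ) :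
    z ∈ zpowers y := by
  obtain ⟨ρ, m, d, -, o, ρ4, a, e⟩ := h.root i
  have k := fun a' b => h'.kt (c a' b) (h.lcube _) (e ▸ h'.dg_sq (c' ρ m d o ρ4 a) ρ4)
    (by rw [(h.er i).act, ng_pl, h.linv])
  have := h'.comm_zp (k 1 0) (k 0 1)
  rw [h.lcj, ← q0 z l (pl i 0 1), h.qinv, h.qmul, add_neg_cancel, h.neg_r, h.alt, b6_pl, h.qz] at this
  exact inv_mem_iff.1 (pw_two h.z3 ▸ this)

omit h in
theorem Only.fix {i : Fin 3} {m : Mx} (o : Only i m) {v : V6} (e : v.1 i = 0 ∧ v.2 i = 0) : m.ap v = v := by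
  ext j <;> by_cases hj : j = i <;> simp [Mx.ap, hj, e, o j]

/-- conjugates of `z` in `Q` have full support -/
theorem full {g : G} {v : V6} {k : F3} (e : g * z * g⁻¹ = qq z l v k) (v0 : v ≠ 0) : Full v := fun i => by
  by_contra! n
  have := h.plane (h.conj g) i (fun a b => by
    rw [e, ← q0 z l, h.qcm]
    rw [b6]; refine Finset.sum_eq_zero fun j _ => ?_
    by_cases hj : j = i <;> simp [pl, hj, n]) fun ρ m _ o _ a => by
      rw [e, cm_cj, a.q, Only.fix o n]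
  obtain ⟨m, hm⟩ := (mem_zp (h.conj g).z3).1 this
  rw [e] at hm
  rcases f3_cases m with rfl | rfl | rfl
  · exact h.z1 (hm.trans (pw_zero _))
  · rw [pw_one] at hm
    exact v0 (h.q_zp (a := k) (by rw [← hm]; exact mem_zpowers z))
  · rw [pw_two (h.qcube v k)] at hm
    exact v0 (h.q_zp (a := k) (inv_mem_iff.1 (by rw [← hm]; exact mem_zpowers z)))

/-- all elements of full support are conjugate in `C(z)` -/
theorem full_conj {v : V6} (f : Full v) (k : F3) : ∃ g, g * z = z * g ∧ g * qq z l v k * g⁻¹ = l (1, 0) := by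
  obtain ⟨m, d, q, e⟩ := f.to
  obtain ⟨ρ, -, a⟩ := h.all m d q
  refine ⟨l (0, Pi.single 0 (-k)) * ρ, ((show Commute _ z from h.lz _).mul_left a.cz).eq, ?_⟩
  rw [mul_inv_rev, mul_assoc (l _), mul_assoc (l _), ← mul_assoc _ ρ⁻¹, a.q, e, ← mul_assoc, ← q0 z l, h.qcj, ← q0 z l]
  congr 1
  simp [b6, Pi.single_apply]

theorem cardQ' : Nat.card (Qs z l) = 3 ^ 7 := by rw [h.cardQ, card_V6]; rfl

theorem std_div {g g' : G} {c c' : X3} {π : Equiv.Perm (Fin 3)} (a : Ac z l g fun v => Ym c (pm π v))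
    (b : Ac z l g' fun v => Ym c' (pm π v)) : Ac z l (g' * g⁻¹) (Ym (c' - c)) :=
  (h.ac_mul b (h.ac_inv (φ' := fun v => pm π⁻¹ (Ym (-c) v)) a fun v => by
    rw [pm_pm, inv_mul_cancel, pm_one, Ym_Ym, add_neg_cancel, Ym_zero])).congr fun v => by
      rw [pm_pm, inv_mul_cancel, pm_one, Ym_Ym, sub_eq_add_neg]

/-- an element of order three permuting the planes -/
theorem sum_zero {g : G} {c : X3} {π : Equiv.Perm (Fin 3)} (a : Ac z l g fun v => Ym c (pm π v)) (g3 : g ^ 3 = 1)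
    (n : π ≠ 1) : ∑ i, c i = 0 := by
  have e := congrFun (congrArg Prod.fst (h.ac_uniq (h.ac_pow a 3) (g3 ▸ h.ac_one) (0, 1))) 0
  rcases (perm3 π).1 (h.perm_pow (ym_det c) (Ym_eq c ▸ a) g3) with rfl | rfl | rfl
  · exact absurd rfl n
  all_goals
    simp only [Function.iterate_succ, Function.iterate_zero, Function.comp, Ym, pm, Pi.add_apply, Pi.mul_apply,
      Pi.one_apply, Pi.zero_apply, id] at e
    rw [Fin.sum_univ_three]
  · rw [show ro (ro 0) = 2 by decide, show ro 0 = 1 by decide] at e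
    linear_combination e
  · rw [show ro⁻¹ (ro⁻¹ 0) = 1 by decide, show ro⁻¹ 0 = 2 by decide] at e
    linear_combination e

/-- `|T Q / Q| ≤ 27` for `T` of exponent three -/
theorem idx27 {T : Subgroup G} (p : ∀ x ∈ T, x ^ 3 = 1) (c : ∀ x ∈ T, x * z = z * x) :
    Nat.card T ≤ 27 * Nat.card (T ⊓ Qs z l : Subgroup G) := by
  obtain ⟨l', F, e, s⟩ := h.adapt (T := T) (fun g => ⟨1, Subtype.ext (by simpa using p g g.2)⟩) c
  rw [← e]
  have key : ∀ g ∈ T, ∀ g' ∈ T, ∀ x : X3 × Equiv.Perm (Fin 3), (Ac z l' g fun v => Ym x.1 (pm x.2 v)) →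
      (Ac z l' g' fun v => Ym x.1 (pm x.2 v)) → g⁻¹ * g' ∈ T ⊓ Qs z l' :=
    fun g hg g' hg' x a b => ⟨T.mul_mem (T.inv_mem hg) hg', F.div_memQ a b⟩
  by_cases n : ∃ g ∈ T, ∃ c π, π ≠ 1 ∧ Ac z l' g fun v => Ym c (pm π v)
  · obtain ⟨σ, hσ, c₀, π₀, n, a₀⟩ := n
    have := cnt T _ (Finset.univ.filter fun x : X3 × Equiv.Perm (Fin 3) => ∑ i, x.1 i = 0 ∧ x.2 ^ 3 = 1) _
      (fun g hg => by
        obtain ⟨c, π, e, a⟩ := s g hg
        refine ⟨(c, π), Finset.mem_filter.2 ⟨Finset.mem_univ _, ?_, e⟩, a⟩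
        by_cases f : π = 1
        · subst f
          have e1 := F.sum_zero ((F.ac_mul a a₀).congr (Two.std_mul c c₀ 1 π₀)) (p _ (mul_mem hg hσ)) (by simpa using n)
          have e2 := F.sum_zero a₀ (p _ hσ) n
          simp only [Pi.add_apply, Finset.sum_add_distrib, Equiv.Perm.coe_one, Function.comp_id, e2, add_zero] at e1
          exact e1
        · exact F.sum_zero a (p g hg) f) key
    rwa [show (Finset.univ.filter fun x : X3 × Equiv.Perm (Fin 3) => ∑ i, x.1 i = 0 ∧ x.2 ^ 3 = 1).card = 27 by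
      decide +kernel] at this
  · have := cnt T _ (Finset.univ.filter fun x : X3 × Equiv.Perm (Fin 3) => x.2 = 1) _
      (fun g hg => by
        obtain ⟨c, π, e, a⟩ := s g hg
        exact ⟨(c, π), Finset.mem_filter.2 ⟨Finset.mem_univ _, by_contra fun f => n ⟨g, hg, c, π, f, a⟩⟩, a⟩) key
    rwa [show (Finset.univ.filter fun x : X3 × Equiv.Perm (Fin 3) => x.2 = 1).card = 27 by decide +kernel] at this

end E0

end H7.E3
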