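import Cfsg.Agent.Lib.F3L.Syl
import Cfsg.Agent.Lib.F3L.TwoB
import Cfsg.Agent.Lib.F3L.U6R
import Cfsg.Agent.Lib.LargeExtra.Basic

/-! The 3-local configuration of `²E₆(2)`: definitions. -/

set_option autoImplicit false

namespace H7.E3

open Subgroup Cfsg H7.F3
open H87.U6 (F3)

/-- `(k, u, m)` stands for `z ^ k * l (u, 0) * y ^ m` -/
abbrev V5 := F3 × X3 × F3

def q5 (x : V5) : F3 := ∑ i, x.2.1 i * x.2.1 i - x.1 * x.2.2
/-- the polar form of `q5` -/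
def b5 (x y : V5) : F3 := -(∑ i, x.2.1 i * y.2.1 i) - x.1 * y.2.2 - x.2.2 * y.1
/-- a vector of the plane `i` -/
def pl (i : Fin 3) (a b : F3) : V6 := (Pi.single i a, Pi.single i b)
/-- all three components are non-zero -/
def Full (v : V6) : Prop := ∀ i, v.1 i ≠ 0 ∨ v.2 i ≠ 0
/-- the identity outside the plane `i` -/
def Only (i : Fin 3) (m : Mx) : Prop := ∀ j, j ≠ i → m.a j = 1 ∧ m.b j = 0 ∧ m.c j = 0 ∧ m.d j = 1

variable {G : Type*} [Group G]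

def fj (z : G) (l : V6 → G) (y : G) (x : V5) : G := z ^ x.1.val * l (x.2.1, 0) * y ^ x.2.2.val

/-- `Q = Q₀ Q₁ Q₂`, `C(z)` permutes the factors and induces `Q₈ × Q₈ × Q₈` -/
structure E0 (z : G) (l : V6 → G) (r : Fin 3 → G) : Prop extends A0 b6 z l (r 0 * r 1 * r 2) where
  r2 : ∀ i, r i * r i = 1
  er : ∀ i, Ex z l (r 0 * r 1 * r 2) (r i) (ng i)
  mon : ∀ g, g * z = z * g → ∃ π, ∃ m : Mx, m.det1 ∧ Ac z l g fun v => m.ap (pm π v)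
  all : ∀ m : Mx, m.det1 → m.q8 → ∃ ρ, ρ ^ 4 = 1 ∧ Ex z l (r 0 * r 1 * r 2) ρ m.ap

/-- `Z` is weakly closed in `Q` -/
def WC (z : G) (l : V6 → G) : Prop := ∀ g, g * z * g⁻¹ ∈ Qs z l → g * z * g⁻¹ ∈ zpowers z

/-- `g` fixes the three planes -/
def Dg (z : G) (l : V6 → G) (g : G) : Prop := ∃ m : Mx, m.det1 ∧ Ac z l g m.ap

/-- `g` acts in standard form -/
def Std (z : G) (l : V6 → G) (g : G) : Prop := ∃ c π, π ^ 3 = 1 ∧ Ac z l g fun v => Ym c (pm π v)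

/-- the configuration after the 3-local analysis; `J = C(⟨z, a₀, a₁, a₂⟩)` -/
structure St0 (z : G) (l : V6 → G) (r : Fin 3 → G) (y : G) (J : Subgroup G) : Prop extends E0 z l r where
  y3 : y ^ 3 = 1
  ey : Ex z l (r 0 * r 1 * r 2) y (Ym 1)
  sum : ∀ g c, Ac z l g (Ym c) → ∑ i, c i = 0
  sig : ∃ σ c, Ex z l (r 0 * r 1 * r 2) σ fun v => Ym c (pm ro v)
  memJ : ∀ g, g ∈ J ↔ g * z = z * g ∧ ∀ u, g * l (u, 0) = l (u, 0) * g
  Jc : ∀ a ∈ J, ∀ b ∈ J, a * b = b * a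
  J3 : ∀ a ∈ J, a ^ 3 = 1
  sing : ∀ g, g * z * g⁻¹ ∈ J → ∃ x, q5 x = 0 ∧ g * z * g⁻¹ = fj z l y x
  cnj : ∀ x, x ≠ 0 → q5 x = 0 → IsConj z (fj z l y x)
  ys : ∃ n ∈ normalizer (J : Set G), n * z * n⁻¹ = y ∨ n * z * n⁻¹ = y⁻¹

/-- with the action of `N(J)` on `J₀` -/
structure St (z : G) (l : V6 → G) (r : Fin 3 → G) (y : G) (J : Subgroup G) : Prop extends St0 z l r y J where
  iso : ∀ n ∈ normalizer (J : Set G), ∃ φ : V5 → V5, (∀ x x', φ (x + x') = φ x + φ x') ∧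
    (∀ x, q5 (φ x) = q5 x) ∧ ∀ x, n * fj z l y x * n⁻¹ = fj z l y (φ x)
  ysi : ∀ i, ∃ n ∈ normalizer (J : Set G), n * l (pl i 1 0) = l (pl i 1 0) * n ∧ n * r i = r i * n ∧
    (n * z * n⁻¹ = y ∨ n * z * n⁻¹ = y⁻¹)

/-- the 2-elements of `C(r 0)` centralizing the tangent space at `p` in `a₀ ^ ⊥` -/
def Rs (z : G) (l : V6 → G) (r : Fin 3 → G) (y : G) (p : V5) : Set G :=
  {x | x * r 0 = r 0 * x ∧ x ^ 4 = 1 ∧ ∀ w : V5, w.2.1 0 = 0 → b5 w p = 0 → x * fj z l y w = fj z l y w * x}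

/-- the group `2 ^ (1 + 20)` -/
def Sg (z : G) (l : V6 → G) (r : Fin 3 → G) (y : G) : Subgroup G :=
  closure {x | ∃ p : V5, p ≠ 0 ∧ q5 p = 0 ∧ p.2.1 0 = 0 ∧ x ∈ Rs z l r y p}

/-- the properties of `Sg` -/
structure SD (z : G) (l : V6 → G) (r : Fin 3 → G) (y : G) (J S : Subgroup G) : Prop where
  es : H95.ES S (r 0)
  card : Nat.card S = 2 ^ 21
  nM : ∀ g ∈ normalizer (J : Set G), g * r 0 = r 0 * g → g ∈ normalizer (S : Set G)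
  R0 : Rs z l r y (1, 0, 0) ⊆ S
  cz : ∀ x ∈ S, x * z = z * x → x ∈ Rs z l r y (1, 0, 0)
  czy : ∀ x ∈ S, x * z = z * x → x * y = y * x → x = 1 ∨ x = r 0

/-- `N(S) / S` lies between `U₆(2)` and its automorphism group -/
structure UD (S U : Subgroup G) : Prop where
  le : S ≤ U
  le' : U ≤ normalizer (S : Set G)
  nrm : ∀ g ∈ normalizer (S : Set G), ∀ u ∈ U, g * u * g⁻¹ ∈ U
  iso : ∃ (F : Type) (_ : Field F) (_ : Fintype F), Fintype.card F = 4 ∧ ∃ π : U →* PSU 6 F 2,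
    Function.Surjective π ∧ ∀ c, π c = 1 ↔ (c : G) ∈ S
  cen : ∀ g ∈ normalizer (S : Set G), (∀ u ∈ U, g * u * g⁻¹ * u⁻¹ ∈ S) → g ∈ S
  idx : U.relIndex (normalizer (S : Set G)) ∣ 6

theorem eqns_def : True := by
  have := @q5.eq_1
  have := @b5.eq_1
  have := @pl.eq_1
  have := @Full.eq_1
  have := @Only.eq_1
  have := @fj.eq_1.{0}
  have := @WC.eq_1.{0}
  have := @Dg.eq_1.{0}
  have := @Std.eq_1.{0}
  have := @Rs.eq_1.{0}
  have := @Sg.eq_1.{0}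
  trivial

end H7.E3
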