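import Cfsg.Agent.Lib.ERec.Basic

/-! Involution centralisers between `2^(1+20).U6(2)` and `2^(1+20).U6(2).S3`. -/

set_option autoImplicit false

namespace H7.E3

open Cfsg Subgroup H16 H95 H21.ER

/-- `H = 2^(1+20).U6(2)` is normal in the centraliser of `z`, of index dividing six -/
structure Eg {G : Type*} [Group G] (z : G) (Q H : Subgroup G) (φ : H →* Stab vU)
    (cls : leechLattice → G → Prop) : Prop extends EtH z Q H φ cls where
  hX : ∀ c, (φ c : Co0) • vX = vX
  nrm : ∀ g, g * z = z * g → ∀ h ∈ H, g * h * g⁻¹ ∈ H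
  idx : H.relIndex (centralizer {z}) ∣ 6

end H7.E3
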