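import Cfsg.Agent.Lib.E3L.EDef
import Cfsg.Agent.Lib.ERec.Ext

/-! Extension of the elementwise hypothesis over a 2-subgroup of the centraliser. -/

set_option autoImplicit false
set_option linter.unusedSectionVars false

namespace H7.E3

open Cfsg Subgroup H16 H95 H48.BR H21.ER

variable {G : Type*} [Group G] [Finite G] {z : G} {Q H : Subgroup G} {φ : H →* Stab vU}
  {cls : leechLattice → G → Prop}

namespace Extx

theorem ext (M : EtH z Q H φ cls) (hX : ∀ c, (φ c : Co0) • vX = vX) {K : Subgroup G} (HK : H ≤ K)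
    (le : K ≤ centralizer {z}) (hH : ∀ (c : K) (h : H), (c : G) * h * (c : G)⁻¹ ∈ H)
    (hm : ∀ a b : K, (a : G) ∉ H → (b : G) ∉ H → (a : G) * b ∈ H) :
    ∃ (φ' : K →* Stab vU) (cls' : leechLattice → G → Prop), EtH z Q K φ' cls' ∧
      ∀ c : K, (φ' c : Co0) • vX = vX → (c : G) ∈ H := by
  choose f hf R using fun c : K => M.exists_act hX (mem_cent_iff.1 (le c.2)) (hH c)
  have U : ∀ c, ∀ n ∈ N0, (∀ h : H, (φ ⟨_, hH c h⟩ : Co0) = n * φ h * n⁻¹) → f c = n := fun c n hn e => by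
    refine (inv_mul_eq_one.1 (M.eq_one hX (mul_mem (inv_mem hn) (hf c)) fun g hg => ?_)).symm
    obtain ⟨h, eh⟩ := M.surj ⟨g, hg.1⟩ hg.2
    have a := (R c h).symm.trans (e h)
    rw [eh] at a
    calc n⁻¹ * f c * g * (n⁻¹ * f c)⁻¹ = n⁻¹ * (f c * g * (f c)⁻¹) * n := by group
      _ = g := by rw [a]; group
  let F := MonoidHom.mk' f fun a b => U _ _ (mul_mem (hf a) (hf b)) fun h => by
    have := R a ⟨_, hH b h⟩
    rw [R b h] at this
    rw [show f a * f b * φ h * (f a * f b)⁻¹ = f a * (f b * φ h * (f b)⁻¹) * (f a)⁻¹ by group, ← this]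
    exact congrArg (fun t => (φ t : Co0)) (Subtype.ext (by simp [mul_assoc]))
  have FH : ∀ (c : K) (h : (c : G) ∈ H), F c = φ ⟨c, h⟩ := fun c h =>
    U _ _ (L0_le ⟨(φ _).2, hX _⟩) fun k => congrArg Subtype.val
      (show φ (⟨c, h⟩ * k * (⟨c, h⟩ : H)⁻¹) = φ ⟨c, h⟩ * φ k * (φ ⟨c, h⟩)⁻¹ by rw [map_mul, map_mul, map_inv])
  have FL : ∀ c : K, (c : G) ∈ H → F c ∈ L0 := fun c h => FH c h ▸ ⟨(φ _).2, hX _⟩
  have sm : ∀ (c : K) {v x}, cls v x → cls (F c • v) (c * x * (c : G)⁻¹) :=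
    fun c _ _ a => M.smul0 (hf c) (mem_cent_iff.1 (le c.2)) (fun h => ⟨_, rfl, R c h⟩) a
  obtain ⟨p, hp, fp⟩ : ∃ p ∈ Tri3, ∀ c, F c • p = p := by
    by_cases e : ∀ c : K, (c : G) ∈ H
    · exact ⟨_, U_mem, fun c => (FL c (e c)).1⟩
    obtain ⟨t, ht⟩ := not_forall.1 e
    obtain ⟨p, hp, a⟩ := exists_fix (hf t) (map_mul F t t ▸ FL _ (hm t t ht ht))
    refine ⟨p, hp, fun c => ?_⟩
    by_cases d : (c : G) ∈ H
    · exact fix_Tri3 (FL c d) hp
    · have := fix_Tri3 (FL (t⁻¹ * c) (hm t⁻¹ c (fun b => ht (inv_mem_iff.1 b)) d)) hp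
      rw [map_mul, map_inv, mul_smul, inv_smul_eq_iff] at this
      exact this.trans a
  obtain ⟨k, hk, rfl⟩ := exists_to_U hp
  let ψ : K →* Stab vU := ((MulAut.conj k⁻¹).toMonoidHom.comp F).codRestrict _ fun c => by
    change (k⁻¹ * F c * k⁻¹⁻¹) • vU = vU
    rw [inv_inv, mul_smul, mul_smul, fp, inv_smul_smul]
  have hψ : ∀ c, (ψ c : Co0) = k⁻¹ * F c * k⁻¹⁻¹ := fun _ => rfl
  have kr : ∀ c, F c = 1 → (c : G) ∈ Q := fun c e => M.h.mem_of_trivial fun x hx => by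
    obtain ⟨v, hv⟩ := M.ex_cls x hx
    have a := sm c hv
    rw [e, one_smul] at a
    exact (M.eq_iff hv a).1 (Cw.refl v)
  refine ⟨ψ, _, M.tw hk (c := 1) (by simp) le (M.le'.trans HK)
    (fun c => sw_of (mul_mem (mul_mem (inv_mem hk) (hf c)) (inv_mem (inv_mem hk)))) (fun γ hγ => ?_)
    (fun c => ⟨fun e => kr c ?_, fun e => Subtype.ext ?_⟩) fun c a => ?_, fun c e => ?_⟩
  · have m := conj_L0 hk (g := γ) ⟨γ.2, hγ⟩
    obtain ⟨h, e⟩ := M.surj ⟨_, m.1⟩ m.2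
    refine ⟨⟨h, HK h.2⟩, Subtype.ext ?_⟩
    rw [hψ, FH _ h.2, e]
    simp [mul_assoc]
  · exact conj_eq_one_iff.1 ((hψ c).symm.trans (congrArg Subtype.val e))
  · rw [hψ, FH c (M.le' e), (M.ker _).2 e]
    simp
  · have := sm c a
    rw [hψ, inv_inv, mul_smul, mul_smul, smul_inv_smul]
    simpa using this
  · have m := conj_L0 hk (g := ψ c) ⟨(ψ c).2, e⟩
    rw [hψ, show k * (k⁻¹ * F c * k⁻¹⁻¹) * k⁻¹ = F c by group] at m
    obtain ⟨h, eh⟩ := M.surj ⟨_, m.1⟩ m.2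
    have q := kr (c * (⟨h, HK h.2⟩ : K)⁻¹) (by
      rw [map_mul, map_inv, FH ⟨h, HK h.2⟩ h.2, mul_inv_eq_one]
      exact (congrArg Subtype.val eh).symm)
    exact (mul_mem_cancel_right (inv_mem h.2)).1 (M.le' q)

theorem mul_eq_one_of {A : Type*} [Group A] [Finite A] (h4 : ∀ a : A, a ^ 4 = 1) (h6 : Nat.card A ∣ 6) {a b : A}
    (ha : a ≠ 1) (hb : b ≠ 1) : a * b = 1 := by
  have : Fact (Nat.Prime 2) := ⟨Nat.prime_two⟩
  obtain ⟨n, hn⟩ := (IsPGroup.iff_card (p := 2) (G := A)).1 fun a => ⟨2, h4 a⟩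
  have c : Nat.card A = 2 := by
    rw [hn] at h6 ⊢
    match n, hn, h6 with
    | 0, hn, _ => exact absurd ((Nat.card_eq_one_iff_unique.1 hn).1.elim a 1) ha
    | 1, _, _ => rfl
    | n + 2, _, h6 => exact absurd ((pow_dvd_pow 2 (by omega : 2 ≤ n + 2)).trans h6) (by decide)
  obtain ⟨y, -, hy⟩ := (Nat.card_eq_two_iff' (1 : A)).1 c
  by_contra e
  exact hb (mul_eq_left.1 ((hy _ e).trans (hy _ ha).symm))

end Extx

theorem Eg.ext (M : Eg z Q H φ cls) {R : Subgroup G} (hR : ∀ x ∈ R, x * z = z * x ∧ x ^ 4 = 1) :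
    ∃ (H' : Subgroup G) (φ' : H' →* Stab vU) (cls' : leechLattice → G → Prop), EtH z Q H' φ' cls' ∧ R ≤ H' ∧
      ∀ c : H', (φ' c : Co0) • vX = vX → (c : G) ∈ H := by
  let C := centralizer ({z} : Set G)
  have : (H.subgroupOf C).Normal := ⟨fun h hh g => M.nrm g (mem_cent_iff.1 g.2) h hh⟩
  let π := QuotientGroup.mk' (H.subgroupOf C)
  let A := (R.subgroupOf C).map π
  have k1 : ∀ c : C, π c = 1 ↔ (c : G) ∈ H := fun c => QuotientGroup.eq_one_iff c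
  have le : (A.comap π).map C.subtype ≤ C := map_subtype_le _
  obtain ⟨φ', cls', M', e⟩ := Extx.ext M.toEtH M.hX (K := (A.comap π).map C.subtype)
    (fun h hh => ⟨⟨h, M.le hh⟩, by rw [SetLike.mem_coe, mem_comap, (k1 _).2 hh]; exact one_mem _, rfl⟩) le
    (fun c h => M.nrm c (mem_cent_iff.1 (le c.2)) h h.2) (by
      rintro ⟨_, a, ha, rfl⟩ ⟨_, b, hb, rfl⟩ na nb
      refine (k1 (a * b)).1 ?_
      rw [map_mul]
      refine congrArg Subtype.val (Extx.mul_eq_one_of (A := A) ?_ ((card_subgroup_dvd_card A).trans M.idx)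
        (a := ⟨_, ha⟩) (b := ⟨_, hb⟩) (fun e => na ((k1 a).1 (congrArg Subtype.val e)))
        fun e => nb ((k1 b).1 (congrArg Subtype.val e)))
      rintro ⟨_, x, hx, rfl⟩
      refine Subtype.ext ?_
      change π x ^ 4 = 1
      rw [← map_pow, show x ^ 4 = 1 from Subtype.ext (hR x hx).2, map_one])
  exact ⟨_, φ', cls', M', fun x hx => ⟨⟨x, mem_cent_iff.2 (hR x hx).1⟩, ⟨_, hx, rfl⟩, rfl⟩, e⟩

end H7.E3
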