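import Cfsg.Agent.Lib.E3L.Bas
import Cfsg.Agent.Lib.F3L.Ini

set_option autoImplicit false
set_option linter.unusedSectionVars false
set_option synthInstance.maxSize 2000

namespace H7.E3

open Subgroup Cfsg H7.F3
open H87.U6 (F3 f3_cases pw_add pw_zero pw_one pw_two pw_neg pw_mul pw_inj mem_zp cj_pw cm_cj)

variable {G : Type*} [Group G] [Finite G] {z y : G} {l l' : V6 → G} {r r' : Fin 3 → G} {J S : Subgroup G}

namespace Inx

open Ini

abbrev T := QuaternionGroup 2 × QuaternionGroup 2 × QuaternionGroup 2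

variable {X : Type*} [Group X]

structure Hq (z : X) (Q : Subgroup X) : Prop where
  z3 : z ^ 3 = 1
  z1 : z ≠ 1
  zc : ∀ g, g * z = z * g
  nQ : Q.Normal
  cQ : ∀ g, (∀ q ∈ Q, g * q = q * g) → g ∈ zpowers z
  cm : ∀ a ∈ Q, Tr z a Q
  card : Nat.card Q = 3 ^ 7
  zQ : z ∈ Q

structure Hz (z : X) (Q : Subgroup X) (K : Fin 3 → Subgroup X) (r : Fin 3 → X) : Prop extends Hq z Q where
  le : ∀ i, K i ≤ Q
  zK : ∀ i, z ∈ K i
  nab : ∀ i, ∃ a ∈ K i, ∃ b ∈ K i, a * b ≠ b * a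
  r2 : ∀ i, r i * r i = 1
  rc : ∀ i j, r i * r j = r j * r i
  ri : ∀ i, Iv z (r i) (K i)
  rt : ∀ i j, j ≠ i → Tr z (r i) (K j)

def U (e : Fin 2 × Fin 2 × Fin 2) : T :=
  (.a 2, 1, 1) ^ e.1.val * (1, .a 2, 1) ^ e.2.1.val * (1, 1, .a 2) ^ e.2.2.val

def pr (χ : ℤˣ × ℤˣ × ℤˣ) (e : Fin 2 × Fin 2 × Fin 2) : ℤˣ := χ.1 ^ e.1.val * χ.2.1 ^ e.2.1.val * χ.2.2 ^ e.2.2.val

theorem cen {u : T} (h : u * u = 1) (v : T) : v * u = u * v :=
  have k : ∀ a b : QuaternionGroup 2, a * a = 1 → b * a = a * b := by decide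
  Prod.ext (k _ _ (congrArg (·.1) h)) (Prod.ext (k _ _ (congrArg (·.2.1) h)) (k _ _ (congrArg (·.2.2) h)))

namespace Hq

variable {z : X} {Q : Subgroup X} (h : Hq z Q)
include h

theorem cc {r a b : X} (ha : a ∈ Q) (hb : b ∈ Q) (e1 : r * a * r⁻¹ * a ∈ zpowers z)
    (e2 : r * b * r⁻¹ * b⁻¹ ∈ zpowers z) : a * b = b * a := by
  obtain ⟨i, e1⟩ := (mem_zp h.z3).1 e1
  obtain ⟨j, e2⟩ := (mem_zp h.z3).1 e2
  obtain ⟨k, e⟩ := (mem_zp h.z3).1 (h.cm a ha b hb)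
  have c : ∀ n : ℕ, ∀ g, Commute (z ^ n) g := fun n g => (cz (h.zc g) n).symm
  have e3 : r * (a * b * a⁻¹ * b⁻¹) * r⁻¹ = a⁻¹ * (a * b * a⁻¹ * b⁻¹)⁻¹ * a := by
    calc _ = r * a * r⁻¹ * a * (a⁻¹ * (r * b * r⁻¹ * b⁻¹) * b * a) * (r * a * r⁻¹ * a)⁻¹ * b⁻¹ *
          (r * b * r⁻¹ * b⁻¹)⁻¹ := by group
      _ = z ^ j.val * (a⁻¹ * b * a * b⁻¹) * (z ^ j.val)⁻¹ := by
        rw [e1, e2, cm_cj.1 (c _ _).eq, ← (c _ _).eq]; group
      _ = _ := by rw [cm_cj.1 (c _ _).eq]; group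
  rw [e, cjz (h.zc r), mul_assoc, (c _ _).inv_left.eq, inv_mul_cancel_left, eq_inv_iff_mul_eq_one, ← pw_add h.z3] at e3
  rw [(by decide : ∀ k : F3, k + k = 0 → k = 0) k (pw_inj h.z3 h.z1 e3), pw_zero] at e
  exact cm_cj.2 (mul_inv_eq_one.1 e)

variable [(zpowers z).Normal]

theorem comm {a b : X} (ha : a ∈ Q) (hb : b ∈ Q) : Commute (a : X ⧸ zpowers z) b :=
  commutatorElement_eq_one_iff_commute.1 ((QuotientGroup.eq_one_iff _).2 (h.cm a ha b hb))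

/-- the eigenspace of `s` -/
def eg (s : X) (c : ℤˣ) : Subgroup X where
  carrier := {q | q ∈ Q ∧ (s : X ⧸ zpowers z) * q * (s : X ⧸ zpowers z)⁻¹ = (q : X ⧸ zpowers z) ^ (c : ℤ)}
  one_mem' := ⟨one_mem _, by simp⟩
  mul_mem' ha hb := ⟨mul_mem ha.1 hb.1, by
    rw [QuotientGroup.mk_mul, ← conj_mul, ha.2, hb.2, (h.comm ha.1 hb.1).mul_zpow]⟩
  inv_mem' ha := ⟨inv_mem ha.1, by rw [QuotientGroup.mk_inv, ← conj_inv, ha.2, inv_zpow]⟩

variable {s s' q : X} {c c' : ℤˣ}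

theorem zle : zpowers z ≤ h.eg s c :=
  zpowers_le.2 ⟨h.zQ, by rw [(QuotientGroup.eq_one_iff z).2 (mem_zpowers z)]; simp⟩

theorem tr (e : q ∈ h.eg s 1) : s * q * s⁻¹ * q⁻¹ ∈ zpowers z :=
  (QuotientGroup.eq_one_iff _).1 (mul_inv_eq_one.2 (e.2.trans (zpow_one _)))

theorem iv (e : q ∈ h.eg s (-1)) : s * q * s⁻¹ * q ∈ zpowers z :=
  (QuotientGroup.eq_one_iff _).1 (mul_eq_one_iff_eq_inv.2 (e.2.trans (zpow_neg_one _)))

theorem eg_mul (a : q ∈ h.eg s c) (b : q ∈ h.eg s' c') : q ∈ h.eg (s * s') (c * c') := ⟨a.1, by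
  rw [Units.val_mul, zpow_mul, ← a.2, conj_zpow, ← b.2, QuotientGroup.mk_mul]; group⟩

theorem eg_pow (a : q ∈ h.eg s c) : ∀ n : ℕ, q ∈ h.eg (s ^ n) (c ^ n)
  | 0 => ⟨a.1, by simp⟩
  | n + 1 => by rw [pow_succ, pow_succ]; exact h.eg_mul (eg_pow a n) a

theorem eg_cj (e : s * s' = s' * s) (a : q ∈ h.eg s c) : s' * q * s'⁻¹ ∈ h.eg s c := ⟨h.nQ.1 _ a.1 _, by
  have := congrArg (QuotientGroup.mk (s := zpowers z)) e
  simp only [QuotientGroup.mk_mul, QuotientGroup.mk_inv] at this ⊢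
  rw [conj_zpow, ← a.2, ← mul_assoc, ← mul_assoc, this, mul_assoc _ _ _⁻¹, ← mul_inv_rev, this]
  group⟩

theorem split (s2 : s * s = 1) {A S : Subgroup X} (hA : A ≤ Q) (zA : z ∈ A) (n : ∀ q ∈ A, s * q * s⁻¹ ∈ A)
    (hS : ∀ c, A ⊓ h.eg s c ≤ S) : A ≤ S := fun q hq => by
  have c := h.comm (hA hq) (hA (n q hq))
  have e : (s : X ⧸ zpowers z) * (s * q * s⁻¹ : X) * (s : X ⧸ zpowers z)⁻¹ = q := by
    rw [← QuotientGroup.mk_inv, ← QuotientGroup.mk_mul, ← QuotientGroup.mk_mul,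
      show s * (s * q * s⁻¹) * s⁻¹ = s * s * q * (s * s)⁻¹ by group, s2]; simp
  have a := mul_mem hq (n q hq)
  have b := mul_mem hq (inv_mem (n q hq))
  have a' := hS 1 ⟨a, hA a, by
    rw [QuotientGroup.mk_mul, ← conj_mul, e, Units.val_one, zpow_one]; exact c.eq.symm⟩
  have b' := hS (-1) ⟨b, hA b, by
    rw [QuotientGroup.mk_mul, QuotientGroup.mk_inv, ← conj_mul, ← conj_inv, e, Units.val_neg, Units.val_one,
      zpow_neg_one, mul_inv_rev, inv_inv]; rfl⟩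
  refine (mul_mem_cancel_left (mul_mem a' b')).1 (zpowers_le.2 (hS 1 ⟨zA, h.zle (mem_zpowers z)⟩)
    ((QuotientGroup.eq_one_iff _).1 ?_))
  change (q : X ⧸ zpowers z) * (s * q * s⁻¹ : X) * (q * ((s * q * s⁻¹ : X) : X ⧸ zpowers z)⁻¹) * q = 1
  rw [← mul_assoc _ (q : X ⧸ zpowers z), mul_assoc (q : X ⧸ zpowers z), ← c.eq, ← mul_assoc, mul_inv_cancel_right, ← pow_three',
    ← QuotientGroup.mk_pow, QuotientGroup.eq_one_iff]
  exact h.cQ _ fun y hy => cube h.z3 h.zc (h.cm q (hA hq) y hy)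

theorem exists_K (θ : T →* X) (hθ : ∀ u, θ u ∈ Q → u = 1) :
    ∃ (K : Fin 3 → Subgroup X) (u : Fin 3 → T), (∀ i, u i * u i = 1) ∧ Hz z Q K fun i => θ (u i) := by
  let K : ℤˣ × ℤˣ × ℤˣ → Subgroup X := fun χ =>
    Q ⊓ h.eg (θ (.a 2, 1, 1)) χ.1 ⊓ h.eg (θ (1, .a 2, 1)) χ.2.1 ⊓ h.eg (θ (1, 1, .a 2)) χ.2.2
  have zK : ∀ χ, zpowers z ≤ K χ := fun χ => le_inf (le_inf (le_inf (zpowers_le.2 h.zQ) h.zle) h.zle) h.zle
  have act : ∀ χ e, K χ ≤ h.eg (θ (U e)) (pr χ e) := fun χ e q hq => by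
    rw [U, map_mul, map_mul, map_pow, map_pow, map_pow]
    exact h.eg_mul (h.eg_mul (h.eg_pow hq.1.1.2 _) (h.eg_pow hq.1.2 _)) (h.eg_pow hq.2 _)
  have sq : ∀ {u : T}, u * u = 1 → θ u * θ u = 1 := fun e => by rw [← map_mul, e, map_one]
  have cm : ∀ {u : T}, u * u = 1 → ∀ v, θ v * θ u = θ u * θ v := fun e v => by rw [← map_mul, cen e, map_mul]
  have z0 := mem_zpowers z
  have gen : ∀ S, (∀ χ, K χ ≤ S) → Q ≤ S := fun S hS =>
    h.split (sq (u := (.a 2, 1, 1)) (by decide)) le_rfl h.zQ (fun q hq => h.nQ.1 q hq _) fun a =>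
      h.split (sq (u := (1, .a 2, 1)) (by decide)) inf_le_left ⟨h.zQ, h.zle z0⟩
        (fun q hq => ⟨h.nQ.1 q hq.1 _, h.eg_cj (cm (by decide) _) hq.2⟩) fun b =>
        h.split (sq (u := (1, 1, .a 2)) (by decide)) (inf_le_left.trans inf_le_left) ⟨⟨h.zQ, h.zle z0⟩, h.zle z0⟩
          (fun q hq => ⟨⟨h.nQ.1 q hq.1.1 _, h.eg_cj (cm (by decide) _) hq.1.2⟩, h.eg_cj (cm (by decide) _) hq.2⟩)
          fun c => hS (a, b, c)
  have U2 : ∀ e, U e * U e = 1 := by decide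
  have ft : ∀ e, e ≠ 0 → ∃ χ, pr χ e = -1 ∧ ∃ a ∈ K χ, ∃ b ∈ K χ, a * b ≠ b * a := fun e e0 => by
    by_contra! n
    refine e0 ((by decide : ∀ e, U e = 1 → e = 0) e (hθ _ (zpowers_le.2 h.zQ (h.cQ _ fun q hq =>
      inv_fix h.z3 h.zc (sq (U2 e)) (h.tr (gen _ (fun χ => ?_) hq))))))
    rcases Int.units_eq_one_or (pr χ e) with k | k
    · exact k ▸ act χ e
    refine fun a ha => h.zle (h.cQ a fun q hq => (mem_centralizer_singleton_iff.1 (gen _ (fun ψ b hb =>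
      mem_centralizer_singleton_iff.2 ?_) hq)).symm)
    rcases (by decide : ∀ χ ψ, χ = ψ ∨ ∃ e, pr χ e = -1 ∧ pr ψ e = 1 ∨ pr χ e = 1 ∧ pr ψ e = -1) χ ψ with
      rfl | ⟨f, k1 | k1⟩
    · exact n χ k b hb a ha
    · exact (h.cc ha.1.1.1 hb.1.1.1 (h.iv (k1.1 ▸ act χ f ha)) (h.tr (k1.2 ▸ act ψ f hb))).symm
    · exact h.cc hb.1.1.1 ha.1.1.1 (h.iv (k1.2 ▸ act ψ f hb)) (h.tr (k1.1 ▸ act χ f ha))
  obtain ⟨χ0, a0, b0⟩ := ft (1, 0, 0) (by decide)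
  have k := (by decide +kernel : ∀ χ ψ, ∃ e, e ≠ 0 ∧ pr χ e = 1 ∧ pr ψ e = 1)
  obtain ⟨e1, n1, p1, -⟩ := k χ0 χ0
  obtain ⟨χ1, a1, b1⟩ := ft e1 n1
  obtain ⟨e2, n2, p2⟩ := k χ0 χ1
  obtain ⟨χ2, a2, b2⟩ := ft e2 n2
  choose f hf using (by decide +kernel : ∀ χ0 χ1 χ2, (∃ e, pr χ0 e = -1) → (∃ e, pr χ0 e = 1 ∧ pr χ1 e = -1) →
    (∃ e, (pr χ0 e = 1 ∧ pr χ1 e = 1) ∧ pr χ2 e = -1) → ∀ i : Fin 3, ∃ f, ∀ j,
      pr (![χ0, χ1, χ2] j) f = if j = i then -1 else 1) χ0 χ1 χ2 ⟨_, a0⟩ ⟨_, p1, a1⟩ ⟨_, p2, a2⟩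
  exact ⟨fun i => K (![χ0, χ1, χ2] i), fun i => U (f i), fun i => U2 _, h, fun i q hq => hq.1.1.1,
    fun i => zK _ z0, fun i => by fin_cases i; exacts [b0, b1, b2], fun i => sq (U2 _), fun i j => cm (U2 _) _,
    fun i q hq => h.iv (((hf i i).trans (if_pos rfl)) ▸ act _ _ hq),
    fun i j ji q hq => h.tr (((hf i j).trans (if_neg ji)) ▸ act _ _ hq)⟩

end Hq

namespace Hz

variable {z : X} {Q : Subgroup X} {K : Fin 3 → Subgroup X} {r : Fin 3 → X} (h : Hz z Q K r)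
include h

theorem cc (i j : Fin 3) (ij : i ≠ j) (a : X) (ha : a ∈ K i) (b : X) (hb : b ∈ K j) : a * b = b * a :=
  h.toHq.cc (h.le i ha) (h.le j hb) (h.ri i a ha) (h.rt i j ij.symm b hb)

theorem exists_ab (i : Fin 3) : ∃ a ∈ K i, ∃ b ∈ K i, a ^ 3 = 1 ∧ b ^ 3 = 1 ∧
    r i * a * (r i)⁻¹ = a⁻¹ ∧ r i * b * (r i)⁻¹ = b⁻¹ ∧ b * a = a * b * z := by
  have c3 : ∀ a ∈ K i, r i * a * (r i)⁻¹ = a⁻¹ → a ^ 3 = 1 := fun a ha ra => by
    obtain ⟨k, e3⟩ := (mem_zp h.z3).1 (h.cQ _ fun q hq => cube h.z3 h.zc (h.cm a (h.le i ha) q hq))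
    have := cj_pw ra 3
    rw [inv_pow, e3, cjz (h.zc _), eq_inv_iff_mul_eq_one, ← pw_add h.z3] at this
    rw [e3, (by decide : ∀ k : F3, k + k = 0 → k = 0) k (pw_inj h.z3 h.z1 this), pw_zero]
  obtain ⟨a, ha, b, hb, n⟩ := h.nab i
  obtain ⟨k, ra⟩ := inv_adj h.z3 h.zc (h.ri i a ha)
  obtain ⟨m, rb⟩ := inv_adj h.z3 h.zc (h.ri i b hb)
  have ha' := mul_mem ha (pow_mem (h.zK i) k)
  have hb' := mul_mem hb (pow_mem (h.zK i) m)
  have n' : a * z ^ k * (b * z ^ m) ≠ b * z ^ m * (a * z ^ k) := fun e => n <| by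
    have f : ∀ (x y : X) (k m : ℕ), x * z ^ k * (y * z ^ m) = x * y * z ^ (k + m) := fun x y k m => by
      rw [pow_add, mul_assoc x, ← mul_assoc (z ^ k), ← cz (h.zc y)]; simp only [mul_assoc]
    rw [f, f, add_comm m] at e
    exact mul_right_cancel e
  generalize a * z ^ k = a at *
  generalize b * z ^ m = b at *
  obtain ⟨c, ec⟩ := (mem_zp h.z3).1 (h.cm b (h.le i hb') a (h.le i ha'))
  have ec' : b * a = a * b * z ^ c.val := by rw [cz (h.zc _), ← ec]; group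
  rcases f3_cases c with rfl | rfl | rfl
  · exact absurd (by rw [ec', pw_zero, mul_one]) n'
  · exact ⟨a, ha', b, hb', c3 a ha' ra, c3 b hb' rb, ra, rb, by rw [ec', pw_one]⟩
  · exact ⟨b, hb', a, ha', c3 b hb' rb, c3 a ha' ra, rb, ra, by rw [ec', pw_two h.z3]; simp⟩

theorem exists_a0 : ∃ l : V6 → X, A0 b6 z l (r 0 * r 1 * r 2) ∧ Qs z l = Q ∧
    ∀ i v, r i * l v * (r i)⁻¹ = l (ng i v) := by
  choose a ha b hb a3 b3 ra rb ab using h.exists_ab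
  have rc := h.rc
  have r2 := h.r2
  let m : Fin 3 → V6 → X := fun i v => hm z (a i) (b i) (v.1 i) (v.2 i)
  have mK : ∀ i v, m i v ∈ K i := fun i v =>
    mul_mem (mul_mem (pow_mem (ha i) _) (pow_mem (hb i) _)) (pow_mem (h.zK i) _)
  have m0 : ∀ i v, v.1 i = 0 → v.2 i = 0 → m i v = 1 := fun i v e1 e2 => by simp [m, hm, e1, e2]
  let l : V6 → X := fun v => m 0 v * m 1 v * m 2 v
  have lQ' : ∀ v, l v ∈ Q := fun v => mul_mem (mul_mem (h.le _ (mK _ _)) (h.le _ (mK _ _))) (h.le _ (mK _ _))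
  have rm : ∀ i j v, r i * m j v * (r i)⁻¹ = m j (ng i v) := fun i j v => by
    by_cases e : j = i
    · subst e
      simpa [m, ng, sg] using hm_inv h.zc (a3 j) (b3 j) (ra j) (rb j) (v.1 j) (v.2 j)
    · rw [cm_cj.1 (inv_fix h.z3 h.zc (h.r2 i) (h.rt i j e _ (mK j v)))]
      simp [m, ng, sg, e]
  have rl : ∀ i v, r i * l v * (r i)⁻¹ = l (ng i v) := fun i v => by
    simp only [l, ← rm]; group
  have lm : ∀ u v, l u * l v = l (u + v) * z ^ (b6 u v).val := fun u v => by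
    have e : ∀ i, m i u * m i v = m i (u + v) * z ^ (u.1 i * v.2 i - u.2 i * v.1 i).val := fun i =>
      hm_mul h.z3 h.zc (a3 i) (b3 i) (ab i) _ _ _ _
    calc l u * l v = m 0 u * (m 1 u * (m 2 u * m 0 v)) * m 1 v * m 2 v := by simp only [l, mul_assoc]
      _ = m 0 u * m 0 v * (m 1 u * (m 2 u * m 1 v) * m 2 v) := by
        rw [h.cc 2 0 (by decide) _ (mK _ _) _ (mK _ _), ← mul_assoc (m 1 u),
          h.cc 1 0 (by decide) _ (mK _ _) _ (mK _ _)]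
        simp only [mul_assoc]
      _ = m 0 u * m 0 v * (m 1 u * m 1 v * (m 2 u * m 2 v)) := by
        rw [h.cc 2 1 (by decide) _ (mK _ _) _ (mK _ _)]; simp only [mul_assoc]
      _ = _ := by
        rw [e, e, e, b6_eq, pw_add h.z3, pw_add h.z3]
        simp only [l, mul_assoc]
        rw [← mul_assoc (z ^ _) (m 1 _), ← cz (h.zc _), ← mul_assoc (z ^ _) (m 2 _), ← cz (h.zc _)]
        simp only [mul_assoc]
        rw [← mul_assoc (z ^ _) (m 2 _), ← cz (h.zc _)]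
        simp only [mul_assoc]
  have li : ∀ v, l v ∈ zpowers z → v = 0 := fun v hv => sy6.nd v fun u => by
    obtain ⟨k, e⟩ := (mem_zp h.z3).1 hv
    have e1 : l v * l u = l u * l v := by rw [e, cz (h.zc _)]
    rw [lm, lm, add_comm, mul_right_inj, sy6.skew u] at e1
    exact (by decide : ∀ k : F3, k = -k → k = 0) _ (H87.U6.IB.pw_eq h.z3 h.z1 e1)
  have l0 : l 0 = 1 := by simp [l, m0]
  have sur : ∀ q ∈ Q, ∃ w, ∃ k : F3, q = l w * z ^ k.val := fun q hq => by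
    haveI : Finite Q := Nat.finite_of_card_ne_zero (by rw [h.card]; norm_num)
    let f : V6 × F3 → Q := fun x => ⟨l x.1 * z ^ x.2.val, mul_mem (lQ' _) (pow_mem h.zQ _)⟩
    have inj : Function.Injective f := by
      rintro ⟨u, k⟩ ⟨v, n⟩ e
      have e : l u * z ^ k.val = l v * z ^ n.val := congrArg Subtype.val e
      obtain rfl : u = v := by
        have e1 : l (-v) * l u * z ^ k.val = l (-v) * l v * z ^ n.val := by rw [mul_assoc, e, mul_assoc (l (-v))]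
        rw [lm, lm, neg_add_cancel, l0, one_mul, mul_assoc, ← eq_mul_inv_iff_mul_eq] at e1
        have p := fun n : ℕ => pow_mem (mem_zpowers z) n
        exact (neg_add_eq_zero.1 (li _ (e1 ▸ mul_mem (mul_mem (p _) (p _)) (inv_mem (mul_mem (p _) (p _)))))).symm
      rw [H87.U6.IB.pw_eq h.z3 h.z1 (mul_left_cancel e)]
    obtain ⟨x, e⟩ := (inj.bijective_of_nat_card_le (by rw [h.card, Nat.card_prod, card_V6]; simp)).2 ⟨q, hq⟩
    exact ⟨x.1, x.2, (congrArg Subtype.val e).symm⟩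
  refine ⟨l, ⟨sy6, h.z3, h.z1, fun v => h.zc _, lm, li, fun g _ v => sur _ (h.nQ.1 _ (lQ' v) g),
    fun g _ e => h.cQ g fun q hq => ?_, ?_, h.zc _, fun v => ?_⟩, le_antisymm ((closure_le _).2 ?_) fun q hq => ?_, rl⟩
  · obtain ⟨w, k, rfl⟩ := sur q hq
    rw [← mul_assoc, e, mul_assoc, cz (h.zc g), mul_assoc (l w)]
  · calc _ = r 0 * (r 1 * (r 2 * r 0)) * r 1 * r 2 := by simp only [mul_assoc]
      _ = r 0 * r 0 * (r 1 * (r 2 * r 1) * r 2) := by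
        rw [rc 2 0, ← mul_assoc (r 1), rc 1 0]; simp only [mul_assoc]
      _ = 1 := by rw [rc 2 1, ← mul_assoc (r 1), r2, r2, one_mul, one_mul, r2]
  · calc _ = r 0 * (r 1 * (r 2 * l v * (r 2)⁻¹) * (r 1)⁻¹) * (r 0)⁻¹ := by group
      _ = _ := by rw [rl, rl, rl, ngs]
  · rintro _ (rfl | ⟨v, rfl⟩)
    exacts [h.zQ, lQ' v]
  · obtain ⟨w, k, rfl⟩ := sur q hq
    exact qQ w k

end Hz

theorem exists_e0 {z : X} {Q : Subgroup X} [Q.Normal] (h : Hq z Q) (θ : T →* X)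
    (inj : Function.Injective ((QuotientGroup.mk' Q).comp θ))
    (nP : ∀ (g : X) u, ∃ u', (θ u' : X ⧸ Q) = (g * θ u * g⁻¹ : X)) : ∃ l r, E0 z l r ∧ Qs z l = Q := by
  haveI : (zpowers z).Normal := ⟨fun n hn g => by
    obtain ⟨k, rfl⟩ := (mem_zp h.z3).1 hn
    rw [cjz (h.zc g)]; exact hn⟩
  have hθ : ∀ u, θ u ∈ Q → u = 1 := fun u e => (injective_iff_map_eq_one _).1 inj u ((QuotientGroup.eq_one_iff _).2 e)
  obtain ⟨K, u, u2, k⟩ := h.exists_K θ hθ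
  obtain ⟨l, A, eQ, rl⟩ := k.exists_a0
  have rc : ∀ v j, θ v * θ (u j) = θ (u j) * θ v := fun v j => by rw [← map_mul, cen (u2 j), map_mul]
  have rt : ∀ v, θ v * (θ (u 0) * θ (u 1) * θ (u 2)) = θ (u 0) * θ (u 1) * θ (u 2) * θ v := fun v =>
    ((Commute.mul_right (rc v 0) (rc v 1)).mul_right (rc v 2)).eq
  have er : ∀ i, Ex z l (θ (u 0) * θ (u 1) * θ (u 2)) (θ (u i)) (ng i) := fun i => ⟨h.zc _, rt _, rl i⟩
  have t4 : ∀ v, θ v ^ 4 = 1 := fun v => by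
    have : ∀ a : QuaternionGroup 2, a ^ 4 = 1 := by decide
    rw [← map_pow, show v ^ 4 = 1 from Prod.ext (this _) (Prod.ext (this _) (this _)), map_one]
  have eR : ∀ v, ∃ m : Mx, m.det1 ∧ m.q8 ∧ Ex z l (θ (u 0) * θ (u 1) * θ (u 2)) (θ v) m.ap := fun v => by
    obtain ⟨φ, a⟩ := A.exists_ac (h.zc (θ v))
    obtain ⟨m, d, e⟩ := mono (A.ac_add a) (A.ac_be a) 1 fun i j ij w hw => by
      have e := A.ac_uniq (rc v j ▸ A.ac_mul a (er j).ac) (A.ac_mul (er j).ac a) w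
      rw [ng_fix (j := j) hw (Ne.symm ij)] at e
      have d := (by decide : ∀ k : F3, k = -1 * k → k = 0)
      exact ⟨d _ (by simpa [ng, sg] using congrFun (congrArg Prod.fst e) j),
        d _ (by simpa [ng, sg] using congrFun (congrArg Prod.snd e) j)⟩
    have b : Ac z l (θ v) m.ap := a.congr e
    exact ⟨m, d, q8_four d (A.ac_uniq (A.ac_pow b 4) (t4 v ▸ A.ac_one)), A.ex_of_ac b (rt v)⟩
  refine ⟨l, _, ⟨A, k.r2, er, fun g _ => ?_, fun m d q => ?_⟩, eQ⟩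
  · obtain ⟨φ, a⟩ := A.exists_ac (h.zc g)
    have key : ∀ i, ∃ ε : X3, ∀ v, φ (ng i v) = (ε * (φ v).1, ε * (φ v).2) := fun i => by
      obtain ⟨v, e⟩ := nP g (u i)
      have v2 : v * v = 1 := inj (by
        rw [map_mul, map_one]
        exact (congrArg₂ _ e e).trans (by rw [← QuotientGroup.mk_mul, conj_mul, k.r2]; simp))
      obtain ⟨m, d, -, b⟩ := eR v
      have c := A.ac_mul (A.ac_mul b.ac (A.ac_Q (eQ ▸ QuotientGroup.eq.1 e))) a
      rw [mul_inv_cancel_left, inv_mul_cancel_right] at c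
      have m2 : m.mul m = ⟨1, 0, 0, 1⟩ := Mx.eq_of_ap fun w => by
        rw [Mx.ap_mul, one_ap]
        exact A.ac_uniq (b.mul b).ac (by rw [← map_mul, v2, map_one]; exact A.ac_one) w
      have m3 := fun j => (by decide +kernel : ∀ a b c d : F3, a * d - b * c = 1 → a * a + b * c = 1 →
        a * b + b * d = 0 → c * a + d * c = 0 → b = 0 ∧ c = 0 ∧ d = a) _ _ _ _ (d j)
        (congrFun (congrArg Mx.a m2) j) (congrFun (congrArg Mx.b m2) j) (congrFun (congrArg Mx.c m2) j)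
      refine ⟨m.a, fun w => (A.ac_uniq (A.ac_mul a (er i).ac) c w).trans ?_⟩
      ext j <;> simp [Mx.ap, m3 j]
    choose ε hε using key
    obtain ⟨π, hπ⟩ := perm hε (add_neg' (A.ac_add a)) fun v e => A.ac_inj a (e.trans (add_zero' (A.ac_add a)).symm)
    obtain ⟨m, d, e⟩ := mono (A.ac_add a) (A.ac_be a) π hπ
    exact ⟨π, m, d, a.congr e⟩
  · choose M d' q' e using eR
    let S := {p : F3 × F3 × F3 × F3 // p.1 * p.2.2.2 - p.2.1 * p.2.2.1 = 1 ∧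
      (p.1 + p.2.2.2 = 0 ∨ (p.2.1 = 0 ∧ p.2.2.1 = 0))}
    have key : ∀ {m n : Mx}, (∀ i, (m.a i, m.b i, m.c i, m.d i) = (n.a i, n.b i, n.c i, n.d i)) → m = n := fun e =>
      Mx.ext (funext fun i => congrArg (·.1) (e i)) (funext fun i => congrArg (·.2.1) (e i))
        (funext fun i => congrArg (·.2.2.1) (e i)) (funext fun i => congrArg (·.2.2.2) (e i))
    let F : T → Fin 3 → S := fun v i => ⟨((M v).a i, (M v).b i, (M v).c i, (M v).d i), d' v i, q' v i⟩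
    have iF : Function.Injective F := fun v w e' => inv_mul_eq_one.1 (hθ _ (by
      rw [map_mul, map_inv, ← eQ]
      exact A.div_memQ (e v).ac (key (fun i => congrArg Subtype.val (congrFun e' i)) ▸ (e w).ac)))
    obtain ⟨v, hv⟩ := (iF.bijective_of_nat_card_le (by
      rw [Nat.card_fun, Nat.card_eq_fintype_card, show Fintype.card S = 8 by decide +kernel]
      simp [QuaternionGroup.card])).2 fun i => ⟨(m.a i, m.b i, m.c i, m.d i), d i, q i⟩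
    exact ⟨θ v, t4 v, key (fun i => congrArg Subtype.val (congrFun hv i)) ▸ e v⟩

theorem up {H : Subgroup X} {z : H} {l : V6 → H} {r : Fin 3 → H} (h : E0 z l r)
    (hH : ∀ g : X, g * z = z * g → g ∈ H) : E0 (z : X) (fun v => l v) fun i => r i where
  toSy := h.toSy
  z3 := congrArg Subtype.val h.z3
  z1 e := h.z1 (Subtype.ext e)
  lz v := congrArg Subtype.val (h.lz v)
  lmul u v := congrArg Subtype.val (h.lmul u v)
  linj v e := h.linj v (H87.U6.IB.up_zp.1 e)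
  nQ g hg v := (h.nQ ⟨g, hH g hg⟩ (Subtype.ext hg) v).imp fun _ => Exists.imp fun _ => congrArg Subtype.val
  cQ g hg e := H87.U6.IB.up_zp.2 (h.cQ ⟨g, hH g hg⟩ (Subtype.ext hg) fun v => Subtype.ext (e v))
  t2 := congrArg Subtype.val h.t2
  tz := congrArg Subtype.val h.tz
  tl v := congrArg Subtype.val (h.tl v)
  r2 i := congrArg Subtype.val (h.r2 i)
  er i := up_ex (h.er i)
  mon g hg := let ⟨π, m, d, a⟩ := h.mon ⟨g, hH g hg⟩ (Subtype.ext hg); ⟨π, m, d, up_ac.2 a⟩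
  all m d q := let ⟨ρ, a, b⟩ := h.all m d q; ⟨ρ, congrArg Subtype.val a, up_ex b⟩

theorem exists_sec {Y M : Type*} [Group Y] [Finite Y] [Group M] (f : Y →* M) (hf : Function.Surjective f)
    (c : (Nat.card f.ker).Coprime (Nat.card M)) : ∃ σ : M →* Y, ∀ m, f (σ m) = m := by
  obtain ⟨R, k⟩ := exists_left_complement'_of_coprime (N := f.ker) (by
    rwa [index_ker, MonoidHom.range_eq_top.2 hf, card_top])
  have b : Function.Bijective (f.comp R.subtype) := ⟨(injective_iff_map_eq_one _).2 fun x e =>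
    Subtype.ext (disjoint_def.1 k.disjoint x.2 e), fun m => by
      obtain ⟨y, rfl⟩ := hf m
      obtain ⟨⟨ρ, q⟩, rfl, -⟩ := IsComplement.existsUnique k y
      exact ⟨ρ, by rw [map_mul, show f q = 1 from q.2, mul_one]; rfl⟩⟩
  exact ⟨R.subtype.comp (MulEquiv.ofBijective _ b).symm, fun m => (MulEquiv.ofBijective _ b).apply_symm_apply m⟩

theorem eqns_inx : True := by
  have := @U.eq_1
  have := @pr.eq_1
  have := @Hq.eg.eq_1.{0}
  trivial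

end Inx

open H87.U6.IB (exsp exists_z cent_zp) in
theorem ini (H : Subgroup G) (Q : Subgroup H) (hQF : Q = Cfsg.generalizedFittingSubgroup H) [hQn : Q.Normal]
    (hQex : Cfsg.IsExtraspecial 3 Q) (hQcard : Nat.card Q = 3 ^ 7)
    (hZZ : (Subgroup.center Q).map Q.subtype = Subgroup.center H)
    (eO : Cfsg.pCore 2 (H ⧸ Q) ≃* QuaternionGroup 2 × QuaternionGroup 2 × QuaternionGroup 2)
    (Z : Subgroup G) (hZ : Z = (Subgroup.center H).map H.subtype) (hHC : H = Subgroup.centralizer (Z : Set G)) :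
    ∃ z l r, E0 z l r ∧ Z = zpowers z ∧ Qs z l ≤ (Cfsg.pCore 3 H).map H.subtype := by
  have : Fact (Nat.Prime 3) := ⟨by norm_num⟩
  obtain ⟨z, z1, ez⟩ := exists_z (Z := center H) (by
    rw [← hZZ, card_map_of_injective Q.subtype_injective, hQex.2])
  have zc : ∀ g, g * z = z * g := mem_center_iff.1 (ez ▸ mem_zpowers z)
  have zQ : z ∈ Q := map_subtype_le _ (hZZ ▸ ez ▸ mem_zpowers z)
  obtain ⟨z3, cm, cq⟩ := exsp hQex zQ z1 fun q _ => zc q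
  obtain ⟨σ, hσ⟩ := Inx.exists_sec _ ((QuotientGroup.mk' Q).subgroupComap_surjective_of_surjective (pCore 2 (H ⧸ Q))
    (QuotientGroup.mk'_surjective Q)) (by
      obtain ⟨n, hn⟩ := IsPGroup.iff_card.1 ((hQex.1.1.comap_subtype (K := (pCore 2 (H ⧸ Q)).comap
        (QuotientGroup.mk' Q))).to_le (H := ((QuotientGroup.mk' Q).subgroupComap _).ker) fun x hx =>
          (QuotientGroup.eq_one_iff (x : H)).1 (congrArg Subtype.val hx))
      rw [hn, Nat.card_congr eO.toEquiv]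
      exact Nat.Coprime.pow_left _ (by norm_num [QuaternionGroup.card]))
  have e : ∀ u, ((σ (eO.symm u) : H) : H ⧸ Q) = eO.symm u := fun u => congrArg Subtype.val (hσ _)
  obtain ⟨l, r, f, eQ⟩ := Inx.exists_e0 ⟨z3, z1, zc, hQn, fun g e => cq g (hQF ▸ H23.centralizer_fStar_le
    (hQF ▸ fun q hq => (e q hq).symm)) e, cm, hQcard, zQ⟩ (((Subgroup.subtype _).comp σ).comp eO.symm.toMonoidHom)
    (fun u v k => eO.symm.injective (Subtype.ext ((e u).symm.trans (k.trans (e v))))) fun g u =>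
      ⟨eO ⟨g * eO.symm u * (g : H ⧸ Q)⁻¹, Normal.conj_mem inferInstance _ (eO.symm u).2 _⟩, (e _).trans (by
        rw [MulEquiv.symm_apply_apply]
        exact congrArg (fun x => (g : H ⧸ Q) * x * (g : H ⧸ Q)⁻¹) (e u).symm)⟩
  rw [ez, MonoidHom.map_zpowers] at hZ
  refine ⟨z, _, _, Inx.up f fun g hg => ?_, hZ, ?_⟩
  · rw [hHC, hZ, cent_zp, mem_centralizer_singleton_iff]; exact hg
  · rw [Ini.up_Q, eQ]
    exact map_mono (le_sSup ⟨hQn, hQex.1.1⟩)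

end H7.E3
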