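import Cfsg.Agent.Lib.E3L.Tw
import Cfsg.Agent.Lib.U63.Gen
import Cfsg.Agent.Lib.U63.Q
import Cfsg.Agent.Lib.Odd.T3
import Cfsg.Agent.S2603

/-! The 3-local configuration of `U₆(2)` in `N(S) / S`. -/

set_option autoImplicit false
set_option linter.unusedSectionVars false

namespace H7.E3

open Subgroup Cfsg H7.F3
open H87.U6 (F3 f3_cases pw_add pw_zero pw_one pw_two pw_neg pw_mul pw_inj mem_zp cj_pw cm_cj)

variable {G : Type*} [Group G] [Finite G] {z y : G} {l : V6 → G} {r : Fin 3 → G} {J S : Subgroup G}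

namespace MUx

open H87.U6 (V be cm_inv cm_mul cm_pow cm_conj cjn)

/-- the last two planes -/
def em (x : V) : V6 := (![0, x.1, x.2.2.1], ![0, x.2.1, x.2.2.2])

theorem eqns_mu : True := by
  have := @em.eq_1
  trivial

theorem em_add (u v : V) : em (u + v) = em u + em v := by ext i <;> fin_cases i <;> simp [em]
theorem em_neg (u : V) : em (-u) = ng 1 (ng 2 (em u)) := by ext i <;> fin_cases i <;> simp [em, ng, sg]
theorem b6_em (u v : V) : b6 (em u) (em v) = be u v := by simp [b6_eq, em, be]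
theorem ng_em (u : V) : ng 0 (em u) = em u := by ext i <;> fin_cases i <;> simp [em, ng, sg]

theorem em_zero {u : V} (e : em u = 0) : u = 0 := by
  have a := congrFun (congrArg Prod.fst e)
  have b := congrFun (congrArg Prod.snd e)
  exact Prod.ext (a 1) (Prod.ext (b 1) (Prod.ext (a 2) (b 2)))

theorem exists_em {w : V6} (e : ng 0 w = w) : ∃ u, w = em u := by
  have a := congrFun (congrArg Prod.fst e) 0
  have b := congrFun (congrArg Prod.snd e) 0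
  simp only [ng, sg, Pi.mul_apply, if_true] at a b
  have k : ∀ x : F3, -1 * x = x → x = 0 := by decide
  refine ⟨(w.1 1, w.2 1, w.1 2, w.2 2), ?_⟩
  ext i <;> fin_cases i <;> simp [em, k _ a, k _ b]

theorem be_nd : ∀ w : V, (∀ v, be w v = 0) → w = 0 := fun w hw => by
  have a := hw (1, 0, 0, 0)
  have b := hw (0, 1, 0, 0)
  have c := hw (0, 0, 1, 0)
  have d := hw (0, 0, 0, 1)
  simp [be] at a b c d
  exact Prod.ext b (Prod.ext a (Prod.ext d c))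

theorem only_of {m : Mx} {π : Equiv.Perm (Fin 3)} (fx : ∀ u, m.ap (pm π (em u)) = em u) : π = 1 ∧ Only 0 m := by
  obtain rfl : π = 1 := by
    have a1 := congrFun (congrArg Prod.fst (fx (1, 0, 0, 0))) 1
    have a2 := congrFun (congrArg Prod.fst (fx (0, 0, 1, 0))) 2
    simp only [Mx.ap, pm, em, Pi.add_apply, Pi.mul_apply, Function.comp] at a1 a2
    refine (by decide : ∀ π : Equiv.Perm (Fin 3), π 1 = 1 → π 2 = 2 → π = 1) π ?_ ?_
    · generalize π 1 = i at a1; fin_cases i <;> simp_all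
    · generalize π 2 = i at a2; fin_cases i <;> simp_all
  have b1 := fx (1, 0, 0, 0)
  have b2 := fx (0, 1, 0, 0)
  have b3 := fx (0, 0, 1, 0)
  have b4 := fx (0, 0, 0, 1)
  simp only [pm_one, Mx.ap, em, Prod.mk.injEq] at b1 b2 b3 b4
  refine ⟨rfl, fun i hi => ?_⟩
  rcases (by decide : ∀ i : Fin 3, i ≠ 0 → i = 1 ∨ i = 2) i hi with rfl | rfl
  · exact ⟨by simpa using congrFun b1.1 1, by simpa using congrFun b2.1 1, by simpa using congrFun b1.2 1,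
      by simpa using congrFun b2.2 1⟩
  · exact ⟨by simpa using congrFun b3.1 2, by simpa using congrFun b4.1 2, by simpa using congrFun b3.2 2,
      by simpa using congrFun b4.2 2⟩

/-- a self-centralizing normal subgroup `U₆(2)` -/
theorem out6 {Y K : Type*} [Group Y] [Finite Y] [Field K] [Fintype K] (hK : Fintype.card K = 4) (F : Subgroup Y)
    [F.Normal] (hc : centralizer (F : Set Y) = ⊥) (e : F ≃* PSU 6 K 2) :
    F.index ∣ 6 ∧ ∀ a b : Y, a ^ 3 = 1 → b ^ 3 = 1 → a * b * a⁻¹ * b⁻¹ ∈ F := by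
  obtain ⟨f, s, cy, k⟩ := Cfsg.Agent.S2603.result (K := K) (p := 2) (f := 1) (q := 2) (n := 6) le_rfl rfl hK
    (by norm_num) (by norm_num)
  let ψ : Y →* Out (PSU 6 K 2) :=
    (QuotientGroup.mk' (Inn _)).comp ((MulAut.congr e).toMonoidHom.comp MulAut.conjNormal)
  have ker : ψ.ker = F := by
    ext g
    refine (QuotientGroup.eq_one_iff _).trans ⟨fun ⟨p, hp⟩ => ?_, fun hg => ⟨e ⟨g, hg⟩, ?_⟩⟩
    · have : (e.symm p : Y)⁻¹ * g ∈ centralizer (F : Set Y) := fun x hx => by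
        have := congrArg (fun α : MulAut _ => (e.symm (α (e ⟨x, hx⟩)) : Y)) hp
        simp [MulAut.congr] at this
        calc _ = (e.symm p : Y)⁻¹ * ((e.symm p : Y) * x * (e.symm p : Y)⁻¹) * g := by group
          _ = _ := by rw [this]; group
      rw [hc, mem_bot, inv_mul_eq_one] at this
      exact this ▸ (e.symm p).2
    · ext x
      apply e.symm.injective
      ext
      simp [MulAut.congr]
  have c := f.ker.card_mul_index
  rw [index_ker, MonoidHom.range_eq_top.2 s, card_top, k, Nat.card_congr Multiplicative.toAdd, Nat.card_zmod] at c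
  refine ⟨?_, fun a b a3 b3 => ?_⟩
  · rw [← ker, index_ker]
    exact (card_subgroup_dvd_card _).trans (c ▸ dvd_rfl)
  · have m : ∀ a : Y, a ^ 3 = 1 → ψ a ∈ f.ker := fun a a3 =>
      (by decide : ∀ x : Multiplicative (ZMod (2 * 1)), x ^ 3 = 1 → x = 1) _ (by
        rw [← map_pow, ← map_pow, a3, map_one, map_one])
    obtain ⟨g, hg⟩ := cy.exists_zpow_surjective
    obtain ⟨i, e1⟩ := hg ⟨_, m a a3⟩
    obtain ⟨j, e2⟩ := hg ⟨_, m b b3⟩
    have : Commute (ψ a) (ψ b) := by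
      rw [← show (g : Out _) ^ i = ψ a from congrArg Subtype.val e1,
        ← show (g : Out _) ^ j = ψ b from congrArg Subtype.val e2]
      exact Commute.zpow_zpow_self _ _ _
    rw [← ker, MonoidHom.mem_ker, map_mul, map_mul, map_mul, map_inv, map_inv, this.eq]
    simp

/-! ### the quotient -/

abbrev Mt (S : Subgroup G) := normalizer (S : Set G) ⧸ S.subgroupOf (normalizer (S : Set G))

/-- the projection -/
def pj {S : Subgroup G} (g : G) (c : g ∈ normalizer (S : Set G)) : Mt S := QuotientGroup.mk ⟨g, c⟩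

section
variable {g g' : G}

theorem pj_mul (c : g ∈ normalizer (S : Set G)) (c' : g' ∈ normalizer (S : Set G)) :
    pj g c * pj g' c' = pj (g * g') (mul_mem c c') := rfl
theorem pj_inv (c : g ∈ normalizer (S : Set G)) : (pj g c)⁻¹ = pj g⁻¹ (inv_mem c) := rfl
theorem pj_pow (c : g ∈ normalizer (S : Set G)) (n : ℕ) : pj g c ^ n = pj (g ^ n) (pow_mem c n) := by
  rw [pj, pj, ← QuotientGroup.mk_pow]; rfl
theorem pj_cj (c : g ∈ normalizer (S : Set G)) (c' : g' ∈ normalizer (S : Set G)) :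
    pj g c * pj g' c' * (pj g c)⁻¹ = pj (g * g' * g⁻¹) (mul_mem (mul_mem c c') (inv_mem c)) := rfl
theorem pj_sur (x : Mt S) : ∃ g c, x = pj g c := by
  obtain ⟨⟨g, c⟩, rfl⟩ := QuotientGroup.mk_surjective x
  exact ⟨g, c, rfl⟩
variable {c : g ∈ normalizer (S : Set G)} {c' : g' ∈ normalizer (S : Set G)}
theorem pj_congr (e : g = g') : pj g c = pj g' c' := by subst e; rfl
theorem pj_one : pj g c = 1 ↔ g ∈ S := QuotientGroup.eq_one_iff _
theorem pj_1 (e : g = 1) : pj g c = 1 := pj_one.2 (e ▸ one_mem _)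
theorem pj_eq : pj g c = pj g' c' ↔ g * g'⁻¹ ∈ S := by rw [← mul_inv_eq_one, pj_inv, pj_mul, pj_one]

end

theorem ud_of (F : Subgroup (Mt S)) [hF : F.Normal] (hc : centralizer (F : Set (Mt S)) = ⊥)
    (e : ∃ (K : Type) (_ : Field K) (_ : Fintype K), Fintype.card K = 4 ∧ Nonempty (F ≃* PSU 6 K 2)) :
    ∃ U, UD S U ∧ ∀ a ∈ normalizer (S : Set G), ∀ b ∈ normalizer (S : Set G), a ^ 3 = 1 → b ^ 3 = 1 →
      a * b * a⁻¹ * b⁻¹ ∈ U := by
  obtain ⟨K, _, _, hK, ⟨e⟩⟩ := e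
  obtain ⟨o1, o2⟩ := out6 hK F hc e
  let U : Subgroup G := (F.comap (QuotientGroup.mk' _)).map (normalizer (S : Set G)).subtype
  have mU : ∀ {x}, x ∈ U ↔ ∃ c, pj x c ∈ F := fun {x} =>
    ⟨by rintro ⟨⟨x, c⟩, hx, rfl⟩; exact ⟨c, hx⟩, fun ⟨c, hx⟩ => ⟨⟨x, c⟩, hx, rfl⟩⟩
  let φ : U →* F := MonoidHom.mk' (fun x => ⟨pj x (mU.1 x.2).1, (mU.1 x.2).2⟩) fun _ _ => rfl
  refine ⟨U, ⟨fun x hx => mU.2 ⟨le_normalizer hx, pj_one.2 hx ▸ one_mem F⟩, fun x hx => (mU.1 hx).1,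
    fun g c x hx => ?_, ⟨K, inferInstance, inferInstance, hK, e.toMonoidHom.comp φ, e.surjective.comp ?_,
      fun x => ?_⟩, fun g c hg => ?_, ?_⟩, fun a ha b hb a3 b3 => mU.2 ⟨_, o2 (pj a ha) (pj b hb) ?_ ?_⟩⟩
  · obtain ⟨c', hx⟩ := mU.1 hx
    exact mU.2 ⟨_, hF.conj_mem _ hx (pj g c)⟩
  · rintro ⟨x, hx⟩
    obtain ⟨g, c, rfl⟩ := pj_sur x
    exact ⟨⟨g, mU.2 ⟨c, hx⟩⟩, rfl⟩
  · exact e.map_eq_one_iff.trans (Subtype.ext_iff.trans pj_one)
  · refine (pj_one (c := c)).1 (mem_bot.1 (hc ▸ mem_centralizer_iff.2 fun x hx => ?_))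
    obtain ⟨x, c', rfl⟩ := pj_sur x
    exact (cm_cj.2 ((pj_cj c c').trans (pj_eq.2 (hg x (mU.2 ⟨c', hx⟩))))).symm
  · rwa [relIndex, subgroupOf, comap_map_eq_self_of_injective (subtype_injective _),
      index_comap_of_surjective _ (QuotientGroup.mk'_surjective _)]
  · rw [pj_pow]; exact pj_1 a3
  · rw [pj_pow]; exact pj_1 b3

structure Cx (z : G) (l : V6 → G) (r : Fin 3 → G) (y : G) (J S : Subgroup G) : Prop extends St z l r y J where
  d : SD z l r y J S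
  zM : ∀ g, g * r 0 = r 0 * g → g * z = z * g → g ∈ normalizer (S : Set G)

namespace Cx

variable (h : Cx z l r y J S)
include h

theorem lc (u : V) : l (em u) * r 0 = r 0 * l (em u) := (cm_cj.2 (((h.er 0).act _).trans (by rw [ng_em]))).symm
theorem zN : z ∈ normalizer (S : Set G) := h.zM _ (h.rz 0).symm rfl
theorem lN (u : V) : l (em u) ∈ normalizer (S : Set G) := h.zM _ (h.lc u) (h.lz _)
theorem rN' (i : Fin 3) : r i ∈ normalizer (S : Set G) := h.zM _ (h.toE0.rc i 0) (h.rz i)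
theorem cr {g : G} (c : g ∈ normalizer (S : Set G)) : g * r 0 = r 0 * g := H87.U6.mC.1 (h.d.es.normalizer_le c)

def zb : Mt S := pj z h.zN
def lb (u : V) : Mt S := pj (l (em u)) (h.lN u)
def tb : Mt S := pj (r 1 * r 2) (mul_mem (h.rN' 1) (h.rN' 2))

variable {g g' : G} {c : g ∈ normalizer (S : Set G)} {c' : g' ∈ normalizer (S : Set G)}

theorem eq3 (e : pj g c = pj g' c') (e3 : (g * g'⁻¹) ^ 3 = 1) : g = g' := by
  have := h.d.es.pow_four (pj_eq.1 e)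
  rwa [pow_succ, e3, one_mul, mul_inv_eq_one] at this

theorem eqQ (e : pj g c = pj g' c') (a : g ∈ Qs z l) (b : g' ∈ Qs z l) : g = g' :=
  h.eq3 e (h.Q3 (mul_mem a (inv_mem b)))

theorem cj3 (e : pj g c = pj g' c') (a : g ^ 3 = 1) (b : g' ^ 3 = 1) : ∃ k ∈ S, k * g' * k⁻¹ = g :=
  H53.Odd.conj_of_coset (by rw [h.d.card]; norm_num) a b (fun _ => cjn c') (pj_eq.1 e)

theorem lift_z {x : Mt S} (e : x * h.zb = h.zb * x) : ∃ g c, x = pj g c ∧ g * z = z * g := by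
  obtain ⟨g, c, rfl⟩ := pj_sur x
  obtain ⟨k, hk, e'⟩ := h.cj3 ((pj_cj c h.zN).symm.trans (cm_cj.1 e)).symm h.z3 (by rw [conj_pow, h.z3]; simp)
  exact ⟨k * g, mul_mem (le_normalizer hk) c, (pj_eq.2 (by simpa using hk)).symm,
    cm_cj.2 (Eq.trans (by group) e')⟩

theorem q_em {w : V6} {k : F3} (c : qq z l w k * r 0 = r 0 * qq z l w k) : ∃ u, w = em u :=
  exists_em (h.q_inj ((h.rq 0 w k).symm.trans (cm_cj.1 c.symm))).1

theorem pj_q (u : V) (k : F3) (c : qq z l (em u) k ∈ normalizer (S : Set G)) :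
    pj (qq z l (em u) k) c = h.lb u * h.zb ^ k.val := by rw [zb, lb, pj_pow, pj_mul]; rfl

theorem pj_Q (hg : g ∈ Qs z l) : pj g c ∈ H87.U6.Qs h.zb h.lb := by
  obtain ⟨w, k, rfl⟩ := h.memQ.1 hg
  obtain ⟨u, rfl⟩ := h.q_em (h.cr c)
  rw [h.pj_q]
  have z1 : h.zb ∈ H87.U6.Qs h.zb h.lb := Subgroup.subset_closure (Or.inl rfl)
  exact mul_mem (Subgroup.subset_closure (Or.inr ⟨u, rfl⟩)) (pow_mem z1 _)

theorem zb3 : h.zb ^ 3 = 1 := by rw [zb, pj_pow]; exact pj_1 h.z3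

theorem cQ' (gz : g * z = z * g) (e : ∀ u, g * l (em u) * g⁻¹ = l (em u)) : pj g c ∈ zpowers h.zb := by
  obtain ⟨π, m, d, a⟩ := h.mon g gz
  obtain ⟨rfl, o⟩ := only_of (m := m) (π := π) fun u => by
    obtain ⟨k, hk⟩ := a.2 (em u)
    exact (h.q_inj (hk.symm.trans ((e u).trans (q0 z l _).symm))).1
  obtain ⟨n, k, dn, qn, e1⟩ := dec_q8 d
  obtain ⟨ρ, ρ4, b⟩ := h.all n dn qn
  have a' : Ac z l (ρ⁻¹ * g) (Ym k) := (h.ac_mul (b.inv dn.ap_adj).ac a).congr fun v => by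
    rw [pm_one, e1, dn.adj_ap]
  have e2 := Mx.eq_of_ap (m := m) (n := n.mul ⟨1, k, 0, 1⟩) fun v => by rw [e1, Mx.ap_mul, Ym_eq]
  have k0 : ∀ i, i ≠ 0 → k i = 0 := fun i hi => by
    obtain ⟨a1, a2, a3, a4⟩ := o i hi
    rw [e2] at a1 a2 a3 a4
    exact (by decide +kernel : ∀ a b c d k : F3, a * 1 + b * 0 = 1 → a * k + b * 1 = 0 → c * 1 + d * 0 = 0 →
      c * k + d * 1 = 1 → (a + d = 0 ∨ b = 0 ∧ c = 0) → k = 0) _ _ _ _ _ a1 a2 a3 a4 (qn i)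
  obtain rfl : k = 0 := (by decide : ∀ k : X3, ∑ i, k i = 0 → (∀ i, i ≠ 0 → k i = 0) → k = 0) k (h.sum _ _ a') k0
  obtain rfl : m = n := Mx.eq_of_ap fun v => by rw [e1, Ym_zero]
  have ρS : ρ ∈ S := h.d.R0 (h.memR0.2 ⟨ρ4, m, d, qn, o, b⟩)
  obtain ⟨w, k, e3⟩ := h.memQ.1 (h.memQ_of_ac (a'.congr Ym_zero))
  obtain ⟨u, rfl⟩ := h.q_em (e3 ▸ cm_mul (cm_inv (h.ex_rc d b 0)) (h.cr c))
  obtain rfl : u = 0 := be_nd u fun v => by
    rw [← b6_em]
    refine (h.qcm k 0).1 ?_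
    rw [q0, ← e3]
    exact cm_mul (cm_inv (cm_cj.2 (by rw [b.act, E0.Only.fix o ⟨rfl, rfl⟩]))) (cm_cj.2 (e v))
  rw [show em 0 = 0 by decide, h.qz, inv_mul_eq_iff_eq_mul] at e3
  refine (mem_zp h.zb3).2 ⟨k, ?_⟩
  rw [zb, pj_pow, pj_eq, e3, mul_inv_cancel_right]
  exact ρS

theorem a0 : H87.U6.A0 h.zb h.lb h.tb where
  z3 := h.zb3
  z1 e := h.z1 (h.eqQ (e.trans (pj_1 (c := one_mem _) rfl).symm) zQ (one_mem _))
  lz v := by simp only [zb, lb, pj_mul]; exact pj_congr (h.lz _)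
  lmul u v := by simp only [zb, lb, pj_mul, pj_pow]; exact pj_congr (by rw [h.lmul, em_add, b6_em])
  linj v hv := by
    obtain ⟨k, e⟩ := (mem_zp h.zb3).1 hv
    rw [zb, pj_pow, lb] at e
    exact em_zero (h.linj _ (h.eqQ e (lQ _) (pow_mem zQ _) ▸ pow_mem (mem_zpowers z) _))
  nQ g hg v := by
    obtain ⟨g, c, rfl, gz⟩ := h.lift_z hg
    obtain ⟨w, k, e⟩ := h.nQ g gz (em v)
    have c' : qq z l w k ∈ normalizer (S : Set G) := by
      rw [qq, ← e]; exact mul_mem (mul_mem c (h.lN v)) (inv_mem c)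
    obtain ⟨u, rfl⟩ := h.q_em (h.cr c')
    exact ⟨u, k, ((pj_cj c _).trans (pj_congr e)).trans (h.pj_q u k c')⟩
  cQ g hg e := by
    obtain ⟨g, c, rfl, gz⟩ := h.lift_z hg
    exact h.cQ' gz fun u => h.eqQ ((pj_cj c (h.lN u)).symm.trans (cm_cj.1 (e u))) (h.nQ' gz (lQ _)) (lQ _)
  t2 := by
    rw [tb, pj_mul]
    exact pj_1 (by rw [mul_assoc, ← mul_assoc (r 2), h.toE0.rc 2 1, mul_assoc, h.r2, mul_one, h.r2])
  tz := by simp only [zb, tb, pj_mul]; exact pj_congr (cm_mul (h.rz 1) (h.rz 2))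
  tl v := (pj_cj _ _).trans (pj_congr (by rw [em_neg]; exact ((h.er 1).mul (h.er 2)).act _))
  wc g v k e := by
    obtain ⟨g, c, rfl⟩ := pj_sur g
    rw [← h.pj_q v k (mul_mem (h.lN v) (pow_mem h.zN _)), zb, pj_cj] at e
    obtain ⟨s, -, e'⟩ := h.cj3 e.symm (h.qcube _ _) (by rw [conj_pow, h.z3]; simp)
    by_contra hv
    simpa [em] using h.full (g := s * g) (by rw [← e']; group) (fun e => hv (em_zero e)) 0

theorem exb (m : Mx) (d : m.det1) (q : m.q8) {φ : V → V} (e : ∀ u, m.ap (em u) = em (φ u)) :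
    ∃ x : Mt S, x ^ 4 = 1 ∧ H87.U6.Ex h.zb h.lb h.tb x φ ∧
      ∀ j, (∀ v, m.ap (m.ap v) = ng j v) → x * x = pj (r j) (h.rN' j) := by
  obtain ⟨ρ, ρ4, a⟩ := h.all m d q
  refine ⟨pj ρ (h.zM _ (h.ex_rc d a 0) a.cz), by rw [pj_pow]; exact pj_1 ρ4, ⟨?_, ?_, fun v => ?_⟩, fun j hj => ?_⟩
  · simp only [zb, pj_mul]; exact pj_congr a.cz
  · simp only [tb, pj_mul]; exact pj_congr (cm_mul (h.ex_rc d a 1).symm (h.ex_rc d a 2).symm).symm
  · exact (pj_cj _ _).trans (pj_congr (by rw [a.act, e]))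
  · exact (pj_mul _ _).trans (pj_congr (h.ex_eq4 (a.mul a) (h.er j) hj
      (by rw [← pow_two, ← pow_mul, mul_comm, pow_mul, ρ4, one_pow]) (h.r4 j)))

theorem nt' (x : Mt S) (hx : x * h.zb = h.zb * x) :
    x * pj (r 1) (h.rN' 1) * x⁻¹ * pj (r 1) (h.rN' 1) ∈ H87.U6.Qs h.zb h.lb ∨
    x * pj (r 1) (h.rN' 1) * x⁻¹ * pj (r 2) (h.rN' 2) ∈ H87.U6.Qs h.zb h.lb := by
  obtain ⟨g, c, rfl, gz⟩ := h.lift_z hx
  obtain ⟨π, m, d, a⟩ := h.mon g gz
  simp only [pj_mul, pj_inv]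
  obtain ⟨i, hi⟩ := π.surjective 1
  have b : g * r 1 * g⁻¹ * r i ∈ Qs z l := h.memQ_of_ac ((h.ac_mul (h.ac_mul (h.ac_mul a (h.er 1).ac)
    (h.mono_inv d a)) (h.er i).ac).congr fun v => by
      rw [← hi, pm_ng, Mx.pm_ap, pm_pm, inv_mul_cancel, pm_one, Mx.ap_ng,
        show (m.adj.pr π⁻¹).pr π = m.adj by ext j <;> simp [Mx.pr], d.ap_adj, ng_ng]; rfl)
  rcases (by decide : ∀ i : Fin 3, i = 0 ∨ i = 1 ∨ i = 2) i with rfl | rfl | rfl
  · have e : g * r 1 * g⁻¹ * r 0 = g * (r 1 * r 0) * g⁻¹ := by rw [mul_assoc _ g⁻¹, cm_inv (h.cr c)]; group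
    have b' := h.nQ' (cm_inv gz) b
    rw [e, show g⁻¹ * (g * (r 1 * r 0) * g⁻¹) * g⁻¹⁻¹ = r 1 * r 0 by group] at b'
    have := h.ac_uniq (h.ac_Q b') ((h.er 1).mul (h.er 0)).ac (Pi.single 0 1, 0)
    exact absurd this (by decide)
  · exact Or.inl (h.pj_Q b)
  · exact Or.inr (h.pj_Q b)

theorem nw' : H87.U6.NW h.zb := by
  obtain ⟨n, hn, -, c, e⟩ := h.ysi 0
  have m := h.d.nM n hn c
  have nJ := cjn hn h.zJ
  refine ⟨pj n m, by simp only [zb, pj_mul, pj_inv]; exact pj_congr (h.Jc _ nJ _ h.zJ), fun hy => ?_⟩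
  obtain ⟨k, e'⟩ := (mem_zp h.zb3).1 hy
  rw [zb, pj_cj, pj_pow] at e'
  have := h.eq3 e' (h.J3 _ (mul_mem nJ (inv_mem (pow_mem h.zJ _))))
  have yQ : y ∈ Qs z l := by
    rcases e with e | e <;> rw [e] at this
    exacts [this ▸ pow_mem zQ _, inv_mem_iff.1 (this ▸ pow_mem zQ _)]
  exact absurd (h.ac_uniq h.ey.ac (h.ac_Q yQ) (0, 1)) (by decide)

theorem exP : ∃ i1 j1 i2 j2, H87.U6.P0 h.zb h.lb h.tb i1 j1 i2 j2 ∧ H87.U6.NT h.zb h.lb i1 i2 := by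
  obtain ⟨i1, a1, b1, c1⟩ := h.exb ⟨![1, 0, 1], ![0, -1, 0], ![0, 1, 0], ![1, 0, 1]⟩ (by unfold Mx.det1; decide)
    (by unfold Mx.q8; decide) (φ := H87.U6.I1) (by decide +kernel)
  obtain ⟨j1, a2, b2, -⟩ := h.exb ⟨![1, 1, 1], ![0, 1, 0], ![0, 1, 0], ![1, -1, 1]⟩ (by unfold Mx.det1; decide)
    (by unfold Mx.q8; decide) (φ := H87.U6.J1) (by decide +kernel)
  obtain ⟨i2, a3, b3, c3⟩ := h.exb ⟨![1, 1, 0], ![0, 0, -1], ![0, 0, 1], ![1, 1, 0]⟩ (by unfold Mx.det1; decide)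
    (by unfold Mx.q8; decide) (φ := H87.U6.I2) (by decide +kernel)
  obtain ⟨j2, a4, b4, -⟩ := h.exb ⟨![1, 1, 1], ![0, 0, 1], ![0, 0, 1], ![1, 1, -1]⟩ (by unfold Mx.det1; decide)
    (by unfold Mx.q8; decide) (φ := H87.U6.J2) (by decide +kernel)
  refine ⟨i1, j1, i2, j2, ⟨h.a0, a1, b1, a2, b2, a3, b3, a4, b4⟩, fun x hx => ?_⟩
  rw [c1 1 fun v => by ext i <;> fin_cases i <;> simp [Mx.ap, ng, sg],
    c3 2 fun v => by ext i <;> fin_cases i <;> simp [Mx.ap, ng, sg]]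
  exact h.nt' x hx

theorem fin {U : Subgroup G} (u : UD S U) (e : ∀ a ∈ normalizer (S : Set G), ∀ b ∈ normalizer (S : Set G),
    a ^ 3 = 1 → b ^ 3 = 1 → a * b * a⁻¹ * b⁻¹ ∈ U) : z ∈ U ∧ y ∈ U := by
  have zU : z ∈ U := by
    have := e _ (h.lN (0, 1, 0, 0)) _ (h.lN (1, 0, 0, 0)) (h.lcube _) (h.lcube _)
    rwa [h.lcj, b6_em, qq, h.lzn, mul_inv_cancel_right, show -be (0, 1, 0, 0) (1, 0, 0, 0) = 1 by decide,
      pw_one] at this
  obtain ⟨n, hn, -, c, e⟩ := h.ysi 0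
  have := u.nrm n (h.d.nM n hn c) z zU
  rcases e with e | e <;> rw [e] at this
  exacts [⟨zU, this⟩, ⟨zU, inv_mem_iff.1 this⟩]

end Cx

end MUx

end H7.E3
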