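import Cfsg.Agent.Lib.E3L.Ext
import Cfsg.Agent.Lib.E3L.Cls
import Cfsg.Agent.Lib.ERec.Nod0

/-! The frame and the diagram `Y333` for an involution centraliser over `2^(1+20).U6(2)`. -/

set_option autoImplicit false
set_option linter.unusedSectionVars false

namespace H7.E3

open Cfsg Subgroup H16 H95 H48.BR H21.ER

variable {G : Type*} [Group G] [Finite G] {z : G} {Q H : Subgroup G} {φ : H →* Stab vU}
  {cls : leechLattice → G → Prop}

theorem Eg.nod_le (M : Eg z Q H φ cls) {g : G} (hs : g * z * g⁻¹ ∈ Q) (hne : g * z * g⁻¹ ≠ z) :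
    ∀ b ∈ Q.map (MulAut.conj g).toMonoidHom, b * z = z * b → b ∈ H := by
  have p := M.pair hs hne
  obtain ⟨H', φ', cls', M', hR, hH⟩ := M.ext (R := Q.map (MulAut.conj g).toMonoidHom ⊓ centralizer {z})
    fun x hx => ⟨mem_centralizer_singleton_iff.1 hx.2, by
      rw [show 4 = 2 * 2 from rfl, pow_mul, pow_two, pow_two]
      rcases p.h'.sq_mem hx.1 with e | e <;> rw [e]
      exacts [mul_one _, p.h'.sq]⟩
  have k : ∀ b ∈ Q.map (MulAut.conj g).toMonoidHom, b * z = z * b → b ∈ H' := fun b hb c =>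
    hR ⟨hb, mem_centralizer_singleton_iff.2 c⟩
  obtain ⟨c, c1, c2⟩ := frame M' p (M.card_conj g) k
  have cz := mem_centralizer_singleton_iff.1 (M'.le c.2)
  have e : (c : G) * (g * z * g⁻¹) * (c : G)⁻¹ = c * g * z * (c * g)⁻¹ := by group
  rw [e] at c2
  have p' := M'.pair (M'.mem c2) fun d => hne (by
    rw [← e, mul_inv_eq_iff_eq_mul, ← cz, mul_right_inj] at d; exact d)
  have m : ∀ b : G, c * b * (c : G)⁻¹ ∈ Q.map (MulAut.conj (c * g)).toMonoidHom ↔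
      b ∈ Q.map (MulAut.conj g).toMonoidHom := fun b => by
    rw [mem_map_equiv, mem_map_equiv]
    simp only [MulAut.conj_symm_apply, mul_inv_rev, mul_assoc, inv_mul_cancel_left]
  intro b hb bz
  have cH := hH c c1
  have := hH (c * ⟨b, k b hb bz⟩ * c⁻¹) ((img_iff M' p' (M'.card_conj _) (fun d hd dz => by
    obtain ⟨d, rfl⟩ : ∃ d', d = c * d' * (c : G)⁻¹ := ⟨(c : G)⁻¹ * d * c, by group⟩
    refine mul_mem (mul_mem c.2 (k d ((m d).1 hd) ?_)) (inv_mem c.2)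
    rwa [← mul_inv_eq_iff_eq_mul.2 cz, conj_mul, conj_mul, mul_left_inj, mul_right_inj] at dz) c2 _).1
      ⟨_, (m b).2 hb, rfl⟩).2
  exact (H.mul_mem_cancel_left cH).1 ((H.mul_mem_cancel_right (inv_mem cH)).1 this)

theorem Eg.exists_frame (M : Eg z Q H φ cls) {s : G} (hs : s ∈ Q) (hc : IsConj z s) (hne : s ≠ z) :
    ∃ c : H, cls (e8 none) (c * s * (c : G)⁻¹) := by
  obtain ⟨g, rfl⟩ := isConj_iff.1 hc
  obtain ⟨c, -, h⟩ := frame M.toEtH (M.pair hs hne) (M.card_conj g) (M.nod_le hs hne)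
  exact ⟨c, h⟩

end H7.E3

namespace H48.ER

open Cfsg H54 H16 Subgroup H77.YM H21.ER H7.E3
open H95 hiding zp zp_zero zp_one zp_add zp_inj zp_comm

variable {G : Type*} [Group G] [Finite G] {z : G} {Q H : Subgroup G} {φ : H →* Stab vU}
  {cls : leechLattice → G → Prop}

theorem _root_.H7.E3.Eg.nod (M : Eg z Q H φ cls) {s : G} (hs : s ∈ Q) (hc : IsConj z s) (hne : s ≠ z) :
    ∃ g : ℕ → G, H18.TC.Sat g 11 H18.YB.RK ∧ IsConj z (g 0) := by
  have : ∀ i, ∃ x, i < 20 → cls (lv (nth BV i)) x := fun i => by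
    by_cases hi : i < 20
    · obtain ⟨x, hx⟩ := M.ex_elt (lv (nth BV i)) ⟨by
        unfold H48.BR.Pp
        rw [(code_lv (bv_spec hi).1).dot code_U]
        exact Int.dvd_of_emod_eq_zero (bv_spec hi).2.2.2.1, by
        rw [(code_lv (bv_spec hi).1).dot code_X]
        exact Int.dvd_of_emod_eq_zero (bv_spec hi).2.2.2.2.1⟩
      exact ⟨x, fun _ => hx⟩
    · exact ⟨1, fun h => absurd h hi⟩
  choose q hq using this
  have B : Bas z q := ⟨M.h.sq, M.h.ne_one, fun i hi => M.h.central _ (M.mem (hq i hi)), fun i hi => by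
    rw [M.sq (hq i hi), (code_lv (bv_spec hi).1).norm]
    exact Int.dvd_of_emod_eq_zero (bv_spec hi).2.1, fun i hi j hj => by
    have h1 := M.commute_iff (hq i hi) (hq j hj)
    rw [(code_lv (bv_spec hi).1).dot (code_lv (bv_spec hj).1)] at h1
    have h2 := (bv_spec hi).2.2.2.2.2 j hj
    unfold Bf
    split_ifs at h2 ⊢
    · exact (M.h.comm _ (M.mem (hq i hi)) _ (M.mem (hq j hj))).resolve_left fun c => by have := h1.1 c; omega
    · rw [zp_zero, mul_one]; exact h1.2 (by omega)⟩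
  obtain ⟨c, h⟩ := M.exists_frame hs hc hne
  have ne : ∀ {w}, cls (e8 none) w → w ≠ 1 ∧ w ≠ z := fun hw => by
    rw [← not_or, ← M.cw_zero_iff hw, M.cw_zero_iff h]
    rintro (k | k)
    · rw [conj_eq_one_iff] at k
      rw [k, isConj_one_left] at hc
      exact M.h.ne_one hc
    · refine hne ?_
      calc s = (c : G)⁻¹ * (c * s * (c : G)⁻¹) * c := by group
        _ = z := by rw [k, mul_assoc, ← mem_cent_iff.1 (M.le c.2), inv_mul_cancel_left]
  have cj : ∀ {w}, cls (e8 none) w → IsConj z w := fun hw => by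
    obtain ⟨d, -, e1⟩ := M.exists_conj h hw (γ := 1) (by rw [M.cw_zero_iff hw, not_or]; exact ne hw)
      (one_smul _ _) (by simpa using Cw.refl _)
    exact (hc.trans (isConj_iff.2 ⟨_, rfl⟩)).trans (isConj_iff.2 ⟨_, e1⟩)
  have im : ∀ {w}, cls (e8 none) w → (∀ b ∈ QW Q z w, b * z = z * b → b ∈ H) ∧ ∀ γ : Stab vU,
      (∃ b : H, (b : G) ∈ QW Q z w ∧ φ b = γ) ↔ (γ : Co0) ∈ epsGroup ∧ (γ : Co0) • vX = vX := fun hw => by
    obtain ⟨g, rfl⟩ := isConj_iff.1 (cj hw)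
    rw [QW_eq M.h]
    have k := M.nod_le (M.mem hw) (ne hw).2
    exact ⟨k, img_iff M.toEtH (M.pair (M.mem hw) (ne hw).2) (M.card_conj g) k hw⟩
  have ind : ∀ b : H, Ind z cls (φ b) b := fun b => ⟨mem_cent_iff.1 (M.le b.2), fun _ _ => M.smul b⟩
  refine Fr.nod (Q := Q) (cls := cls) (q := q) ⟨M.h, M.card, B, M.mem, M.cls_zero, M.add, M.eq_iff, M.congr, M.mul_z, fun γ hγ => ?_,
    hq, cj, fun {w b} hw hb hz => ?_, fun {w γ} hw hγ hU => ?_⟩
  · obtain ⟨b, hb⟩ := M.surj ⟨γ, hγ.1⟩ hγ.2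
    exact ⟨b, by simpa [hb] using ind b⟩
  · have := ((im hw).2 _).1 ⟨⟨b, (im hw).1 b hb hz⟩, hb, rfl⟩
    exact ⟨_, this.1, ⟨fixU _, this.2⟩, ind ⟨b, _⟩⟩
  · obtain ⟨b, hb, e⟩ := ((im hw).2 ⟨γ, hU.1⟩).2 ⟨hγ, hU.2⟩
    exact ⟨b, hb, by simpa [e] using ind b⟩

end H48.ER
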