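import Cfsg.Agent.Lib.E3L.Pr

set_option autoImplicit false
set_option linter.unusedSectionVars false

namespace H7.E3

open Subgroup Cfsg H7.F3
open H87.U6 (F3 f3_cases pw_add pw_zero pw_one pw_two pw_neg pw_mul pw_inj mem_zp cj_pw cm_cj)

variable {G : Type*} [Group G] [Finite G] {z y : G} {l l' : V6 → G} {r r' : Fin 3 → G} {J S : Subgroup G}

namespace O1x

theorem core (P : Pr z l r y l' r') {c : X3} {π : Equiv.Perm (Fin 3)} (h1 : π ≠ 1) (h3 : π ^ 3 = 1)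
    (s0 : ∑ i, c i = 0) (a : Ex z l (r 0 * r 1 * r 2) y fun v => Ym c (pm π v)) : False := by
  have F := P.F
  obtain ⟨e, he⟩ := (by decide +kernel : ∀ (π : Equiv.Perm (Fin 3)) (c : X3), π ≠ 1 → π ^ 3 = 1 → ∑ i, c i = 0 →
    ∃ e : X3, ∀ i, e i = c i + e (π i)) π c h1 h3 s0
  obtain ⟨x, hx⟩ := (by decide +kernel : ∀ π : Equiv.Perm (Fin 3), π ≠ 1 → π ^ 3 = 1 →
    ∃ x : X3, x ∘ π + -x = 1) π h1 h3
  obtain ⟨ρ, ρ4, b⟩ := F.all ⟨-e, e * e + 1, -1, e⟩ (fun i => by simp) fun i => Or.inl (by simp)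
  have c1 := F.ex_cm a b ρ4 fun v => by
    ext i <;> simp only [Ym, pm, Mx.ap, Pi.add_apply, Pi.mul_apply, Pi.neg_apply, Pi.one_apply, Function.comp, he i] <;>
      ring
  have c2 : ρ * ρ = r 0 * r 1 * r 2 := F.ex_eq4 (b.mul b) F.ex_t (fun v => by
      ext i <;> simp only [Mx.ap, Pi.add_apply, Pi.mul_apply, Pi.neg_apply, Pi.one_apply, Prod.fst_neg,
        Prod.snd_neg] <;> ring)
    (by rw [← pow_two, ← pow_mul, mul_comm, pow_mul, ρ4, one_pow])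
    (by rw [show 4 = 2 * 2 from rfl, pow_mul, pow_two (r 0 * r 1 * r 2), F.t2, one_pow])
  have m := P.F'.kt (x := l (1, 0)) (cm_cj.2 ((a.act _).trans (congrArg l (by simp [Ym, pm])))).symm (F.lcube _)
    (c2 ▸ P.F'.dg_sq c1.symm ρ4) ((F.tl _).trans (F.linv _))
  have e1 : Ym c (pm π (x, 0)) = (x ∘ π, 0) := by simp [Ym, pm]
  have k := cm_cj.1 (P.st (lQ (x, 0)) (by
    rwa [a.act, ← F.linv, F.lmul, e1, Prod.neg_mk, Prod.mk_add_mk, hx, neg_zero, add_zero,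
      show b6 (x ∘ π, 0) (-x, 0) = 0 by simp [b6], pw_zero, mul_one])).symm
  rw [a.act, e1] at k
  rw [show x ∘ π = x from congrArg Prod.fst (F.l_inj k), add_neg_cancel] at hx
  exact absurd hx (by decide)

theorem solve {c : X3} {π : Equiv.Perm (Fin 3)} (h1 : π ≠ 1) (h3 : π ^ 3 = 1) (s0 : ∑ i, c i = 0) :
    (∀ v, Ym c (pm π (Ym c (pm π (Ym c (pm π v))))) = v) ∧
    ∀ u, u + Ym c (pm π u) + Ym c (pm π (Ym c (pm π u))) = 0 → ∃ v, v + u + Ym c (pm π (-v)) = 0 := by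
  obtain ⟨j, k, p0, pj, pk, al, j0, k0, jk, sm⟩ := (by decide +kernel : ∀ π : Equiv.Perm (Fin 3), π ≠ 1 → π ^ 3 = 1 →
    ∃ j k, π 0 = j ∧ π j = k ∧ π k = 0 ∧ (∀ i, i = 0 ∨ i = j ∨ i = k) ∧ j ≠ 0 ∧ k ≠ 0 ∧ j ≠ k ∧
      ∀ c : X3, ∑ i, c i = c 0 + c j + c k) π h1 h3
  rw [sm] at s0
  refine ⟨fun v => ?_, fun u e => ⟨pl j (u.1 0 - c 0 * u.2 0) (u.2 0) - pl k (u.1 k) (u.2 k), ?_⟩⟩
  · ext i <;> rcases al i with rfl | rfl | rfl <;>
      simp only [Ym, pm, Pi.add_apply, Pi.mul_apply, Function.comp, p0, pj, pk]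
    exacts [by linear_combination v.2 0 * s0, by linear_combination v.2 i * s0, by linear_combination v.2 i * s0]
  · have e1 := congrFun (congrArg Prod.fst e) j
    have e2 := congrFun (congrArg Prod.snd e) j
    simp only [Ym, pm, Prod.fst_add, Prod.snd_add, Pi.add_apply, Pi.mul_apply, Function.comp, p0, pj, pk,
      Prod.fst_zero, Prod.snd_zero, Pi.zero_apply] at e1 e2
    ext i <;> rcases al i with rfl | rfl | rfl <;> simp [Ym, pm, pl, p0, pj, pk, j0, k0, jk, j0.symm, k0.symm, jk.symm]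
    exacts [by ring, by linear_combination e1 - u.2 0 * s0, by linear_combination e2]

end O1x

theorem Pr.noP (P : Pr z l r y l' r') {c : X3} {π : Equiv.Perm (Fin 3)} (h1 : π ≠ 1)
    (a : Ac z l y fun v => Ym c (pm π v)) : False := by
  have F := P.F
  have h3 := F.perm_pow (ym_det c) (Ym_eq c ▸ a) P.F'.z3
  have s0 := F.sum_zero a P.F'.z3 h1
  obtain ⟨n, hn, d⟩ := F.exists_ex a
  obtain ⟨u, k, e⟩ := F.memQ.1 (inv_mem hn)
  have ey : y = qq z l u k * (n * y) := by rw [← e, inv_mul_cancel_left]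
  generalize n * y = g at d ey
  obtain ⟨j, e3⟩ := F.ex_eq Ex.one (d.pow 3) fun v => ((O1x.solve h1 h3 s0).1 v).symm
  have y3 := P.F'.z3
  rw [ey, show (qq z l u k * g) ^ 3 = qq z l u k * (g * qq z l u k * g⁻¹) * (g * (g * qq z l u k * g⁻¹) * g⁻¹) * g ^ 3 by
    simp only [pow_three]; group, d.q, d.q, e3, one_mul, ← F.qz, F.qmul, F.qmul, F.qmul] at y3
  obtain ⟨v, hv⟩ := (O1x.solve h1 h3 s0).2 u (by simpa only [add_zero] using (F.q_one y3).1)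
  refine O1x.core (P.conj (F.lz v)) h1 h3 s0 ?_
  rw [ey, show l v * (qq z l u k * g) * (l v)⁻¹ = l v * qq z l u k * (g * (l v)⁻¹ * g⁻¹) * g by group, ← F.linv, d.act,
    ← q0 z l, ← q0 z l, F.qmul, F.qmul, hv, F.qz]
  exact ((F.ex_z _).mul d :)

end H7.E3
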