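import Cfsg.Agent.Lib.E3L.Pr
import Cfsg.Agent.Lib.E3L.Fj

/-! A singular element outside `Q` fixing the planes acts non-trivially on each of them. -/

set_option autoImplicit false
set_option linter.unusedSectionVars false

namespace H7.E3

open Subgroup Cfsg H7.F3
open H87.U6 (F3 f3_cases pw_add pw_zero pw_one pw_two pw_neg pw_mul pw_inj mem_zp cj_pw cm_cj)

variable {G : Type*} [Group G] [Finite G] {z y : G} {l l' : V6 → G} {r r' : Fin 3 → G} {J S : Subgroup G}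

namespace O2x

theorem ym_add (c : X3) (u v : V6) : Ym c (u + v) = Ym c u + Ym c v := by
  ext j <;> simp [Ym]; ring

theorem ym_fix {c : X3} {v : V6} : Ym c v = v ↔ c * v.2 = 0 := by
  simp [Ym, Prod.ext_iff]

theorem b6_pl' (w : V6) (i : Fin 3) (a b : F3) : b6 w (pl i a b) = w.1 i * b - w.2 i * a := by
  fin_cases i <;> simp [b6_eq, pl]

theorem ym_pl {c : X3} {i : Fin 3} (a b : F3) (e : c i * b = 0) : Ym c (pl i a b) = pl i a b := by
  refine ym_fix.2 (funext fun j => ?_)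
  by_cases hj : j = i <;> simp [pl, hj, e]

theorem b6_sm (u p v : V6) (a : F3) : b6 (u - a • p) v = b6 u v - a * b6 p v := by
  simp only [b6_eq, Prod.fst_sub, Prod.snd_sub, Prod.smul_fst, Prod.smul_snd, Pi.sub_apply, Pi.smul_apply,
    smul_eq_mul]
  ring

section

variable (P : Pr z l r y l' r') {d : G} {c : X3} {w : V6} {k : F3}
  (a : Ex z l (r 0 * r 1 * r 2) d (Ym c)) (e : y = qq z l w k * d)
include P a e

theorem act (v : V6) (m : F3) : y * qq z l v m * y⁻¹ = qq z l (Ym c v) (-b6 w (Ym c v) + m) := by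
  rw [e, show qq z l w k * d * qq z l v m * (qq z l w k * d)⁻¹ =
    qq z l w k * (d * qq z l v m * d⁻¹) * (qq z l w k)⁻¹ by group, a.q, P.F.qcj]
  congr 1; ring

theorem fix {v : V6} {m : F3} : qq z l v m * y = y * qq z l v m ↔ Ym c v = v ∧ b6 w v = 0 := by
  rw [fix_iff P.F.toA0 (κ := fun v => -b6 w (Ym c v)) (act P a e)]
  exact and_congr_right fun f => by rw [f, neg_eq_zero]

theorem nz {i : Fin 3} (ci : c i = 0) : w.1 i ≠ 0 ∨ w.2 i ≠ 0 := by
  by_contra! n
  refine P.zN (ZQ (P.F.plane P.F' i (fun x x' => ?_) fun ρ m _ o ρ4 b => ?_))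
  · rw [← q0 z l, fix P a e, b6_pl', n.1, n.2]
    exact ⟨ym_pl _ _ (by rw [ci, zero_mul]), by ring⟩
  · have c1 : Commute ρ (qq z l w k) := cm_cj.2 (by rw [b.q, E0.Only.fix o n])
    have c2 : Commute d ρ := P.F.ex_cm a b ρ4 fun v => by
      ext j <;> by_cases hj : j = i <;> simp [Ym, Mx.ap, hj, ci, o j]
    rw [e]
    exact (c1.mul_right c2.symm).eq

theorem low {A : Type} [AddCommGroup A] [Finite A] (f : V6 →+ A) (hf : ∀ v, f v = 0 → Ym c v = v ∧ b6 w v = 0) :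
    2187 ≤ Nat.card (Qs z l ⊓ centralizer {y} : Subgroup G) * Nat.card A := by
  have k1 := f.ker.card_mul_index
  have k2 : f.ker.index ≤ Nat.card A := by
    rw [AddSubgroup.index_ker]
    exact Nat.card_le_card_of_injective _ Subtype.val_injective
  have k3 := card_le_of_le (show P.F.pre f.ker ≤ Qs z l ⊓ centralizer {y} from by
    rintro _ ⟨v, hv, m, rfl⟩
    exact ⟨qQ v m, mem_centralizer_singleton_iff.2 ((fix P a e).2 (hf v hv))⟩)
  rw [P.F.card_pre] at k3
  rw [card_V6] at k1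
  calc 2187 = 3 * Nat.card f.ker * f.ker.index := by rw [mul_assoc, k1]; rfl
    _ ≤ _ := Nat.mul_le_mul k3 k2

variable {p : V6} (fp : Ym c p = p) (wp : b6 w p = 1)
include fp wp

theorem l1 {x : X3} {m : F3} (h : qq z l (c * x, 0) m ∈ Qs y l') : c * x = 0 := by
  have := P.L1 (φ := Ym c) (κ := fun v => -b6 w (Ym c v)) (fun u v => by rw [ym_add, P.F.add_r, neg_add])
    (act P a e) fp (by rw [fp, wp]; decide) (v := (0, x)) (k := m) (by simpa [Ym] using h)
  exact ym_fix.1 this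

theorem rad {u : V6} (hu : u ∈ P.F.bar (Qs y l')) {v : V6} (fv : Ym c v = v) : b6 v u = b6 w v * b6 p u := by
  obtain ⟨m, hm⟩ := hu
  have f1 : Ym c (v - b6 w v • p) = v - b6 w v • p := by
    rw [ym_fix] at fv fp ⊢
    simp [mul_sub, fv, fp]
  have f2 : b6 w (v - b6 w v • p) = 0 := by
    rw [P.F.skew, b6_sm, P.F.skew p, P.F.skew v, wp]; ring
  have := (P.F.qcm _ _).1 (P.cE (qQ _ 0) ((fix P a e).2 ⟨f1, f2⟩) (qQ u m) hm)
  rwa [b6_sm, sub_eq_zero] at this

theorem rad2 {u : V6} (hu : u ∈ P.F.bar (Qs y l')) (j : Fin 3) : u.2 j = -w.2 j * b6 p u := by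
  have := rad P a e fp wp hu (ym_pl (i := j) 1 0 (mul_zero _))
  rw [b6_pl', P.F.skew, b6_pl'] at this
  linear_combination this

theorem rad1 {u : V6} (hu : u ∈ P.F.bar (Qs y l')) {j : Fin 3} (cj : c j = 0) : u.1 j = -w.1 j * b6 p u := by
  have := rad P a e fp wp hu (ym_pl (i := j) 0 1 (by rw [cj, zero_mul]))
  rw [b6_pl', P.F.skew, b6_pl'] at this
  linear_combination -this

theorem zero_of {u : V6} (hu : u ∈ P.F.bar (Qs y l')) (h : b6 p u = 0) : u = 0 := by
  have e1 : u = (c * (c * u.1), 0) := by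
    ext j
    · by_cases cj : c j = 0
      · simp [cj, rad1 P a e fp wp hu cj, h]
      · simp [← mul_assoc, (by decide : ∀ x : F3, x ≠ 0 → x * x = 1) _ cj]
    · simp [rad2 P a e fp wp hu j, h]
  obtain ⟨m, hm⟩ := hu
  rw [e1] at hm ⊢
  rw [l1 P a e fp wp hm]
  rfl

theorem cardE : Nat.card (Qs z l ⊓ Qs y l' : Subgroup G) ≤ 3 := by
  rw [inf_comm, P.F.card_bar' P.zN]
  refine (Nat.card_le_card_of_injective (fun u : P.F.bar (Qs y l') => b6 p u) fun u v h => Subtype.ext ?_).trans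
    (Nat.card_zmod 3).le
  exact sub_eq_zero.1 (zero_of P a e fp wp (sub_mem u.2 v.2) (by rw [P.F.sub_r, sub_eq_zero]; exact h))

theorem cardE1 {j : Fin 3} (cj : c j ≠ 0) (wj : w.2 j ≠ 0) : Nat.card (Qs z l ⊓ Qs y l' : Subgroup G) = 1 := by
  rw [inf_comm, P.F.card_bar' P.zN, AddSubgroup.card_eq_one, eq_bot_iff]
  intro u hu
  refine zero_of P a e fp wp hu ?_
  obtain ⟨m, hm⟩ := id hu
  have := congrFun (ym_fix.1 ((fix P a e).1 (P.F'.QH hm)).1) j
  rw [Pi.mul_apply, rad2 P a e fp wp hu j] at this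
  exact (by decide : ∀ a b c : F3, a ≠ 0 → b ≠ 0 → a * (-b * c) = 0 → c = 0) _ _ _ cj wj this

theorem notQ {j : Fin 3} (cj : c j ≠ 0) (wj : w.2 j = 0) {s : G} (ds : Dg y l' s)
    (hs : s * l (pl j 1 0) * s⁻¹ = (l (pl j 1 0))⁻¹) : False := by
  have m := P.F'.kt (by
    rw [← q0 z l, fix P a e, b6_pl', wj]
    exact ⟨ym_pl _ _ (mul_zero _), by ring⟩) (P.F.lcube _) ds hs
  have e1 : pl j 1 0 = (c * Pi.single j (c j), 0) := by
    ext i <;> by_cases hi : i = j <;> simp [pl, hi, (by decide : ∀ x : F3, x ≠ 0 → x * x = 1) _ cj]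
  rw [← q0 z l, e1] at m
  have := congrFun (l1 P a e fp wp m) j
  simp [cj] at this

omit fp wp in
theorem rcm {j : Fin 3} (w1 : w.1 j = 0) (w2 : w.2 j = 0) : Commute (r j) y := by
  have c1 : Commute (r j) (qq z l w k) := cm_cj.2 (by
    rw [P.F.rq]; congr 1
    ext i <;> by_cases hi : i = j <;> simp [ng, sg, hi, w1, w2])
  rw [e]
  exact c1.mul_right (P.F.ex_Ym a j).symm

omit fp wp in
theorem main (hw : ∀ j, c j ≠ 0 → w.1 j = 0) {i : Fin 3} (ci : c i = 0) : False := by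
  obtain ⟨x, x', wp⟩ := (by decide : ∀ s t : F3, (s ≠ 0 ∨ t ≠ 0) → ∃ x x', s * x' - t * x = 1) _ _ (nz P a e ci)
  rw [← b6_pl'] at wp
  have fp : Ym c (pl i x x') = pl i x x' := ym_pl _ _ (by rw [ci, zero_mul])
  have k1 := P.idx
  have k2 := cardE P a e fp wp
  have one : ∀ j, (∀ j', j' ≠ j → c j' = 0) → False := fun j hj => by
    have := low P a e (AddMonoidHom.mk' (fun v => (v.2 j, b6 w v)) fun u v => by simp [P.F.add_r]) fun v hv => by
      obtain ⟨h1, h2⟩ := Prod.ext_iff.1 hv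
      refine ⟨ym_fix.2 (funext fun j' => ?_), h2⟩
      by_cases h : j' = j
      · exact mul_eq_zero_of_right _ (h ▸ h1)
      · exact mul_eq_zero_of_left (hj j' h) _
    rw [Nat.card_prod, Nat.card_zmod] at this
    omega
  have ix : ∀ i j : Fin 3, j = i ∨ j = i + 1 ∨ j = i + 2 := by decide
  have c1 : c (i + 1) ≠ 0 := fun h => one (i + 2) fun j hj => by
    rcases ix i j with rfl | rfl | rfl
    exacts [ci, h, absurd rfl hj]
  have c2 : c (i + 2) ≠ 0 := fun h => one (i + 1) fun j hj => by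
    rcases ix i j with rfl | rfl | rfl
    exacts [ci, absurd rfl hj, h]
  have two : ∀ j, c j ≠ 0 → w.2 j = 0 := fun j hj => by
    by_contra wj
    have := low P a e (AddMonoidHom.mk' (fun v => (v.2 (i + 1), v.2 (i + 2), b6 w v)) fun u v => by
      simp [P.F.add_r]) fun v hv => by
        obtain ⟨h1, h2⟩ := Prod.ext_iff.1 hv
        obtain ⟨h2, h3⟩ := Prod.ext_iff.1 h2
        refine ⟨ym_fix.2 (funext fun j' => ?_), h3⟩
        rcases ix i j' with rfl | rfl | rfl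
        exacts [mul_eq_zero_of_left ci _, mul_eq_zero_of_right _ h1, mul_eq_zero_of_right _ h2]
    rw [Nat.card_prod, Nat.card_prod, Nat.card_zmod] at this
    rw [cardE1 P a e fp wp hj wj] at k1
    omega
  have r1 := rcm P a e (hw _ c1) (two _ c1)
  have r2 := rcm P a e (hw _ c2) (two _ c2)
  have inv : ∀ j, r j * l (pl j 1 0) * (r j)⁻¹ = (l (pl j 1 0))⁻¹ := fun j => by
    rw [(P.F.er j).act, ng_pl, P.F.linv]
  rcases P.F'.dg_two r1.eq r2.eq (P.F.r2 _) (P.F.r2 _) (P.F.rc _ _) with ds | ds | ds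
  · exact notQ P a e fp wp c1 (two _ c1) ds (inv _)
  · exact notQ P a e fp wp c2 (two _ c2) ds (inv _)
  · refine notQ P a e fp wp c1 (two _ c1) ds ?_
    rw [show ∀ a b x : G, a * b * x * (a * b)⁻¹ = a * (b * x * b⁻¹) * a⁻¹ by intros; group, (P.F.er _).act,
      ng_pl' _ _ ((by decide : ∀ i : Fin 3, i + 2 ≠ i + 1) i), inv]

end

end O2x

theorem Pr.noW (P : Pr z l r y l' r') {c : X3} (a : Ac z l y (Ym c)) (i : Fin 3) : c i ≠ 0 := by
  intro ci
  obtain ⟨n, hn, b⟩ := P.F.exists_ex a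
  obtain ⟨w, k, e⟩ := P.F.memQ.1 (inv_mem hn)
  refine O2x.main (P.conj (P.F.lz (0, c * w.1))) b (w := w + (-(c * (c * w.1)), 0))
    (k := b6 w (-(c * (c * w.1)), 0) + (k - b6 (0, c * w.1) w) + ∑ j, c j * ((c * w.1) j * (c * w.1) j)) ?_
    (fun j cj => ?_) ci
  · rw [← P.F.qmul, mul_assoc (qq z l w _), ← P.F.cj_Ym b, ← P.F.qcj _ w 0 k, q0, conj_mul, ← e,
      inv_mul_cancel_left]
  · simp [← mul_assoc, (by decide : ∀ x : F3, x ≠ 0 → x * x = 1) _ cj]

end H7.E3
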