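import Cfsg.Agent.Lib.E3L.O1
import Cfsg.Agent.Lib.E3L.O2

/-! `Z` is not weakly closed in `Q`. -/

set_option autoImplicit false
set_option linter.unusedSectionVars false

namespace H7.E3

open Subgroup Cfsg H7.F3
open H87.U6 (F3 f3_cases pw_add pw_zero pw_one pw_two pw_neg pw_mul pw_inj mem_zp cj_pw cm_cj)

variable {G : Type*} [Group G] [Finite G] {z y : G} {l l' : V6 → G} {r r' : Fin 3 → G} {J S : Subgroup G}

namespace O3x

theorem iso3 : ∀ c : X3, ∃ x : X3, x ≠ 0 ∧ ∑ i, c i * x i * x i = 0 := by decide +kernel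

theorem sq_one {c : X3} (hc : ∀ i, c i ≠ 0) (u : X3) : c * (c * u) = u := funext fun i =>
  (by decide : ∀ a b : F3, a ≠ 0 → a * (a * b) = b) _ _ (hc i)

theorem fix_a {c : X3} (hc : ∀ i, c i ≠ 0) {v : V6} (e : Ym c v = v) : v = (v.1, 0) := by
  have : c * v.2 = 0 := add_eq_left.1 (congrArg Prod.fst e)
  rw [← sq_one hc 0, mul_zero, ← this, sq_one hc]

theorem Ym_b (c u x : X3) : Ym c (u, x) - (u, x) = (c * x, 0) := by simp [Ym]

theorem b6_b (c u x : X3) : b6 (Ym c (u, x)) (u, x) = ∑ i, c i * x i * x i := by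
  simp only [b6, Ym, Pi.add_apply, Pi.mul_apply]
  exact Finset.sum_congr rfl fun i _ => by ring

theorem ng_sub : ∀ (j : Fin 3) (u : X3), ((u, 0) : V6) + -ng j (u, 0) = pl j (-u j) 0 := by decide +kernel
theorem ng_fix : ∀ (j : Fin 3) (u : X3), u j = 0 → ng j (u, 0) = (u, 0) := by decide +kernel
theorem neg_pl : ∀ j : Fin 3, pl j (-1) 0 = -pl j 1 0 := by decide +kernel
theorem perm_one : ∀ (j : Fin 3) (π : Equiv.Perm (Fin 3)), (∀ i, i ≠ j → π i = i) → π = 1 := by decide +kernel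

/-- the case that `y` centralizes `t` -/
theorem w0 (P : Pr z l r y l' r') {c : X3} (hc : ∀ i, c i ≠ 0) (e : Ex z l (r 0 * r 1 * r 2) y (Ym c)) :
    False := by
  have F := P.F
  have F' := P.F'
  have act : ∀ v m, y * qq z l v m * y⁻¹ = qq z l (Ym c v) ((fun _ => (0 : F3)) v + m) := fun v m => by
    rw [e.q, zero_add]
  have ry : ∀ i, r i * y = y * r i := fun i => (F.ex_Ym e i).symm
  have ay : ∀ i, l (pl i 1 0) * y = y * l (pl i 1 0) := fun i => (cm_cj.2 (by rw [e.act, pl_a, Ym_a])).symm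
  obtain ⟨j, hj⟩ : ∃ j, l (pl j 1 0) ∉ Qs y l' := by
    by_contra! n
    have k : ∀ u, l (u, 0) ∈ Qs y l' := fun u => by
      have s : ∀ i, l ((u i).val • (Pi.single i 1 : X3), 0) ∈ Qs y l' := fun i => by
        have := pow_mem (n i) (u i).val
        rwa [pl_a, F.la_pow, ← ZMod.natCast_zmod_val (u i), Nat.cast_smul_eq_nsmul] at this
      rw [x3_dec u, ← F.la_mul, ← F.la_mul]
      exact mul_mem (mul_mem (s 0) (s 1)) (s 2)
    obtain ⟨x, x0, hx⟩ := iso3 c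
    have := (fix_iff F.toA0 act).1 (P.st (qQ (0, x) 0) (by
      rw [cm_eq F.toA0 act, Ym_b, b6_b, hx, sub_zero, q0]; exact k _))
    exact x0 (congrArg Prod.snd (fix_a hc this.1))
  have inv : ∀ i, r i * l (pl i 1 0) * (r i)⁻¹ = (l (pl i 1 0))⁻¹ := fun i => by
    rw [(F.er i).act, ng_pl, F.linv]
  have aQ : ∀ i, i ≠ j → l (pl i 1 0) ∈ Qs y l' := fun i n => by
    rcases F'.dg_two (ry j) (ry i) (F.r2 j) (F.r2 i) (F.rc j i) with d | d | d
    · exact absurd (F'.kt (ay j) (F.lcube _) d (inv j)) hj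
    · exact F'.kt (ay i) (F.lcube _) d (inv i)
    · exact absurd (F'.kt (ay j) (F.lcube _) d (by
        rw [((F.er j).mul (F.er i)).act, ng_pl' i j n, ng_pl, F.linv])) hj
  have cE : ∀ x ∈ Qs z l, x ∈ Qs y l' → r j * x * (r j)⁻¹ = x := fun x hx hx' => by
    obtain ⟨v, k, rfl⟩ := F.memQ.1 hx
    have f := fix_a hc ((fix_iff F.toA0 act).1 (F'.QH hx')).1
    rw [f] at hx' ⊢
    have m := mul_mem hx' (inv_mem (F'.nQ' (ry j) hx'))
    rw [F.rq, F.qinv, F.qmul, ng_sub, show b6 (v.1, 0) (-ng j (v.1, 0)) = 0 by simp [b6, ng], zero_add,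
      add_neg_cancel, q0] at m
    rw [F.rq, ng_fix]
    rcases f3_cases (v.1 j) with h | h | h
    · exact h
    · rw [h, neg_pl, F.linv, inv_mem_iff] at m
      exact absurd m hj
    · rw [h] at m
      exact absurd m hj
  refine F.rne j (lemZ F'.toA0 (ry j) (F.r2 j) P.c.symm F.z3 (F.rz j) fun d hd dz => ?_)
  obtain ⟨π, m, dm, a⟩ := F.mon d dz
  obtain rfl : π = 1 := perm_one j π fun i n => by
    obtain ⟨k, f⟩ := a.2 (pl i 1 0)
    rw [cm_cj.1 (P.symm.cE hd dz (aQ i n) (lQ _)), ← q0 z l (pl i 1 0)] at f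
    by_contra n'
    simpa [Mx.ap, pm, pl, n'] using congrFun (congrArg Prod.fst (F.q_inj f).1) i
  have m1 := F.div_memQ' (F.ac_mul a (F.er j).ac) ((F.ac_mul (F.er j).ac a).congr fun v => (m.ap_ng j v).symm)
  have m2 := mul_mem (F'.nQ' (ry j) hd) (inv_mem hd)
  rw [mul_inv_rev, ← mul_assoc] at m1
  have e1 := cE _ m1 m2
  have e2 := F.Q3 m1
  have e3 : r j * (r j * d * (r j)⁻¹ * d⁻¹) * (r j)⁻¹ = (r j * d * (r j)⁻¹ * d⁻¹)⁻¹ := by
    calc _ = r j * r j * d * (r j)⁻¹ * d⁻¹ * (r j)⁻¹ := by group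
      _ = _ := by rw [F.r2, mul_inv_rev, mul_inv_rev, mul_inv_rev, inv_inv, inv_inv, F.rinv]; group
  rw [e1, eq_inv_iff_mul_eq_one] at e3
  rw [pow_succ, pow_two, e3, one_mul] at e2
  exact cm_cj.2 (mul_inv_eq_one.1 e2)

/-- singular elements outside `Q` have full weight -/
theorem fw (P : Pr z l r y l' r') {g : G} (hg : g ∈ Qs z l) {x : G} (e : y = x * g) (s : Std z l x) :
    ∃ c, Ac z l x (Ym c) := by
  obtain ⟨c, π, -, a⟩ := s
  obtain rfl : π = 1 := by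
    by_contra n
    exact P.noP n (e ▸ (P.F.ac_mul a (P.F.ac_Q hg) :))
  exact ⟨c, a⟩

section

variable (P : Pr z l r y l' r') {c : X3} (a : Ac z l y (Ym c)) {κ : V6 → F3}
  (ka : ∀ u v, κ (u + v) = κ u + κ v) (act : ∀ v m, y * qq z l v m * y⁻¹ = qq z l (Ym c v) (κ v + m))
include P a ka act

/-- `y` does not centralize `A` -/
theorem nz : ∃ u, κ (u, 0) ≠ 0 := by
  by_contra! n
  have F := P.F
  obtain ⟨u, δ, c', b, e⟩ := F.dec_A P.c fun u => by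
    rw [← q0 z l]; exact ((fix_iff F.toA0 act).2 ⟨Ym_a c u, n u⟩).symm
  have hc := P.noW (e ▸ (F.ac_mul (F.ac_Q (lQ (u, 0))) b.ac :) : Ac z l y (Ym c'))
  refine w0 (P.conj (F.lz (0, c' * u))) hc ?_
  rw [e, ← conj_mul, F.lcj, F.cj_Ym b, ← mul_assoc, F.qmul, sq_one hc,
    show ((u, 0) : V6) + (-u, 0) = 0 by simp, F.qz]
  exact (F.ex_z _).mul b

theorem E1 {x : G} (hx : x ∈ Qs z l) (hx' : x ∈ Qs y l') : x = 1 := by
  obtain ⟨u, hu⟩ := nz P a ka act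
  have hc := P.noW a
  obtain ⟨v, k, rfl⟩ := P.F.memQ.1 hx
  have f := fix_a hc ((fix_iff P.F.toA0 act).1 (P.F'.QH hx')).1
  rw [f] at hx' ⊢
  have e := Ym_b c 0 (c * v.1)
  rw [sq_one hc] at e
  rw [P.L1 ka act (Ym_a c u) hu (e ▸ hx'), sub_self] at e
  rw [← e] at hx' ⊢
  rw [P.e0 hx', P.F.q00]

/-- all elements of the coset `A y` are conjugate -/
theorem cjA (u : X3) (k : F3) : IsConj y (y * qq z l (u, 0) k) := by
  obtain ⟨w, hw⟩ := nz P a ka act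
  have hc := P.noW a
  obtain ⟨u', e⟩ : ∃ u', κ (u', 0) = -k - κ (0, c * -u) + ∑ i, c i * (c * -u) i * (c * -u) i := by
    have k0 : κ (0, 0) = 0 := (by simpa using ka 0 0 : κ 0 = 0)
    have k2 : κ (w + w, 0) = κ (w, 0) + κ (w, 0) := by rw [← ka]; simp
    rcases (by decide : ∀ a b : F3, a ≠ 0 → 0 = b ∨ a = b ∨ a + a = b) _ _ hw with f | f | f
    exacts [⟨0, k0.trans f⟩, ⟨w, f⟩, ⟨w + w, k2.trans f⟩]
  have := cm_eq P.F.toA0 act (u', c * -u) 0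
  rw [Ym_b, b6_b, sq_one hc, show ((u', c * -u) : V6) = (u', 0) + (0, c * -u) by simp, ka, e,
    show ∀ a b s : F3, -a - b + s + b - s = -a by intros; ring, show ((-u, 0) : V6) = -(u, 0) by simp,
    ← P.F.qinv, eq_comm, inv_eq_iff_eq_inv] at this
  refine isConj_iff.2 ⟨y * qq z l ((u', 0) + (0, c * -u)) 0, ?_⟩
  rw [this]; group

end

theorem ker2 {κ : V6 → F3} (ka : ∀ u v, κ (u + v) = κ u + κ v) : ∃ u : X3, u ≠ 0 ∧ κ (u, 0) = 0 := by
  have k2 : ∀ u w : X3, κ (u + w, 0) = κ (u, 0) + κ (w, 0) := fun u w => by rw [← ka]; simp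
  rcases (by decide : ∀ a b : F3, a = 0 ∨ b = 0 ∨ a + b = 0 ∨ a + a + b = 0) (κ (Pi.single 0 1, 0))
    (κ (Pi.single 1 1, 0)) with f | f | f | f
  · exact ⟨_, by decide, f⟩
  · exact ⟨_, by decide, f⟩
  · exact ⟨_, by decide, (k2 _ _).trans f⟩
  · exact ⟨Pi.single 0 1 + Pi.single 0 1 + Pi.single 1 1, by decide, by rw [k2, k2, f]⟩

theorem main (P : Pr z l r y l' r') (s : Std z l y) : False := by
  have F := P.F
  obtain ⟨c, a⟩ := fw P (one_mem _) (mul_one y).symm s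
  obtain ⟨κ, ka, act⟩ := F.ac_kap a
  obtain ⟨l₁, F₁, e, st⟩ := P.F'.adapt (T := Qs z l ⊓ centralizer {y}) F.pgQ.to_inf_left
    fun g hg => mem_centralizer_singleton_iff.1 hg.2
  have P₁ := P.symm.chg F₁ e
  obtain ⟨u, u0, hu⟩ := ker2 ka
  have key : ∀ w k, κ (w, 0) = 0 → qq z l (w, 0) k ≠ 1 →
      (∃ c, Ac y l₁ (qq z l (w, 0) k) (Ym c)) ∧ ∀ c, Ac y l₁ (qq z l (w, 0) k) (Ym c) → c 0 ≠ 0 := fun w k hw n => by
    have cm : qq z l (w, 0) k * y = y * qq z l (w, 0) k := (fix_iff F.toA0 act).2 ⟨Ym_a c w, hw⟩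
    obtain ⟨l₂, r₂, P₂⟩ := mkPr F₁ P₁.w (cjA P a ka act w k) (by rw [mul_assoc, cm]) fun m =>
      n (E1 P a ka act (qQ _ _) (e ▸ (mul_mem_cancel_left zQ).1 m))
    exact ⟨fw P₂ zQ cm.symm (st _ ⟨qQ _ _, mem_centralizer_singleton_iff.2 cm⟩),
      fun c b => P₂.noW (F₁.ac_mul (F₁.ac_Q zQ) b :) 0⟩
  have k0 : κ (0, 0) = 0 := (by simpa using ka 0 0 : κ 0 = 0)
  have nu : ∀ k, qq z l (u, 0) k ≠ 1 := fun k f => u0 (congrArg Prod.fst (F.q_one f).1)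
  obtain ⟨⟨c₁, a₁⟩, n₁⟩ := key 0 1 k0 fun f => absurd (F.q_one f).2 (by decide)
  obtain ⟨⟨c₂, a₂⟩, n₂⟩ := key u 0 hu (nu 0)
  have stp : ∀ k c, Ac y l₁ (qq z l (u, 0) k) (Ym c) → Ac y l₁ (qq z l (u, 0) (1 + k)) (Ym (c₁ + c)) := fun k c b => by
    have := (F₁.ac_mul a₁ b).congr (Ym_Ym c₁ c)
    rwa [F.qmul, b6_aa, zero_add, show ((0, 0) : V6) + (u, 0) = (u, 0) by simp] at this
  exact (by decide : ∀ a b : F3, a ≠ 0 → b ≠ 0 → a + b ≠ 0 → a + (a + b) ≠ 0 → False) _ _ (n₁ _ a₁) (n₂ _ a₂)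
    ((key u _ hu (nu _)).2 _ (stp _ _ a₂)) ((key u _ hu (nu _)).2 _ (stp _ _ (stp _ _ a₂)))

end O3x

theorem E0.one (h : E0 z l r) (nw : NW z) : ¬ WC z l := by
  intro w
  obtain ⟨g, c, n⟩ := nw
  obtain ⟨l', r', P⟩ := mkPr h w (isConj_iff.2 ⟨g, rfl⟩) c fun e => n (w g e)
  obtain ⟨l₁, F, e, s⟩ := h.adapt (T := zpowers (g * z * g⁻¹))
    (fun x => ⟨1, Subtype.ext (by simpa using P.F'.Q3 (ZQ x.2))⟩) fun x hx => by
      obtain ⟨k, rfl⟩ := (mem_zp P.F'.z3).1 hx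
      exact ((show Commute _ z from c).pow_left _).eq
  exact O3x.main (P.chg F e) (s _ (mem_zpowers _))

end H7.E3
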