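import Cfsg.Agent.Lib.E3L.Bas

/-! Pairs of commuting conjugates of `z`, each weakly closed in its own `Q`. -/

set_option autoImplicit false
set_option linter.unusedSectionVars false

namespace H7.E3

open Subgroup Cfsg H7.F3
open H87.U6 (F3 f3_cases pw_zero pw_one pw_two mem_zp cm_cj)

variable {G : Type*} [Group G] [Finite G]

structure Pr (z : G) (l : V6 → G) (r : Fin 3 → G) (y : G) (l' : V6 → G) (r' : Fin 3 → G) : Prop where
  F : E0 z l r
  F' : E0 y l' r'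
  c : y * z = z * y
  yN : y ∉ Qs z l
  zN : z ∉ Qs y l'
  w : WC z l
  w' : WC y l'
  cj : IsConj z y

variable {z y : G} {l l' : V6 → G} {r r' : Fin 3 → G}

theorem WC.conj (w : WC z l) (g : G) : WC (g * z * g⁻¹) fun v => g * l v * g⁻¹ := fun k hk => by
  have e : k * (g * z * g⁻¹) * k⁻¹ = g * (g⁻¹ * k * g * z * (g⁻¹ * k * g)⁻¹) * g⁻¹ := by group
  rw [e] at hk ⊢
  obtain ⟨n, hn⟩ := mem_zpowers_iff.1 (w _ (E0.mem_conj.1 hk))
  exact mem_zpowers_iff.2 ⟨n, by rw [← hn, conj_zpow]⟩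

theorem mkPr (F : E0 z l r) (w : WC z l) (cj : IsConj z y) (c : y * z = z * y) (yQ : y ∉ Qs z l) :
    ∃ l' r', Pr z l r y l' r' := by
  obtain ⟨g, rfl⟩ := isConj_iff.1 cj
  have F' := F.conj g
  refine ⟨_, _, F, F', c, yQ, fun hz => yQ ?_, w, w.conj g, cj⟩
  have e : g⁻¹ * (g * z * g⁻¹) * g⁻¹⁻¹ = z := by group
  obtain ⟨k, hk⟩ := (mem_zp F'.z3).1 (e ▸ w.conj g g⁻¹ (by rwa [e]))
  rcases f3_cases k with rfl | rfl | rfl
  · exact absurd (hk.trans (pw_zero _)) F.z1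
  · rw [pw_one] at hk
    rw [← hk]; exact zQ
  · rw [pw_two F'.z3] at hk
    exact inv_mem_iff.1 (by rw [← hk]; exact zQ)

section Act

variable {t : G} (h : A0 b6 z l t) {φ : V6 → V6} {κ : V6 → F3}
  (act : ∀ v m, y * qq z l v m * y⁻¹ = qq z l (φ v) (κ v + m))
include h act

theorem fix_iff {v : V6} {m : F3} : qq z l v m * y = y * qq z l v m ↔ φ v = v ∧ κ v = 0 := by
  rw [eq_comm, cm_cj, act]
  exact ⟨fun e => ⟨(h.q_inj e).1, add_eq_right.1 (h.q_inj e).2⟩, fun e => by rw [e.1, e.2, zero_add]⟩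

theorem cm_eq (v : V6) (m : F3) :
    y * qq z l v m * y⁻¹ * (qq z l v m)⁻¹ = qq z l (φ v - v) (κ v - b6 (φ v) v) := by
  rw [act, h.qinv, h.qmul, h.neg_r, ← sub_eq_add_neg]
  congr 1; ring

end Act

namespace Pr

variable (P : Pr z l r y l' r')
include P

theorem symm : Pr y l' r' z l r := ⟨P.F', P.F, P.c.symm, P.zN, P.yN, P.w', P.w, P.cj.symm⟩

/-- conjugation of `y` inside `C(z)` -/
theorem conj {k : G} (kz : k * z = z * k) :
    Pr z l r (k * y * k⁻¹) (fun v => k * l' v * k⁻¹) fun i => k * r' i * k⁻¹ :=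
  ⟨P.F, P.F'.conj k, (((show Commute k z from kz).mul_left P.c).mul_left (show Commute k z from kz).inv_left).eq,
    fun e => P.yN (by simpa [mul_assoc] using P.F.nQ' (show Commute k z from kz).inv_left.eq e),
    fun e => P.zN (E0.mem_conj.1 (by rwa [cm_cj.1 kz])), P.w, P.w'.conj k, P.cj.trans (isConj_iff.2 ⟨k, rfl⟩)⟩

/-- another frame for the same `Q` -/
theorem chg {l₁ : V6 → G} {r₁ : Fin 3 → G} (F : E0 z l₁ r₁) (e : Qs z l₁ = Qs z l) : Pr z l₁ r₁ y l' r' :=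
  ⟨F, P.F', P.c, e ▸ P.yN, P.zN, fun g => e ▸ P.w g, P.w', P.cj⟩

theorem e0 {k : F3} (h : qq z l 0 k ∈ Qs y l') : k = 0 := P.F.bar_uniq P.zN h (P.F.q00 ▸ one_mem _)

/-- `C_Q(y)` centralizes `Q ∩ Q'` -/
theorem cE {d e : G} (hd : d ∈ Qs z l) (dy : d * y = y * d) (he : e ∈ Qs z l) (he' : e ∈ Qs y l') :
    d * e = e * d := by
  obtain ⟨k, hk⟩ := (mem_zp P.F.z3).1 (P.F.comm_zp hd he)
  have m := mul_mem (P.F'.nQ' dy he') (inv_mem he')
  rw [hk, ← P.F.qz] at m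
  rw [P.e0 m, pw_zero] at hk
  exact cm_cj.2 (mul_inv_eq_one.1 hk)

theorem idx : Nat.card (Qs z l ⊓ centralizer {y} : Subgroup G) ≤ 27 * Nat.card (Qs z l ⊓ Qs y l' : Subgroup G) := by
  have k := P.F'.idx27 (T := Qs z l ⊓ centralizer {y}) (fun x hx => P.F.Q3 hx.1)
    fun x hx => mem_centralizer_singleton_iff.1 hx.2
  rwa [inf_assoc, inf_eq_right.2 (show Qs y l' ≤ centralizer {y} from
    fun x hx => mem_centralizer_singleton_iff.2 (P.F'.QH hx))] at k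

/-- a commutator `[y, q]` in `Q'` is trivial -/
theorem st {q : G} (hq : q ∈ Qs z l) (h : y * q * y⁻¹ * q⁻¹ ∈ Qs y l') : q * y = y * q := by
  have h1 : q * y * q⁻¹ ∈ Qs y l' := by
    have := mul_mem (inv_mem h) (zQ (z := y) (l := l'))
    rwa [show (y * q * y⁻¹ * q⁻¹)⁻¹ * y = q * y * q⁻¹ by group] at this
  have h2 : q * y * q⁻¹ * y⁻¹ ∈ Qs z l := by
    have := mul_mem hq (P.F.nQ' P.c (inv_mem hq))
    rwa [← mul_assoc, ← mul_assoc] at this
  obtain ⟨k, hk⟩ := (mem_zp P.F'.z3).1 (P.w' _ h1)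
  rcases f3_cases k with rfl | rfl | rfl
  · exact absurd (by simpa using hk) P.F'.z1
  · exact cm_cj.2 (hk.trans (pw_one y))
  · rw [hk, pw_two P.F'.z3, ← mul_inv_rev, inv_mem_iff, ← pow_two, ← show (2 : F3).val = 2 from rfl,
      pw_two P.F'.z3, inv_mem_iff] at h2
    exact absurd h2 P.yN

/-- if `y` is conjugate to `y z` under `Q`, then `[V, y]` meets the image of `Q ∩ Q'` trivially -/
theorem L1 {φ : V6 → V6} {κ : V6 → F3} (ka : ∀ u v, κ (u + v) = κ u + κ v)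
    (act : ∀ v m, y * qq z l v m * y⁻¹ = qq z l (φ v) (κ v + m)) {a : V6} (fa : φ a = a) (na : κ a ≠ 0)
    {v : V6} {k : F3} (e : qq z l (φ v - v) k ∈ Qs y l') : φ v = v := by
  have h := P.F.toA0
  have A : Ac z l y φ := ⟨P.c, fun v => ⟨κ v + 0, by rw [← q0 z l, act]⟩⟩
  have step : ∀ v, φ (v + a) - (v + a) = φ v - v ∧
      κ (v + a) - b6 (φ (v + a)) (v + a) = κ v - b6 (φ v) v + κ a := fun v => by
    have e1 := h.ac_be A v a
    rw [fa] at e1
    rw [h.ac_add A, fa, ka, h.add_l, h.add_r, h.add_r, h.alt, e1, h.skew a v]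
    exact ⟨by abel, by ring⟩
  have fin : ∀ w, φ w - w = φ v - v → κ w - b6 (φ w) w = k → φ v = v := fun w e1 e2 => by
    have := (fix_iff h act).1 (P.st (qQ w 0) (by rwa [cm_eq h act, e1, e2]))
    rwa [this.1, sub_self, eq_comm, sub_eq_zero] at e1
  rcases (by decide : ∀ a b k : F3, a ≠ 0 → b = k ∨ b + a = k ∨ b + a + a = k) _ (κ v - b6 (φ v) v) k na with f | f | f
  · exact fin v rfl f
  · exact fin _ (step v).1 ((step v).2.trans f)
  · exact fin _ ((step _).1.trans (step v).1) (by rw [(step _).2, (step v).2, f])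

end Pr

end H7.E3
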