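import Cfsg.Agent.Lib.E3L.Fj
import Cfsg.Agent.Lib.U20.Loc

/-! The 3-local configuration of `²E₆(2)`: intermediate structures. -/

set_option autoImplicit false

namespace H7.E3

open Subgroup Cfsg H7.F3 H94.U20

variable {G : Type*} [Group G]

/-- `g` interchanges `z` and `l (1, 0)` -/
structure Tw (z : G) (l : V6 → G) (r : Fin 3 → G) (g : G) : Prop extends E0 z l r where
  gz : g * z * g⁻¹ = l (1, 0)
  gy : g * l (1, 0) * g⁻¹ = z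
  sum : ∀ x c, Ac z l x (Ym c) → ∑ i, c i = 0
  sig : ∃ σ c, Ex z l (r 0 * r 1 * r 2) σ fun v => Ym c (pm ro v)
  cm : ∀ u u', g * l (u, 0) * g⁻¹ * l (u', 0) = l (u', 0) * (g * l (u, 0) * g⁻¹)
  cst : ∀ u, ∃ k : H87.U6.F3, Ac z l (g * l (u, 0) * g⁻¹) (Ym fun _ => k)
  out : ∃ u, g * l (u, 0) * g⁻¹ ∉ Qs z l
  nW : ∀ u, ∑ i, u i = 0 → ∃ u' k, g * l (u, 0) * g⁻¹ = qq z l (u', 0) k

/-- signalizer uniqueness in `C(r 0, a j)` -/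
def Sig (z : G) (l : V6 → G) (r : Fin 3 → G) (S : Subgroup G) : Prop :=
  ∀ j k : Fin 3, j ≠ 0 → k ≠ 0 → j ≠ k → ∀ X : Subgroup G, (Nat.card X).Coprime 3 →
    (∀ x ∈ X, x * r 0 = r 0 * x ∧ x * l (pl j 1 0) = l (pl j 1 0) * x ∧
      (∀ a b, l (pl k a b) * x * (l (pl k a b))⁻¹ ∈ X) ∧
      ∀ δ c, Ex z l (r 0 * r 1 * r 2) δ (Ym c) → c k = 0 → δ * x * δ⁻¹ ∈ X) → X ≤ S

theorem eqns_tw : True := by
  have := @Sig.eq_1.{0}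
  trivial

/-- `H94.U20.KF` with the embedding hypothesis for two elements only -/
structure KG (A : Subgroup G) (q : G → ZMod 2) (β : G → G → ZMod 2) : Prop where
  sq : ∀ a ∈ A, a * a = 1
  k1 : ∀ g, cn g A = A → ∀ U ≤ A, Nat.card A ≤ 8 * Nat.card U → (∀ u ∈ U, g * u = u * g) → g ∈ A
  k2 : ∀ B : Subgroup G, (∀ b ∈ B, b * b = 1 ∧ cn b A = A) → ∀ A₀ ≤ A,
    (∀ a ∈ A, ∀ a' ∈ A, a ∉ A₀ → a' ∉ A₀ → a * a' ∈ A₀) →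
    (∀ a ∈ A₀, ∀ b ∈ B, ∀ c ∈ B, c * (b * a * b⁻¹ * a) = b * a * b⁻¹ * a * c) →
    ∀ U ≤ A, (∀ b ∈ B, ∀ u ∈ U, b * u = u * b) →
    Nat.card A * Nat.card ↥(B ⊓ A) ≤ 2 * (Nat.card U * Nat.card B) → B ≤ A
  pol : ∀ a b, β a b = q (a * b) + q a + q b
  add : ∀ a ∈ A, ∀ b ∈ A, ∀ c ∈ A, β a (b * c) = β a b + β a c
  inv : ∀ g, cn g A = A → ∀ a ∈ A, q (g * a * g⁻¹) = q a
  nd : ∀ a ∈ A, (∀ b ∈ A, β a b = 0) → a = 1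
  k4 : ∃ x y, cn x A = A ∧ cn y A = A ∧ x ^ 3 = 1 ∧ y ^ 3 = 1 ∧ x * y = y * x ∧
    (∀ a ∈ A, x * a = a * x → y * a = a * y → a = 1) ∧ (∀ g, g * x = x * g → cn g A = A) ∧
    ∀ g, g * y = y * g → cn g A = A

end H7.E3
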