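import Cfsg.Agent.Lib.E3L.Tw
import Cfsg.Agent.Lib.U63.Gen
import Cfsg.Agent.Lib.U63.Q

/-! The centralizer of `a j` modulo `a j`: the extraspecial group of order `3 ^ 5`. -/

set_option autoImplicit false
set_option linter.unusedSectionVars false

namespace H7.E3

open Subgroup Cfsg H7.F3
open H87.U6 (F3 f3_cases pw_add pw_zero pw_one pw_two pw_neg pw_mul pw_inj mem_zp cj_pw cm_cj)

variable {G : Type*} [Group G] [Finite G] {z y : G} {l : V6 → G} {r : Fin 3 → G} {J : Subgroup G}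

namespace YAx

open H87.U6 (V be cm_inv cm_mul cm_pow cm_conj)

/-! ### coordinates -/

/-- the planes `0` and `-j` -/
def em (j : Fin 3) (x : V) : V6 := pl 0 x.1 x.2.1 + pl (-j) x.2.2.1 x.2.2.2
def pr (j : Fin 3) (w : V6) : V := (w.1 0, w.2 0, w.1 (-j), w.2 (-j))
def e5 (j : Fin 3) (x : V) : V5 := (x.1, Pi.single 0 x.2.1 + Pi.single (-j) x.2.2.1, x.2.2.2)
def p5 (j : Fin 3) (x : V5) : V := (x.1, x.2.1 0, x.2.1 (-j), x.2.2)
/-- an element of order four on the plane `i` -/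
def mI (i : Fin 3) : Mx := ⟨fun x => if x = i then 0 else 1, fun x => if x = i then -1 else 0,
  fun x => if x = i then 1 else 0, fun x => if x = i then 0 else 1⟩

theorem eqns_ya : True := by
  have := @em.eq_1
  have := @pr.eq_1
  have := @e5.eq_1
  have := @p5.eq_1
  have := @mI.eq_1
  trivial

variable {j : Fin 3}

theorem j12 : ∀ {j : Fin 3}, j ≠ 0 → j = 1 ∨ j = 2 := by decide
theorem n1 : (-1 : Fin 3) = 2 := rfl
theorem n2 : (-2 : Fin 3) = 1 := rfl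
attribute [local simp] n1 n2
theorem jn : ∀ {j : Fin 3}, j ≠ 0 → -j ≠ 0 ∧ -j ≠ j ∧ j ≠ -j := by decide

theorem em_add (u v : V) : em j (u + v) = em j u + em j v := by
  simp only [em, pl, Prod.fst_add, Prod.snd_add, Pi.single_add, Prod.mk_add_mk]; congr 1 <;> abel

theorem em_neg (hj : j ≠ 0) (u : V) : ng 0 (ng (-j) (em j u)) = em j (-u) := by
  rcases j12 hj with rfl | rfl <;> ext i <;> fin_cases i <;> simp [em, pl, ng, sg]

theorem b6_em (hj : j ≠ 0) (u v : V) : b6 (em j u) (em j v) = be u v := by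
  rcases j12 hj with rfl | rfl <;> simp [b6_eq, em, pl, be]

theorem b6_a (w : V6) (m : F3) : b6 w (pl j m 0) = -(w.2 j * m) := by
  simp [b6, pl, Pi.single_apply]

theorem em_j (hj : j ≠ 0) (u : V) : (em j u).1 j = 0 ∧ (em j u).2 j = 0 := by
  simp [em, pl, hj, (jn hj).2.2]

theorem pr_em (hj : j ≠ 0) (u : V) (m : F3) : pr j (em j u + pl j m 0) = u := by
  rcases j12 hj with rfl | rfl <;> simp [em, pl, pr]

theorem em_pr (hj : j ≠ 0) {w : V6} (e : w.2 j = 0) : em j (pr j w) + pl j (w.1 j) 0 = w := by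
  rcases j12 hj with rfl | rfl <;> ext i <;> fin_cases i <;> simp [em, pl, pr, e]

theorem be_nd : ∀ w : V, (∀ v, be w v = 0) → w = 0 := fun w hw => by
  have a := hw (1, 0, 0, 0)
  have b := hw (0, 1, 0, 0)
  have c := hw (0, 0, 1, 0)
  have d := hw (0, 0, 0, 1)
  simp [be] at a b c d
  exact Prod.ext b (Prod.ext a (Prod.ext d c))

theorem em0 (a b : F3) : em j (a, b, 0, 0) = pl 0 a b := by simp [em, pl]
theorem emk (a b : F3) : em j (0, 0, a, b) = pl (-j) a b := by simp [em, pl]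

/-! ### the centralizer of `d` modulo `d` -/

abbrev Kc (d : G) : Subgroup G := centralizer {d}

instance nrm (d : G) : ((zpowers d).subgroupOf (Kc d)).Normal := ⟨fun n hn g => by
  obtain ⟨k, e⟩ := mem_subgroupOf.1 hn
  have c : Commute (g : G) n := e ▸ (show Commute (g : G) d from mem_centralizer_singleton_iff.1 g.2).zpow_right k
  rw [mem_subgroupOf, coe_mul, coe_mul, coe_inv, c.eq, mul_inv_cancel_right]
  exact hn⟩

abbrev Kb (d : G) := Kc d ⧸ (zpowers d).subgroupOf (Kc d)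

/-- the projection -/
def pj {d : G} (g : G) (c : g * d = d * g) : Kb d := QuotientGroup.mk ⟨g, mem_centralizer_singleton_iff.2 c⟩

section
variable {d g g' : G}

theorem pj_mul (c : g * d = d * g) (c' : g' * d = d * g') : pj g c * pj g' c' = pj (g * g') (cm_mul c c') := rfl
theorem pj_inv (c : g * d = d * g) : (pj g c)⁻¹ = pj g⁻¹ (cm_inv c) := rfl
theorem pj_pow (c : g * d = d * g) (n : ℕ) : pj g c ^ n = pj (g ^ n) (cm_pow c n) := by
  rw [pj, pj, ← QuotientGroup.mk_pow]; rfl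
theorem pj_one (d : G) : (1 : Kb d) = pj 1 (by simp) := rfl
theorem pj_sur (x : Kb d) : ∃ g c, x = pj g c := by
  obtain ⟨⟨g, c⟩, rfl⟩ := QuotientGroup.mk_surjective x
  exact ⟨g, mem_centralizer_singleton_iff.1 c, rfl⟩
theorem pj_congr {c : g * d = d * g} {c' : g' * d = d * g'} (e : g = g') : pj g c = pj g' c' := by
  subst e; rfl
theorem pj_1 {c : g * d = d * g} (e : g = 1) : pj g c = 1 := by subst e; rfl
theorem pj_eq (d3 : d ^ 3 = 1) {c : g * d = d * g} {c' : g' * d = d * g'} :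
    pj g c = pj g' c' ↔ ∃ m : F3, g = g' * d ^ m.val := by
  rw [eq_comm, pj, pj, QuotientGroup.eq, mem_subgroupOf, mem_zp d3]
  exact exists_congr fun m => inv_mul_eq_iff_eq_mul

theorem pj_cj (c : g * d = d * g) (c' : g' * d = d * g') :
    pj g c * pj g' c' * (pj g c)⁻¹ = pj (g * g' * g⁻¹) (cm_mul (cm_mul c c') (cm_inv c)) := rfl
theorem pj_cm (d3 : d ^ 3 = 1) {c : g * d = d * g} {c' : g' * d = d * g'}
    (e : pj g c * pj g' c' = pj g' c' * pj g c) : ∃ m : F3, g * g' * g⁻¹ = g' * d ^ m.val := by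
  rwa [cm_cj, pj_cj, pj_eq d3] at e

theorem one_of {b : G} (b3 : b ^ 3 = 1) (b4 : b ^ 4 = 1) : b = 1 := by rwa [pow_succ, b3, one_mul] at b4

theorem pw3 (d3 : d ^ 3 = 1) (n : ℕ) : (d ^ n) ^ 3 = 1 := by rw [← pow_mul, mul_comm, pow_mul, d3, one_pow]

/-- 2-elements are determined by their images -/
theorem eq4 (d3 : d ^ 3 = 1) {c : g * d = d * g} {c' : g' * d = d * g'} (e : pj g c = pj g' c')
    (g4 : g ^ 4 = 1) (g4' : g' ^ 4 = 1) : g = g' := by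
  obtain ⟨m, rfl⟩ := (pj_eq d3).1 e
  rw [((show Commute g' d from c').pow_right _).mul_pow, g4', one_mul] at g4
  rw [one_of (pw3 d3 _) g4, mul_one]

theorem cm4 (d3 : d ^ 3 = 1) {c : g * d = d * g} {c' : g' * d = d * g'}
    (e : pj g c * pj g' c' = pj g' c' * pj g c) (g4 : g ^ 4 = 1) : g * g' = g' * g :=
  (cm_cj.2 (eq4 d3 ((pj_cj c' c).symm.trans (cm_cj.1 e.symm)) (by rw [conj_pow, g4]; simp) g4)).symm

theorem lift4 (d3 : d ^ 3 = 1) {x : Kb d} (e : x ^ 4 = 1) : ∃ g c, x = pj g c ∧ g ^ 4 = 1 := by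
  obtain ⟨g, c, rfl⟩ := pj_sur x
  rw [pj_pow, pj_one] at e
  obtain ⟨m, e⟩ := (pj_eq d3).1 e
  refine ⟨g * (d ^ m.val)⁻¹, cm_mul c (cm_inv (cm_pow rfl _)), (pj_eq d3).2 ⟨m, by simp⟩, ?_⟩
  rw [((show Commute g d from c).pow_right _).inv_right.mul_pow, e, inv_pow, pow_succ (d ^ _), pw3 d3]
  simp

/-- the image of a subgroup -/
def im (d : G) (X : Subgroup G) : Subgroup (Kb d) := (X.subgroupOf (Kc d)).map (QuotientGroup.mk' _)

theorem mem_im {X : Subgroup G} {x : Kb d} : x ∈ im d X ↔ ∃ g ∈ X, ∃ c, x = pj g c :=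
  ⟨by rintro ⟨⟨g, c⟩, hg, rfl⟩; exact ⟨g, hg, mem_centralizer_singleton_iff.1 c, rfl⟩,
    by rintro ⟨g, hg, c, rfl⟩; exact ⟨⟨g, mem_centralizer_singleton_iff.2 c⟩, hg, rfl⟩⟩

theorem pj_im (d3 : d ^ 3 = 1) {X : Subgroup G} (hd : d ∈ X) {c : g * d = d * g} : pj g c ∈ im d X ↔ g ∈ X :=
  ⟨fun e => by
    obtain ⟨g', hg, c', e⟩ := mem_im.1 e
    obtain ⟨m, rfl⟩ := (pj_eq d3).1 e
    exact mul_mem hg (pow_mem hd _), fun e => mem_im.2 ⟨g, e, c, rfl⟩⟩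

end

/-! ### the configuration in `C(a j) / ⟨a j⟩` -/

structure Cx (z : G) (l : V6 → G) (r : Fin 3 → G) (y : G) (J : Subgroup G) (j : Fin 3) : Prop
    extends St z l r y J where
  j0 : j ≠ 0

theorem pi_pl {m : Mx} {π : Equiv.Perm (Fin 3)} {i : Fin 3} {n : F3} (ij : i ≠ j)
    (e : m.ap (pm π (pl i 1 0)) = pl i 1 0 + pl j n 0) : π i = i ∧ n = 0 := by
  have e1 := congrFun (congrArg Prod.fst e) i
  have e2 := congrFun (congrArg Prod.fst e) j
  have p : π i = i := by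
    by_contra n
    simp [Mx.ap, pm, pl, n, ij] at e1
  have p' : π j ≠ i := fun e => ij (π.injective (p.trans e.symm))
  exact ⟨p, by simpa [Mx.ap, pm, pl, p', ij.symm] using e2.symm⟩

theorem fix_i {m : Mx} {π : Equiv.Perm (Fin 3)} {i : Fin 3} {n : F3} (ij : i ≠ j)
    (e : m.ap (pm π (pl i 1 0)) = pl i 1 0 + pl j n 0) : m.ap (pm π (pl i 1 0)) = pl i 1 0 := by
  rw [e, (pi_pl ij e).2]; simp [pl]

theorem fix_all (j0 : j ≠ 0) {m : Mx} (a : m.ap (pl 0 1 0) = pl 0 1 0) (b : m.ap (pl (-j) 1 0) = pl (-j) 1 0)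
    (c : m.ap (pl j 1 0) = pl j 1 0) : m.ap (1, 0) = (1, 0) := by
  have k : ∀ i, m.ap (pl i 1 0) = pl i 1 0 → m.a i = 1 ∧ m.c i = 0 := fun i e =>
    ⟨by simpa [Mx.ap, pl] using congrFun (congrArg Prod.fst e) i,
      by simpa [Mx.ap, pl] using congrFun (congrArg Prod.snd e) i⟩
  ext i <;> rcases (by decide : ∀ j i : Fin 3, j ≠ 0 → i = 0 ∨ i = -j ∨ i = j) j i j0 with rfl | rfl | rfl <;>
    simp [Mx.ap, k _ a, k _ b, k _ c]

namespace Cx

variable (h : Cx z l r y J j)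
include h

theorem a3 : l (pl j 1 0) ^ 3 = 1 := h.lcube _

theorem ap (m : F3) : l (pl j 1 0) ^ m.val = l (pl j m 0) := by
  rw [pl_a, pl_a, h.la_pow, ← Pi.single_smul, smul_eq_mul, mul_one]

theorem qa {w : V6} (e : w.2 j = 0) (k m : F3) :
    qq z l w k * l (pl j 1 0) ^ m.val = qq z l (w + pl j m 0) k := by
  rw [h.ap, ← q0 z l, h.qmul, b6_a, e]; simp

theorem la (u : V) (m : F3) : l (em j u) * l (pl j 1 0) ^ m.val = qq z l (em j u + pl j m 0) 0 := by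
  rw [← q0 z l (em j u), h.qa (em_j h.j0 u).2]

theorem cq {w : V6} {k : F3} : qq z l w k * l (pl j 1 0) = l (pl j 1 0) * qq z l w k ↔ w.2 j = 0 := by
  rw [← q0 z l (pl j 1 0), h.qcm, b6_a]; simp

theorem aJ' : l (pl j 1 0) ∈ J := pl_a j 1 ▸ h.aJ _
theorem cJ {g : G} (hg : g ∈ J) : g * l (pl j 1 0) = l (pl j 1 0) * g := h.Jc _ hg _ h.aJ'
theorem lc (u : V) : l (em j u) * l (pl j 1 0) = l (pl j 1 0) * l (em j u) :=
  q0 z l (em j u) ▸ h.cq.2 (em_j h.j0 u).2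
theorem rc' {i : Fin 3} (n : i ≠ j) : r i * l (pl j 1 0) = l (pl j 1 0) * r i :=
  cm_cj.2 (by rw [(h.er i).act, ng_pl' _ _ n])

def zb : Kb (l (pl j 1 0)) := pj z (h.cJ h.zJ)
def lb (u : V) : Kb (l (pl j 1 0)) := pj (l (em j u)) (h.lc u)
def tb : Kb (l (pl j 1 0)) := pj (r 0 * r (-j)) (cm_mul (h.rc' h.j0.symm) (h.rc' (jn h.j0).2.1))
def yb : Kb (l (pl j 1 0)) := pj y (h.cJ h.yJ)

/-- the plane `⟨g z g⁻¹, a⟩` has only one singular point -/
theorem key {g : G} (c : g * l (pl j 1 0) = l (pl j 1 0) * g) {m : F3}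
    (e : IsConj z (g * z * g⁻¹ * l (pl j 1 0) ^ m.val)) : m = 0 := by
  obtain ⟨n, e⟩ := isConj_iff.1 e
  have e' : g⁻¹ * n * z * (g⁻¹ * n)⁻¹ = qq z l (0 + pl j m 0) 1 := by
    rw [← h.qa rfl, h.q01, show g⁻¹ * n * z * (g⁻¹ * n)⁻¹ = g⁻¹ * (n * z * n⁻¹) * g by group, e, mul_assoc,
      mul_assoc, (cm_pow c.symm _), ← mul_assoc]
    group
  by_contra m0
  simpa [pl, h.j0.symm] using h.full e' (fun e => m0 (by simpa [pl] using congrFun (congrArg Prod.fst e) j)) 0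

theorem lift_z {g : G} {c : g * l (pl j 1 0) = l (pl j 1 0) * g} (e : pj g c * h.zb = h.zb * pj g c) :
    g * z = z * g := by
  obtain ⟨m, e⟩ := (pj_eq h.a3).1 ((pj_cj c _).symm.trans (cm_cj.1 e)).symm
  rw [h.key c (m := m) (e ▸ IsConj.refl z), pw_zero, mul_one] at e
  exact cm_cj.2 e.symm

theorem pj_q {w : V6} {k : F3} (c : qq z l w k * l (pl j 1 0) = l (pl j 1 0) * qq z l w k) :
    pj (qq z l w k) c = h.lb (pr j w) * h.zb ^ k.val := by
  rw [zb, lb, pj_pow, pj_mul, pj_eq h.a3]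
  exact ⟨w.1 j, ((h.qa (em_j h.j0 _).2 k _).trans (by rw [em_pr h.j0 (h.cq.1 c)])).symm⟩

theorem pj_Q {g : G} (hg : g ∈ Qs z l) (c : g * l (pl j 1 0) = l (pl j 1 0) * g) :
    pj g c ∈ H87.U6.Qs h.zb h.lb := by
  obtain ⟨w, k, rfl⟩ := h.memQ.1 hg
  rw [h.pj_q]
  have z1 : h.zb ∈ H87.U6.Qs h.zb h.lb := Subgroup.subset_closure (Or.inl rfl)
  exact mul_mem (Subgroup.subset_closure (Or.inr ⟨_, rfl⟩)) (pow_mem z1 _)

theorem zb3 : h.zb ^ 3 = 1 := by rw [zb, pj_pow]; exact pj_1 h.z3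

/-- the action on `V` of an element fixing `lb u` -/
theorem fx {g : G} {c : g * l (pl j 1 0) = l (pl j 1 0) * g} {φ : V6 → V6} (a : Ac z l g φ) {u : V}
    (e : pj g c * h.lb u = h.lb u * pj g c) : ∃ m, φ (em j u) = em j u + pl j m 0 ∧
      g * l (em j u) * g⁻¹ = qq z l (em j u + pl j m 0) 0 := by
  obtain ⟨m, e⟩ := pj_cm h.a3 e
  obtain ⟨k, e'⟩ := a.2 (em j u)
  rw [h.la] at e
  exact ⟨m, (h.q_inj (e'.symm.trans e)).1, e⟩

theorem fxa {g : G} (c : g * l (pl j 1 0) = l (pl j 1 0) * g) {φ : V6 → V6} (a : Ac z l g φ) :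
    φ (pl j 1 0) = pl j 1 0 := by
  obtain ⟨k, e⟩ := a.2 (pl j 1 0)
  exact (h.q_inj (e.symm.trans ((cm_cj.1 c).trans (q0 z l _).symm))).1

theorem cQ' {g : G} (c : g * l (pl j 1 0) = l (pl j 1 0) * g) (gz : g * z = z * g)
    (e : ∀ u, pj g c * h.lb u = h.lb u * pj g c) : pj g c ∈ zpowers h.zb := by
  have j0 := h.j0
  obtain ⟨π, m, d, a⟩ := h.mon g gz
  choose n f f' using fun u => h.fx a (e u)
  have p0 := (pi_pl j0.symm (em0 (j := j) 1 0 ▸ f (1, 0, 0, 0))).1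
  have pk := (pi_pl (jn j0).2.1 (emk (j := j) 1 0 ▸ f (0, 0, 1, 0))).1
  obtain rfl : π = 1 :=
    (by decide : ∀ j : Fin 3, j ≠ 0 → ∀ π : Equiv.Perm (Fin 3), π 0 = 0 → π (-j) = -j → π = 1) j j0 π p0 pk
  have fa := h.fxa c a
  have f1 := f (1, 0, 0, 0)
  have f2 := f (0, 1, 0, 0)
  have f3 := f (0, 0, 1, 0)
  have f4 := f (0, 0, 0, 1)
  have b := a.congr (std_of_fix d (π := 1) (by
    rw [em0] at f1
    rw [emk] at f3
    exact fix_all j0 (fix_i j0.symm f1) (fix_i (jn j0).2.1 f3) fa))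
  have s := h.sum g _ b
  have b0 : m.b = 0 := by
    have k1 : m.b 0 = 0 := by simpa [em0, pl, Mx.ap, pm, j0.symm] using congrFun (congrArg Prod.fst f2) 0
    have k3 : m.b (-j) = 0 := by
      simpa [emk, pl, Mx.ap, pm, (jn j0).2.1] using congrFun (congrArg Prod.fst f4) (-j)
    exact (by decide : ∀ j : Fin 3, j ≠ 0 → ∀ c : X3, ∑ i, c i = 0 → c 0 = 0 → c (-j) = 0 → c = 0) j j0 _ s k1 k3
  obtain ⟨w, k, rfl⟩ := h.memQ.1 (h.memQ_of_ac (b.congr fun v => by rw [b0, Ym_zero]; rfl))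
  rw [h.pj_q, be_nd (pr j w) fun u => ?_, lb, pj_1 (by rw [← h.l0]; congr 1; simp [em, pl]), one_mul]
  · exact pow_mem (mem_zpowers _) _
  have := f' u
  rw [← q0 z l, h.qcj, ← em_pr j0 (h.cq.1 c), h.add_l, b6_em j0, h.skew, b6_a, (em_j j0 u).2] at this
  simpa using (h.q_inj this).2

theorem a0 : H87.U6.A0 h.zb h.lb h.tb where
  z3 := h.zb3
  z1 e := by
    obtain ⟨m, e⟩ := (pj_eq h.a3).1 (e.trans (pj_one _))
    rw [one_mul, h.ap, ← h.q01, ← q0 z l (pl ..)] at e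
    exact one_ne_zero (h.q_inj e).2
  lz v := by simp only [zb, lb, pj_mul]; exact pj_congr (h.lz _)
  lmul u v := by simp only [zb, lb, pj_mul, pj_pow]; exact pj_congr (by rw [h.lmul, em_add, b6_em h.j0])
  linj v hv := by
    obtain ⟨k, e⟩ := (mem_zp h.zb3).1 hv
    rw [zb, pj_pow, lb, eq_comm] at e
    obtain ⟨m, e⟩ := (pj_eq h.a3).1 e
    rw [h.la, ← h.qz] at e
    rw [← pr_em h.j0 v m, ← (h.q_inj e).1]; rfl
  nQ g hg v := by
    obtain ⟨g, c, rfl⟩ := pj_sur g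
    obtain ⟨w, k, e⟩ := h.nQ g (h.lift_z hg) (em j v)
    refine ⟨_, k, Eq.trans ?_ (h.pj_q (w := w) (k := k)
      (by rw [qq, ← e]; exact cm_mul (cm_mul c (h.lc v)) (cm_inv c)))⟩
    exact (pj_cj c _).trans (pj_congr e)
  cQ g hg e := by
    obtain ⟨g, c, rfl⟩ := pj_sur g
    exact h.cQ' c (h.lift_z hg) e
  t2 := by
    rw [tb, pj_mul]
    exact pj_1 (by rw [mul_assoc, ← mul_assoc (r (-j)), h.toE0.rc (-j) 0, mul_assoc, h.r2, mul_one, h.r2])
  tz := by simp only [zb, tb, pj_mul]; exact pj_congr (cm_mul (h.toE0.rz _) (h.toE0.rz _))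
  tl v := (pj_cj _ _).trans (pj_congr (by rw [← em_neg h.j0]; exact ((h.er 0).mul (h.er _)).act _))
  wc g v k e := by
    obtain ⟨g, c, rfl⟩ := pj_sur g
    rw [zb, lb, pj_pow, pj_cj, pj_mul] at e
    obtain ⟨m, e⟩ := (pj_eq h.a3).1 e
    replace e := e.trans (h.qa (em_j h.j0 v).2 k m)
    by_contra hv
    have f := h.full e fun e => hv (by rw [← pr_em h.j0 v m, e]; rfl)
    have m0 : m ≠ 0 := by simpa [pl, em_j h.j0 v] using f j
    obtain ⟨g1, -, e1⟩ := h.full_conj f k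
    obtain ⟨g2, -, e2⟩ := h.full_conj (v := em j v + pl j m 0 + pl j m 0) (fun i => by
      by_cases n : i = j
      · subst n
        simpa [pl, em_j h.j0 v] using (by decide : ∀ m : F3, m ≠ 0 → m + m ≠ 0) m m0
      · simpa [pl, n] using f i) k
    refine m0 (h.key c ?_)
    rw [e, h.qa (by simp [pl, em_j h.j0 v])]
    exact ((isConj_iff.2 ⟨g, e⟩).trans (isConj_iff.2 ⟨g1, e1⟩)).trans (isConj_iff.2 ⟨g2, e2⟩).symm

theorem exb {g : G} {m : Mx} (d : m.det1) (a : Ex z l (r 0 * r 1 * r 2) g m.ap) {ψ : V → V}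
    (e : ∀ u, m.ap (em j u) = em j (ψ u)) (c : g * l (pl j 1 0) = l (pl j 1 0) * g) :
    H87.U6.Ex h.zb h.lb h.tb (pj g c) ψ :=
  ⟨by simp only [zb, pj_mul]; exact pj_congr a.cz, by
    simp only [tb, pj_mul]; exact pj_congr (cm_mul (h.ex_rc d a _).symm (h.ex_rc d a _).symm).symm,
    fun v => (pj_cj _ _).trans (pj_congr (by rw [a.act, e]))⟩

theorem exY {g : G} {c : X3} (a : Ex z l (r 0 * r 1 * r 2) g (Ym c)) :
    H87.U6.Ex h.zb h.lb h.tb (pj g (h.cJ (h.exJ a))) (H87.U6.Ym (c 0) (c (-j))) :=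
  h.exb (ym_det c) (Ym_eq c ▸ a) (fun u => by
    rcases j12 h.j0 with rfl | rfl <;> ext i <;> fin_cases i <;> simp [em, pl, Mx.ap, H87.U6.Ym]) _

theorem exI : ∃ i1 i2, H87.U6.B0 h.zb h.lb h.tb h.yb i1 i2 ∧ i1 * i1 = pj (r 0) (h.rc' h.j0.symm) := by
  have d : ∀ i, (mI i).det1 := by unfold Mx.det1; decide
  have q : ∀ i, (mI i).q8 := by unfold Mx.q8; decide
  choose ρ ρ4 a using fun i => h.all _ (d i) (q i)
  have c : ∀ i, i ≠ j → ρ i * l (pl j 1 0) = l (pl j 1 0) * ρ i := fun i n => cm_cj.2 (by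
    rw [(a i).act, (by decide +kernel : ∀ i j, i ≠ j → (mI i).ap (pl j 1 0) = pl j 1 0) i j n])
  refine ⟨pj _ (c 0 h.j0.symm), pj _ (c _ (jn h.j0).2.1), ⟨h.a0, ?_, h.exY h.ey, ?_, h.exb (d _) (a _) (fun u => ?_) _,
    ?_, h.exb (d _) (a _) (fun u => ?_) _⟩,
    (pj_mul _ _).trans (pj_congr (h.ex_eq4 ((a 0).mul (a 0)) (h.er 0) (fun v => ?_) ?_ (h.r4 0)))⟩
  · rw [yb, pj_pow]; exact pj_1 h.y3
  · rw [pj_pow]; exact pj_1 (ρ4 _)
  · rcases j12 h.j0 with rfl | rfl <;> ext i <;> fin_cases i <;> simp [em, pl, Mx.ap, mI, H87.U6.I1]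
  · rw [pj_pow]; exact pj_1 (ρ4 _)
  · rcases j12 h.j0 with rfl | rfl <;> ext i <;> fin_cases i <;> simp [em, pl, Mx.ap, mI, H87.U6.I2]
  · ext i <;> fin_cases i <;> simp [Mx.ap, mI, ng, sg]
  · rw [← pow_two, ← pow_mul, mul_comm, pow_mul, ρ4, one_pow]

end Cx

end YAx

end H7.E3
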